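import Cfsg.Agent.Lib.Schur.Basic

/-!
When the Schur covering group is unique.
-/

set_option autoImplicit false
set_option linter.style.haveILetI false

namespace Cfsg.Agent.Schur

open scoped commutatorElement

universe u v w

/-- Two maps which differ centrally differ by a homomorphism. -/
lemma exists_ratio {E : Type u} {X : Type v} {Q : Type w} [Group E] [Group X] [Group Q]
    (ξ : X →* Q) (hc : ξ.ker ≤ Subgroup.center X) (f g : E →* X) (h : ξ.comp f = ξ.comp g) :
    ∃ ψ : E →* X, (∀ x, f x = g x * ψ x) ∧ (∀ x, ψ x ∈ ξ.ker) ∧ commutator E ≤ ψ.ker := by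
  have hk : ∀ x, (g x)⁻¹ * f x ∈ ξ.ker := fun x => by
    rw [MonoidHom.mem_ker, map_mul, map_inv]
    have := DFunLike.congr_fun h x
    simp only [MonoidHom.coe_comp, Function.comp_apply] at this
    rw [this, inv_mul_cancel]
  let ψ : E →* X :=
    { toFun := fun x => (g x)⁻¹ * f x
      map_one' := by simp
      map_mul' := fun x y => by
        have := Subgroup.mem_center_iff.1 (hc (hk x)) (g y)⁻¹
        calc (g (x * y))⁻¹ * f (x * y) = (g y)⁻¹ * ((g x)⁻¹ * f x) * f y := by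
              rw [map_mul, map_mul]; group
          _ = (g x)⁻¹ * f x * ((g y)⁻¹ * f y) := by rw [this]; group }
  refine ⟨ψ, fun x => (mul_inv_cancel_left _ _).symm, hk, fun c hc' => ?_⟩
  show (g c)⁻¹ * f c = 1
  rw [eq_on_commutator ξ hc f g h c hc', inv_mul_cancel]

/-- A covering group as a quotient of the standard cover. -/
lemma exists_cover_map {Q : Type u} [Group Q] [Finite Q] {Γ : Type v} [Group Γ] [Finite Γ]
    (σ : Γ →* Q) (hσ : Cfsg.IsStemExtension σ) (e : Nonempty (Multiplier Q ≃* σ.ker)) :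
    ∃ η : StdCover Q →* Γ, σ.comp η = stdHom Q ∧ Function.Surjective η ∧
      η.ker ≤ (stdHom Q).ker ∧ η.ker ⊓ Multiplier Q = ⊥ ∧
      Multiplier Q ⊔ η.ker = (stdHom Q).ker := by
  obtain ⟨η, hη⟩ := exists_lift (stdPres Q) (MonoidHom.id Q) σ hσ.1 hσ.2.1
  rw [MonoidHom.id_comp] at hη
  have hmap : (Multiplier Q).map η = σ.ker := by
    rw [map_mult (stdPres Q) σ η (stdPres_surjective Q) hσ.2.1 hη, inf_eq_left]
    exact hσ.2.2
  have hle : η.ker ≤ (stdHom Q).ker := fun x hx => by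
    rw [MonoidHom.mem_ker]
    show coverHom (stdPres Q) x = 1
    rw [← hη, MonoidHom.comp_apply, MonoidHom.mem_ker.1 hx, map_one]
  refine ⟨η, hη, surjective_lift_stem (stdPres Q) σ η (stdPres_surjective Q) hσ.2.1 hσ.2.2 hη,
    hle, ?_, le_antisymm (sup_le (mult_le_ker _) hle) fun x hx => ?_⟩
  · let θ : Multiplier Q →* σ.ker := (η.comp (Multiplier Q).subtype).codRestrict _ fun m => by
      rw [← hmap]; exact ⟨m, m.2, rfl⟩
    have hθ : Function.Surjective θ := fun y => by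
      obtain ⟨m, hm, hmy⟩ := (hmap.symm ▸ y.2 : (y : Γ) ∈ (Multiplier Q).map η)
      exact ⟨⟨m, hm⟩, Subtype.ext hmy⟩
    have hbij := hθ.bijective_of_nat_card_le (Nat.card_congr e.some.toEquiv).le
    rw [eq_bot_iff]
    rintro x ⟨hx1, hx2⟩
    rw [Subgroup.mem_bot]
    have : θ ⟨x, hx2⟩ = θ 1 := by
      rw [map_one]; exact Subtype.ext hx1
    exact congrArg Subtype.val (hbij.1 this)
  · have h1 : η x ∈ σ.ker := by
      rw [MonoidHom.mem_ker, ← MonoidHom.comp_apply, hη]; exact hx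
    rw [← hmap] at h1
    obtain ⟨m, hm, hmx⟩ := h1
    rw [show x = m * (m⁻¹ * x) by group]
    refine Subgroup.mul_mem_sup hm ?_
    rw [MonoidHom.mem_ker, map_mul, map_inv, hmx, inv_mul_cancel]

lemma card_cover {Q : Type u} [Group Q] [Finite Q] {Γ : Type v} [Group Γ]
    (σ : Γ →* Q) (hs : Function.Surjective σ) :
    Nat.card Γ = Nat.card Q * Nat.card σ.ker := by
  rw [Subgroup.card_eq_card_quotient_mul_card_subgroup σ.ker,
    Nat.card_congr (QuotientGroup.quotientKerEquivOfSurjective σ hs).toEquiv]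

/-- Coprimality makes all covering groups isomorphic over the group. -/
lemma cover_unique {Q : Type u} [Group Q] [Finite Q] {Γ₁ : Type v} {Γ₂ : Type w} [Group Γ₁]
    [Finite Γ₁] [Group Γ₂] [Finite Γ₂] (σ₁ : Γ₁ →* Q) (σ₂ : Γ₂ →* Q)
    (h₁ : Cfsg.IsStemExtension σ₁) (h₂ : Cfsg.IsStemExtension σ₂)
    (e₁ : Nonempty (Multiplier Q ≃* σ₁.ker)) (e₂ : Nonempty (Multiplier Q ≃* σ₂.ker))
    (hcop : Nat.Coprime (Nat.card (Abelianization Q)) (Nat.card (Multiplier Q))) :
    ∃ e : Γ₁ ≃* Γ₂, σ₂.comp e.toMonoidHom = σ₁ := by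
  obtain ⟨η₁, hη₁, hs₁, hle₁, hinf₁, hsup₁⟩ := exists_cover_map σ₁ h₁ e₁
  obtain ⟨η₂, hη₂, -, -, -, -⟩ := exists_cover_map σ₂ h₂ e₂
  set N := Nat.card (Abelianization Q) with hN
  set M := Nat.card σ₂.ker with hM
  have hcop' : Nat.Coprime N M := by
    rw [hM, ← Nat.card_congr e₂.some.toEquiv]; exact hcop
  -- powers land in the kernel of `η₁` modulo commutators
  have hKC : (stdHom Q).ker ⊔ commutator (StdCover Q) = η₁.ker ⊔ commutator (StdCover Q) := by
    refine le_antisymm (sup_le ?_ le_sup_right) (sup_le (hle₁.trans le_sup_left) le_sup_right)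
    rw [← hsup₁]
    exact sup_le (inf_le_right.trans le_sup_right) le_sup_left
  haveI : η₁.ker.Normal := inferInstance
  have hpow : ∀ x : StdCover Q, ∃ l ∈ η₁.ker, x ^ N * l⁻¹ ∈ commutator (StdCover Q) := by
    intro x
    have h1 : x ^ N ∈ η₁.ker ⊔ commutator (StdCover Q) := by
      rw [← hKC]
      have h2 : stdHom Q x ^ N ∈ commutator Q := by
        rw [← Abelianization.ker_of, MonoidHom.mem_ker, map_pow, hN]
        exact pow_card_eq_one'
      have h3 : (commutator (StdCover Q)).map (stdHom Q) = commutator Q := by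
        rw [commutator_def, Subgroup.map_commutator,
          Subgroup.map_top_of_surjective _ (stdHom_surjective Q), commutator_def]
      rw [← h3] at h2
      obtain ⟨c, hc, hcx⟩ := h2
      rw [show x ^ N = x ^ N * c⁻¹ * c by group]
      refine Subgroup.mul_mem_sup ?_ hc
      rw [MonoidHom.mem_ker, map_mul, map_inv, map_pow, hcx, mul_inv_cancel]
    obtain ⟨l, hl, c, hc, hlc⟩ := Subgroup.mem_sup_of_normal_left.1 h1
    refine ⟨l, hl, ?_⟩
    rw [← hlc]
    exact (inferInstance : (commutator (StdCover Q)).Normal).conj_mem c hc l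
  choose l hl hlc using hpow
  have hη₂c : ∀ z ∈ η₁.ker, η₂ z ∈ σ₂.ker := fun z hz => by
    rw [MonoidHom.mem_ker, ← MonoidHom.comp_apply, hη₂]; exact hle₁ hz
  have huniq : ∀ a b : StdCover Q, a ∈ η₁.ker → b ∈ η₁.ker →
      a * b⁻¹ ∈ commutator (StdCover Q) → a = b := by
    intro a b ha hb hab
    have : a * b⁻¹ ∈ η₁.ker ⊓ Multiplier Q :=
      ⟨Subgroup.mul_mem _ ha (Subgroup.inv_mem _ hb),
        ⟨Subgroup.mul_mem _ (hle₁ ha) (Subgroup.inv_mem _ (hle₁ hb)), hab⟩⟩
    rw [hinf₁, Subgroup.mem_bot, mul_inv_eq_one] at this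
    exact this
  have hof : ∀ x, Abelianization.of (l x) = Abelianization.of x ^ N := fun x => by
    have h := (hlc x)
    rw [← Abelianization.ker_of, MonoidHom.mem_ker, map_mul, map_inv, map_pow,
      mul_inv_eq_one] at h
    exact h.symm
  have hlmul : ∀ x y, l (x * y) = l x * l y := fun x y => by
    refine huniq _ _ (hl _) (Subgroup.mul_mem _ (hl x) (hl y)) ?_
    rw [← Abelianization.ker_of, MonoidHom.mem_ker, map_mul, map_inv, mul_inv_eq_one, map_mul,
      hof, hof, hof, map_mul, mul_pow]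
  have hl1 : l 1 = 1 := by
    have := hlmul 1 1
    rw [one_mul] at this
    exact left_eq_mul.1 this
  have hlker : ∀ z ∈ η₁.ker, l z = z ^ N := fun z hz => by
    refine huniq _ _ (hl _) (Subgroup.pow_mem _ hz _) ?_
    rw [← Abelianization.ker_of, MonoidHom.mem_ker, map_mul, map_inv, mul_inv_eq_one, hof,
      map_pow]
  obtain ⟨u, hu⟩ : ∃ u : ℕ, N * u ≡ 1 [MOD M] := by
    obtain ⟨u, hu⟩ := ((ZMod.isUnit_iff_coprime N M).2 hcop').exists_right_inv
    haveI : NeZero M := ⟨Nat.card_pos.ne'⟩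
    refine ⟨u.val, (ZMod.natCast_eq_natCast_iff _ _ M).1 ?_⟩
    push_cast
    rw [ZMod.natCast_zmod_val, hu]
  have hcen2 : ∀ x, η₂ (l x) ∈ Subgroup.center Γ₂ := fun x => h₂.2.1 (hη₂c _ (hl x))
  let η : StdCover Q →* Γ₂ :=
    { toFun := fun x => η₂ x * ((η₂ (l x)) ^ u)⁻¹
      map_one' := by simp [hl1]
      map_mul' := fun x y => by
        have hcm : Commute (η₂ (l x)) (η₂ (l y)) :=
          (Subgroup.mem_center_iff.1 (hcen2 x) _).symm
        have hc := Subgroup.mem_center_iff.1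
          (inv_mem (pow_mem (hcen2 x) u)) (η₂ y * ((η₂ (l y)) ^ u)⁻¹)
        rw [hlmul, map_mul, map_mul, hcm.mul_pow, mul_inv_rev]
        simp only [mul_assoc] at hc ⊢
        rw [hc] }
  have hker : η₁.ker ≤ η.ker := by
    intro z hz
    show η₂ z * ((η₂ (l z)) ^ u)⁻¹ = 1
    rw [hlker z hz, map_pow, ← pow_mul, mul_inv_eq_one]
    have h2 : η₂ z ^ M = 1 := by
      have h3 : (⟨η₂ z, hη₂c z hz⟩ : σ₂.ker) ^ M = 1 := pow_card_eq_one'
      exact congrArg Subtype.val h3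
    rw [pow_eq_pow_mod (N * u) h2, show N * u % M = 1 % M from hu, ← pow_eq_pow_mod 1 h2, pow_one]
  have hη : σ₂.comp η = stdHom Q := by
    refine MonoidHom.ext fun x => ?_
    show σ₂ (η₂ x * ((η₂ (l x)) ^ u)⁻¹) = _
    rw [map_mul, map_inv, map_pow, MonoidHom.mem_ker.1 (hη₂c _ (hl x)), one_pow, inv_one, mul_one]
    exact DFunLike.congr_fun hη₂ x
  let f : Γ₁ →* Γ₂ := MonoidHom.liftOfSurjective η₁ hs₁ ⟨η, hker⟩
  have hf : ∀ x, f (η₁ x) = η x := fun x =>
    MonoidHom.liftOfRightInverse_comp_apply _ _ (Function.rightInverse_surjInv hs₁) ⟨η, hker⟩ x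
  have hfs : Function.Surjective f := fun y => by
    obtain ⟨x, rfl⟩ := surjective_lift_stem (stdPres Q) σ₂ η (stdPres_surjective Q) h₂.2.1 h₂.2.2 hη y
    exact ⟨η₁ x, hf x⟩
  have hcard : Nat.card Γ₁ ≤ Nat.card Γ₂ := by
    rw [card_cover σ₁ h₁.1, card_cover σ₂ h₂.1, ← Nat.card_congr e₁.some.toEquiv,
      ← Nat.card_congr e₂.some.toEquiv]
  refine ⟨MulEquiv.ofBijective f (hfs.bijective_of_nat_card_le hcard), MonoidHom.ext fun y => ?_⟩
  obtain ⟨x, rfl⟩ := hs₁ y
  show σ₂ (f (η₁ x)) = σ₁ (η₁ x)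
  rw [hf]
  exact (DFunLike.congr_fun hη x).trans (DFunLike.congr_fun hη₁ x).symm

/-- Otherwise there are two covering groups which are not isomorphic over the group. -/
lemma coprime_of_cover_unique {Q : Type u} [Group Q] [Finite Q]
    (huni : ∀ (Γ₁ Γ₂ : Type u) [Group Γ₁] [Finite Γ₁] [Group Γ₂] [Finite Γ₂]
      (σ₁ : Γ₁ →* Q) (σ₂ : Γ₂ →* Q), Cfsg.IsStemExtension σ₁ → Cfsg.IsStemExtension σ₂ →
      Nonempty (σ₁.ker ≃* Multiplier Q) → Nonempty (σ₂.ker ≃* Multiplier Q) →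
      ∃ e : Γ₁ ≃* Γ₂, σ₂.comp e.toMonoidHom = σ₁) :
    Nat.Coprime (Nat.card (Abelianization Q)) (Nat.card (Multiplier Q)) := by
  classical
  refine Nat.coprime_of_dvd fun p hp hpQ hpM => ?_
  haveI := Fact.mk hp
  obtain ⟨q, hq⟩ := exists_prime_orderOf_dvd_card' p hpQ
  obtain ⟨x₀, hx₀⟩ := QuotientGroup.mk'_surjective (commutator Q) q
  obtain ⟨x, rfl⟩ := stdHom_surjective Q x₀
  obtain ⟨a, ha⟩ : ∃ a : Multiplier Q, ∀ y : Multiplier Q, y ^ p ≠ a := by
    by_contra hcon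
    push Not at hcon
    have hinj := Finite.injective_iff_surjective.2 (show Function.Surjective (fun y : Multiplier Q => y ^ p) from hcon)
    obtain ⟨y, hy⟩ := exists_prime_orderOf_dvd_card' p hpM
    have : y = 1 := hinj (show y ^ p = (1 : Multiplier Q) ^ p by
      rw [one_pow, ← hy, pow_orderOf_eq_one])
    rw [this, orderOf_one] at hy
    exact hp.one_lt.ne hy
  obtain ⟨L, hL, hinf, hsup⟩ := exists_complement Q _ le_rfl (sup_eq_right.2 (mult_le_ker _))
  have hcen := stdHom_ker_le_center Q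
  haveI := normal_of_le_center (hL.trans hcen)
  -- the exponent vector of `x` gives an element of `L` which is not a `p`th power
  have h1 : x ^ p ∈ L ⊔ commutator (StdCover Q) := by
    have h2 : stdHom Q x ^ p ∈ commutator Q := by
      rw [← Abelianization.ker_of, MonoidHom.mem_ker, map_pow]
      show (QuotientGroup.mk' (commutator Q) (stdHom Q x)) ^ p = 1
      rw [hx₀, ← hq]
      exact pow_orderOf_eq_one q
    have h3 : (commutator (StdCover Q)).map (stdHom Q) = commutator Q := by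
      rw [commutator_def, Subgroup.map_commutator,
        Subgroup.map_top_of_surjective _ (stdHom_surjective Q), commutator_def]
    rw [← h3] at h2
    obtain ⟨c, hc, hcx⟩ := h2
    rw [show x ^ p = x ^ p * c⁻¹ * c by group]
    refine Subgroup.mul_mem _ ?_ ((le_sup_right : commutator (StdCover Q) ≤ L ⊔ _) hc)
    have h4 : x ^ p * c⁻¹ ∈ Multiplier Q ⊔ L := by
      rw [hsup, MonoidHom.mem_ker, map_mul, map_inv, map_pow, hcx, mul_inv_cancel]
    exact (sup_le (inf_le_right.trans le_sup_right) le_sup_left :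
      Multiplier Q ⊔ L ≤ L ⊔ commutator (StdCover Q)) h4
  obtain ⟨l₀, hl₀, c₀, hc₀, hlc⟩ := Subgroup.mem_sup_of_normal_left.1 h1
  let fL : Additive L →+ (Q → ℤ) := MonoidHom.toAdditiveLeft ((expVec Q).comp L.subtype)
  letI : CommGroup L :=
    { (inferInstance : Group L) with
      mul_comm := fun a b => Subtype.ext (Subgroup.mem_center_iff.1 (hcen (hL b.2)) a) }
  let FL : Additive L →ₗ[ℤ] (Q → ℤ) := fL.toIntLinearMap
  let fl : Additive L →+ LinearMap.range FL := FL.rangeRestrict.toAddMonoidHom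
  obtain ⟨d, b⟩ := Submodule.basisOfPid (Pi.basisFun ℤ Q) (LinearMap.range FL)
  set v₀ := fl (Additive.ofMul (⟨l₀, hl₀⟩ : L)) with hv₀
  obtain ⟨i, hi⟩ : ∃ i, ¬ (p : ℤ) ∣ b.repr v₀ i := by
    by_contra hcon
    push Not at hcon
    choose k hk using hcon
    set w := ∑ i, k i • b i with hw
    have hpw : (p : ℤ) • w = v₀ := by
      rw [hw, Finset.smul_sum]
      conv_rhs => rw [← b.sum_repr v₀]
      refine Finset.sum_congr rfl fun i _ => ?_
      rw [hk, smul_smul]
    obtain ⟨y, hy⟩ := FL.surjective_rangeRestrict w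
    have hy' : (expVec Q (y.toMul : L)).toAdd = (w : Q → ℤ) := congrArg Subtype.val hy
    have hval : (p : ℤ) • (w : Q → ℤ) = (expVec Q l₀).toAdd := congrArg Subtype.val hpw
    have hpx : (expVec Q x).toAdd = (expVec Q (y.toMul : L)).toAdd := by
      refine smul_right_injective (Q → ℤ) (show (p : ℤ) ≠ 0 by exact_mod_cast hp.ne_zero) ?_
      show (p : ℤ) • _ = (p : ℤ) • _
      rw [hy', hval, natCast_zsmul, ← toAdd_pow, ← map_pow, ← hlc, map_mul,
        MonoidHom.mem_ker.1 (commutator_le_ker_expVec Q hc₀), mul_one]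
    have hxy : x * ((y.toMul : L) : StdCover Q)⁻¹ ∈ commutator (StdCover Q) := by
      rw [← ker_expVec Q, MonoidHom.mem_ker, map_mul, map_inv,
        Multiplicative.toAdd.injective hpx, mul_inv_cancel]
    have hq1 : q = 1 := by
      rw [← hx₀]
      apply (QuotientGroup.eq_one_iff _).2
      have h3 : (commutator (StdCover Q)).map (stdHom Q) ≤ commutator Q := by
        rw [commutator_def, Subgroup.map_commutator]
        exact Subgroup.commutator_mono le_top le_top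
      have h5 := h3 ⟨_, hxy, rfl⟩
      rwa [map_mul, map_inv, MonoidHom.mem_ker.1 (hL (y.toMul : L).2), inv_one, mul_one] at h5
    rw [hq1, orderOf_one] at hq
    exact hp.one_lt.ne hq
  -- twist `L` by a homomorphism into the multiplier
  let cf : L → ℤ := fun z => b.repr (fl (Additive.ofMul z)) i
  have hcf : ∀ z z', cf (z * z') = cf z + cf z' := fun z z' => by
    show b.repr (fl (Additive.ofMul z + Additive.ofMul z')) i = _
    rw [map_add, map_add, Finsupp.add_apply]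
  have hcf1 : cf 1 = 0 := by
    show b.repr (fl 0) i = 0
    rw [map_zero, map_zero, Finsupp.zero_apply]
  let τ : L →* StdCover Q :=
    { toFun := fun z => (z : StdCover Q) * ((a ^ cf z : Multiplier Q) : StdCover Q)
      map_one' := by simp [hcf1]
      map_mul' := fun z z' => by
        rw [hcf, zpow_add, Subgroup.coe_mul, Subgroup.coe_mul]
        have := Subgroup.mem_center_iff.1 (mult_le_center _ (a ^ cf z : Multiplier Q).2) (z' : StdCover Q)
        simp only [mul_assoc]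
        rw [← mul_assoc ((a ^ cf z : Multiplier Q) : StdCover Q), ← this]
        simp only [mul_assoc] }
  have hL' : τ.range ≤ (stdHom Q).ker := by
    rintro _ ⟨z, rfl⟩
    exact Subgroup.mul_mem _ (hL z.2) (mult_le_ker _ (a ^ cf z : Multiplier Q).2)
  have hinf' : τ.range ⊓ Multiplier Q = ⊥ := by
    rw [eq_bot_iff]
    rintro _ ⟨⟨z, rfl⟩, hz⟩
    have hz' : (z : StdCover Q) ∈ L ⊓ Multiplier Q :=
      ⟨z.2, (Subgroup.mul_mem_cancel_right _ (a ^ cf z : Multiplier Q).2).1 hz⟩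
    rw [hinf, Subgroup.mem_bot] at hz'
    have hz1 : z = 1 := Subtype.ext hz'
    rw [hz1, map_one]
    exact Subgroup.mem_bot.2 rfl
  have hsup' : Multiplier Q ⊔ τ.range = (stdHom Q).ker := by
    refine le_antisymm (sup_le (mult_le_ker _) hL') ?_
    rw [← hsup]
    refine sup_le le_sup_left fun z hz => ?_
    rw [show z = τ ⟨z, hz⟩ * ((a ^ cf ⟨z, hz⟩ : Multiplier Q) : StdCover Q)⁻¹ from
      (mul_inv_cancel_right _ _).symm]
    exact Subgroup.mul_mem _ ((le_sup_right : τ.range ≤ Multiplier Q ⊔ τ.range) ⟨_, rfl⟩)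
      ((le_sup_left : Multiplier Q ≤ Multiplier Q ⊔ τ.range) (Subgroup.inv_mem _ (a ^ cf ⟨z, hz⟩).2))
  haveI := normal_of_le_center (hL'.trans hcen)
  obtain ⟨hst, hfin, ⟨j⟩⟩ := stem_of_complement Q L hL hinf hsup
  obtain ⟨hst', hfin', ⟨j'⟩⟩ := stem_of_complement Q τ.range hL' hinf' hsup'
  set σ' := QuotientGroup.lift τ.range (stdHom Q) hL' with hσ'
  obtain ⟨e, he⟩ := huni _ _ _ σ' hst hst' ⟨j.symm⟩ ⟨j'.symm⟩
  obtain ⟨ψ, hψ, hψk, hψc⟩ := exists_ratio σ' hst'.2.1 (QuotientGroup.mk' τ.range)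
    (e.toMonoidHom.comp (QuotientGroup.mk' L)) (by
      rw [← MonoidHom.comp_assoc, he]
      rfl)
  have hψL : ∀ z : L, ψ z = QuotientGroup.mk' τ.range
      (((a ^ cf z : Multiplier Q) : StdCover Q))⁻¹ := by
    intro z
    have h2 := hψ z
    rw [MonoidHom.comp_apply, show QuotientGroup.mk' L (z : StdCover Q) = 1 from
      (QuotientGroup.eq_one_iff _).2 z.2, map_one, one_mul] at h2
    rw [← h2, map_inv, eq_inv_iff_mul_eq_one, ← map_mul]
    exact (QuotientGroup.eq_one_iff _).2 ⟨z, rfl⟩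
  obtain ⟨w, hw⟩ := QuotientGroup.mk'_surjective τ.range (ψ x)
  have hwk : w ∈ Multiplier Q ⊔ τ.range := by
    rw [hsup']
    have := hψk x
    rw [← hw] at this
    exact this
  obtain ⟨y, hy, r, hr, rfl⟩ := Subgroup.mem_sup_of_normal_right.1 hwk
  rw [map_mul, show QuotientGroup.mk' τ.range r = 1 from (QuotientGroup.eq_one_iff r).2 hr,
    mul_one] at hw
  have h6 : ψ x ^ p = ψ l₀ := by
    rw [← map_pow, ← hlc, map_mul, MonoidHom.mem_ker.1 (hψc hc₀), mul_one]
  rw [← hw, hψL ⟨l₀, hl₀⟩, ← map_pow] at h6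
  have h7 : ((a ^ cf ⟨l₀, hl₀⟩ : Multiplier Q) : StdCover Q) * y ^ p ∈
      τ.range ⊓ Multiplier Q := by
    refine ⟨(QuotientGroup.eq_one_iff _).1 ?_, Subgroup.mul_mem _ (a ^ cf ⟨l₀, hl₀⟩ : Multiplier Q).2 (Subgroup.pow_mem _ hy _)⟩
    show QuotientGroup.mk' τ.range _ = 1
    rw [map_mul, h6, ← map_mul, mul_inv_cancel, map_one]
  rw [hinf', Subgroup.mem_bot] at h7
  have h8 : a ^ cf ⟨l₀, hl₀⟩ * (⟨y, hy⟩ : Multiplier Q) ^ p = 1 := Subtype.ext h7
  obtain ⟨r', s', hrs⟩ := ((Nat.prime_iff_prime_int.1 hp).coprime_iff_not_dvd.2 hi)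
  refine ha (a ^ r' * (⟨y, hy⟩ : Multiplier Q)⁻¹ ^ s') ?_
  have h9 : a ^ cf ⟨l₀, hl₀⟩ = ((⟨y, hy⟩ : Multiplier Q)⁻¹) ^ (p : ℤ) := by
    rw [zpow_natCast, inv_pow]
    exact eq_inv_of_mul_eq_one_left h8
  calc (a ^ r' * (⟨y, hy⟩ : Multiplier Q)⁻¹ ^ s') ^ p
      = a ^ (r' * (p : ℤ)) * (((⟨y, hy⟩ : Multiplier Q)⁻¹) ^ (p : ℤ)) ^ s' := by
        rw [← zpow_natCast, mul_zpow, ← zpow_mul, ← zpow_mul, ← zpow_mul, mul_comm s' (p : ℤ)]
    _ = a ^ (r' * (p : ℤ) + s' * cf ⟨l₀, hl₀⟩) := by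
        rw [← h9, ← zpow_mul, ← zpow_add, mul_comm (cf _) s']
    _ = a := by
        rw [show r' * (p : ℤ) + s' * cf ⟨l₀, hl₀⟩ = 1 from hrs, zpow_one]

end Cfsg.Agent.Schur
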