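import Cfsg.Agent.Lib.Schur.SylowCriterion
import Mathlib.LinearAlgebra.Matrix.SpecialLinearGroup
import Mathlib.FieldTheory.Finite.Basic
import Mathlib.Algebra.Polynomial.Roots

/-!
Lifts of the root group of `SL₂(q)` to a central extension commute when `q ∉ {4, 9}`.
-/

set_option autoImplicit false
set_option linter.style.haveILetI false

namespace Cfsg.Agent.SL2Root

open scoped commutatorElement
open Polynomial

variable {F : Type*} [Field F]

/-- The upper unitriangular root group. -/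
def rootHom : Multiplicative F →* Matrix.SpecialLinearGroup (Fin 2) F where
  toFun b := ⟨!![1, b.toAdd; 0, 1], by simp⟩
  map_one' := Subtype.ext (by ext i j; fin_cases i <;> fin_cases j <;> simp)
  map_mul' a b := Subtype.ext (by
    show !![1, a.toAdd + b.toAdd; 0, 1] = !![1, a.toAdd; 0, 1] * !![1, b.toAdd; 0, (1 : F)]
    ext i j; fin_cases i <;> fin_cases j <;> simp [Matrix.mul_apply, Fin.sum_univ_two, add_comm])

theorem rootHom_injective : Function.Injective (rootHom (F := F)) := fun a b h => by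
  have := congrArg (fun g : Matrix.SpecialLinearGroup (Fin 2) F => g.1 0 1) h
  exact this

/-- The root group. -/
def rootSub : Subgroup (Matrix.SpecialLinearGroup (Fin 2) F) := (rootHom (F := F)).range

theorem card_rootSub : Nat.card (rootSub (F := F)) = Nat.card F := by
  rw [rootSub, ← Nat.card_congr (MonoidHom.ofInjective rootHom_injective).toEquiv]
  exact Nat.card_congr Multiplicative.toAdd

/-- The torus element of a unit. -/
def tor (s : Fˣ) : Matrix.SpecialLinearGroup (Fin 2) F :=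
  ⟨!![(s : F), 0; 0, ((s⁻¹ : Fˣ) : F)], by simp⟩

theorem tor_conj (s : Fˣ) (b : F) :
    tor s * rootHom (Multiplicative.ofAdd b) * (tor s)⁻¹ =
      rootHom (Multiplicative.ofAdd ((s : F) ^ 2 * b)) := by
  rw [mul_inv_eq_iff_eq_mul]
  apply Subtype.ext
  show !![(s : F), 0; 0, ((s⁻¹ : Fˣ) : F)] * !![1, b; 0, 1] =
    !![1, (s : F) ^ 2 * b; 0, 1] * !![(s : F), 0; 0, ((s⁻¹ : Fˣ) : F)]
  ext i j
  fin_cases i <;> fin_cases j <;> simp [Matrix.mul_apply, Fin.sum_univ_two]
  field_simp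

/-- An additive function of two variables twisted by `k` and `μ` vanishes unless `μ` is a
Frobenius conjugate of `k`. -/
theorem biadd_eq_zero [Fintype F] {p e : ℕ} [hp : Fact p.Prime] [CharP F p] (he : 0 < e)
    (hcard : Fintype.card F = p ^ e) {A : Type*} [AddCommGroup A] (φ : F →+ F →+ A) (k μ : F)
    (hinv : ∀ b a, φ b (k * a) = φ (μ * b) a) (hne : ∀ j < e, μ ≠ k ^ p ^ j) (b a : F) :
    φ b a = 0 := by
  classical
  let g : F[X] := ∏ j ∈ Finset.range e, (X - C (k ^ p ^ j))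
  have hfrob : g.map (frobenius F p) = g := by
    simp only [g, Polynomial.map_prod, Polynomial.map_sub, Polynomial.map_X, Polynomial.map_C,
      frobenius_def, ← pow_mul, ← pow_succ]
    obtain ⟨d, rfl⟩ : ∃ d, e = d + 1 := ⟨e - 1, by omega⟩
    rw [Finset.prod_range_succ, Finset.prod_range_succ' (n := d)]
    congr 1
    rw [pow_zero, pow_one, ← hcard, FiniteField.pow_card]
  have hcoeff : ∀ i, ∃ c : ℕ, (c : F) = g.coeff i := by
    intro i
    have h := congrArg (fun q => Polynomial.coeff q i) hfrob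
    simp only [Polynomial.coeff_map, frobenius_def] at h
    obtain ⟨n, hn⟩ := (mem_bot_iff_intCast p F).1
      ((Subfield.mem_bot_iff_pow_eq_self (F := F) (p := p)).2 h)
    refine ⟨(n : ZMod p).val, ?_⟩
    rw [← hn, ← ZMod.cast_intCast' (R := F) (n := p) n]
    exact ZMod.natCast_val _
  choose c hc using hcoeff
  have heval : ∀ x : F, g.eval x = ∑ i ∈ Finset.range (g.natDegree + 1), c i • x ^ i := by
    intro x
    rw [Polynomial.eval_eq_sum_range]
    exact Finset.sum_congr rfl fun i _ => by rw [← hc, nsmul_eq_mul]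
  have hgk : g.eval k = 0 := by
    simp only [g, Polynomial.eval_prod]
    exact Finset.prod_eq_zero (Finset.mem_range.mpr he) (by simp)
  have hgμ : g.eval μ ≠ 0 := by
    simp only [g, Polynomial.eval_prod, Finset.prod_ne_zero_iff]
    intro j hj
    simpa [sub_eq_zero] using hne j (Finset.mem_range.mp hj)
  have hiter : ∀ i b a, φ b (k ^ i * a) = φ (μ ^ i * b) a := by
    intro i
    induction i with
    | zero => simp
    | succ i ih => intro b a; rw [pow_succ', mul_assoc, hinv, ih, pow_succ, mul_assoc]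
  have key : ∀ b, φ (g.eval μ * b) a = 0 := fun b => by
    have h1 : φ (g.eval μ * b) a = φ b (g.eval k * a) := by
      simp only [heval, Finset.sum_mul, map_sum, AddMonoidHom.finsetSum_apply, smul_mul_assoc,
        map_nsmul, AddMonoidHom.nsmul_apply, hiter]
    rw [h1, hgk, zero_mul, map_zero]
  have := key ((g.eval μ)⁻¹ * b)
  rwa [mul_inv_cancel_left₀ hgμ] at this

theorem comm_congr {G : Type*} [Group G] {z w : G} (hz : z ∈ Subgroup.center G)
    (hw : w ∈ Subgroup.center G) (x y : G) : ⁅x * z, y * w⁆ = ⁅x, y⁆ := by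
  have e1 : ∀ u v c : G, c ∈ Subgroup.center G → ⁅u * c, v⁆ = ⁅u, v⁆ := fun u v c hc => by
    calc ⁅u * c, v⁆ = u * (c * v) * c⁻¹ * u⁻¹ * v⁻¹ := by rw [commutatorElement_def]; group
      _ = u * (v * c) * c⁻¹ * u⁻¹ * v⁻¹ := by rw [Subgroup.mem_center_iff.1 hc v]
      _ = ⁅u, v⁆ := by rw [commutatorElement_def]; group
  rw [e1 _ _ _ hz, ← commutatorElement_inv, e1 _ _ _ hw, commutatorElement_inv]

theorem comm_mul_left {G : Type*} [Group G] {a b c : G} (h : ⁅b, c⁆ ∈ Subgroup.center G) :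
    ⁅a * b, c⁆ = ⁅a, c⁆ * ⁅b, c⁆ := by
  rw [Subgroup.mem_center_iff.1 h ⁅a, c⁆]
  calc ⁅a * b, c⁆ = a * ⁅b, c⁆ * a⁻¹ * ⁅a, c⁆ := by simp only [commutatorElement_def]; group
    _ = ⁅b, c⁆ * ⁅a, c⁆ := by rw [Subgroup.mem_center_iff.1 h a, mul_inv_cancel_right]

theorem comm_mul_right {G : Type*} [Group G] {a b c : G} (h : ⁅a, c⁆ ∈ Subgroup.center G) :
    ⁅a, b * c⁆ = ⁅a, b⁆ * ⁅a, c⁆ := by
  calc ⁅a, b * c⁆ = ⁅a, b⁆ * (b * ⁅a, c⁆ * b⁻¹) := by simp only [commutatorElement_def]; group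
    _ = ⁅a, b⁆ * ⁅a, c⁆ := by rw [Subgroup.mem_center_iff.1 h b, mul_inv_cancel_right]

/-- The order of a square of a generator does not divide `p ^ j + 1`. -/
theorem not_dvd_frobenius {p e j : ℕ} (hp : p.Prime) (he : 2 ≤ e) (h4 : p ^ e ≠ 4)
    (h9 : p ^ e ≠ 9) (hj : j < e) :
    ¬ (p ^ e - 1) / Nat.gcd (p ^ e - 1) 2 ∣ p ^ j + 1 := by
  intro hd
  obtain ⟨d, rfl⟩ : ∃ d, e = d + 2 := ⟨e - 2, by omega⟩
  have hjd : p ^ j ≤ p ^ (d + 1) := Nat.pow_le_pow_right hp.pos (by omega)
  have hle := Nat.le_of_dvd (by positivity) hd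
  have hpp : p ^ (d + 2) = p * p ^ (d + 1) := by rw [pow_succ]; ring
  have hp2 := hp.two_le
  have hge : p ≤ p ^ (d + 1) := Nat.le_self_pow (by omega) p
  rcases hp.eq_two_or_odd' with rfl | hodd
  · have h1 : Nat.gcd (2 ^ (d + 2) - 1) 2 = 1 := by
      have ho : Odd (2 ^ (d + 2) - 1) :=
        Nat.Even.sub_odd Nat.one_le_two_pow ((Nat.even_pow).2 ⟨even_two, by omega⟩) odd_one
      exact Nat.coprime_two_right.2 ho
    rw [h1, Nat.div_one] at hle
    have : d ≠ 0 := by rintro rfl; norm_num at h4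
    have h8 : 4 ≤ 2 ^ (d + 1) := by
      calc 4 = 2 ^ 2 := by norm_num
        _ ≤ 2 ^ (d + 1) := Nat.pow_le_pow_right (by norm_num) (by omega)
    omega
  · have h3 : 3 ≤ p := by
      rcases hodd with ⟨t, rfl⟩; omega
    have hev : Nat.gcd (p ^ (d + 2) - 1) 2 = 2 := by
      refine Nat.gcd_eq_right ?_
      have ho : Odd (p ^ (d + 2)) := hodd.pow
      rcases ho with ⟨t, ht⟩
      omega
    rw [hev] at hle
    rcases eq_or_ne d 0 with rfl | hd0
    · rcases eq_or_ne p 3 with rfl | hp3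
      · norm_num at h9
      · have h5 : 5 ≤ p := by rcases hodd with ⟨t, rfl⟩; omega
        simp only [zero_add, pow_one] at hjd hle hpp
        have : 5 * p ≤ p ^ 2 := by rw [pow_two]; exact Nat.mul_le_mul_right p h5
        omega
    · have h9' : 9 ≤ p ^ (d + 1) := by
        calc 9 = 3 ^ 2 := by norm_num
          _ ≤ p ^ 2 := Nat.pow_le_pow_left h3 2
          _ ≤ p ^ (d + 1) := Nat.pow_le_pow_right hp.pos (by omega)
      have : 3 * p ^ (d + 1) ≤ p ^ (d + 2) := by rw [hpp]; exact Nat.mul_le_mul_right _ h3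
      omega

/-- Lifts of the root group commute. -/
theorem lift_commute [Fintype F] {p e : ℕ} [hp : Fact p.Prime] [CharP F p] (he : 2 ≤ e)
    (hcard : Fintype.card F = p ^ e) (h4 : p ^ e ≠ 4) (h9 : p ^ e ≠ 9) {X : Type*} [Group X]
    (ξ : X →* Matrix.SpecialLinearGroup (Fin 2) F) (hs : Function.Surjective ξ)
    (hc : ξ.ker ≤ Subgroup.center X) :
    ∀ x ∈ rootSub.comap ξ, ∀ y ∈ rootSub.comap ξ, ⁅x, y⁆ = 1 := by
  classical
  let L : F → X := fun a => Function.surjInv hs (rootHom (Multiplicative.ofAdd a))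
  have hL : ∀ a, ξ (L a) = rootHom (Multiplicative.ofAdd a) := fun a => Function.surjInv_eq hs _
  have hker : ∀ a b, ξ ⁅L a, L b⁆ = 1 := fun a b => by
    rw [map_commutatorElement ξ, hL, hL, commutatorElement_eq_one_iff_mul_comm,
      ← map_mul rootHom, ← map_mul rootHom, mul_comm]
  have hcen : ∀ a b, ⁅L a, L b⁆ ∈ Subgroup.center X := fun a b => hc (hker a b)
  have hdiff : ∀ x y : X, ξ x = ξ y → ∃ z ∈ Subgroup.center X, x = y * z := fun x y h =>
    ⟨y⁻¹ * x, hc (by rw [MonoidHom.mem_ker, map_mul, map_inv, h, inv_mul_cancel]), by group⟩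
  have hadd : ∀ a b, ∃ z ∈ Subgroup.center X, L (a + b) = L a * L b * z := fun a b =>
    hdiff _ _ (by rw [map_mul ξ, hL, hL, hL, ← map_mul rootHom, ofAdd_add])
  letI : CommGroup (Subgroup.center X) :=
    { (inferInstance : Group (Subgroup.center X)) with
      mul_comm := fun a b => Subtype.ext (Subgroup.mem_center_iff.1 b.2 a.1) }
  let φ : F →+ F →+ Additive (Subgroup.center X) :=
    AddMonoidHom.mk' (fun a => AddMonoidHom.mk'
      (fun b => Additive.ofMul (⟨⁅L a, L b⁆, hcen a b⟩ : Subgroup.center X))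
      (fun b b' => by
        apply Additive.toMul.injective
        apply Subtype.ext
        obtain ⟨z, hz, hb⟩ := hadd b b'
        show ⁅L a, L (b + b')⁆ = ⁅L a, L b⁆ * ⁅L a, L b'⁆
        rw [hb]
        have := comm_congr (Subgroup.one_mem _) hz (L a) (L b * L b')
        rw [mul_one] at this
        rw [this, comm_mul_right (hcen a b')]))
      (fun a a' => by
        refine AddMonoidHom.ext fun b => ?_
        apply Additive.toMul.injective
        apply Subtype.ext
        obtain ⟨z, hz, ha⟩ := hadd a a'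
        show ⁅L (a + a'), L b⁆ = ⁅L a, L b⁆ * ⁅L a', L b⁆
        rw [ha]
        have := comm_congr hz (Subgroup.one_mem _) (L a * L a') (L b)
        rw [mul_one] at this
        rw [this, comm_mul_left (hcen a' b)])
  obtain ⟨s, hs'⟩ := IsCyclic.exists_ofOrder_eq_natCard (α := Fˣ)
  obtain ⟨D, hD⟩ := hs (tor s)
  have hconj : ∀ a b, φ ((s : F) ^ 2 * a) ((s : F) ^ 2 * b) = φ a b := by
    intro a b
    apply Additive.toMul.injective
    apply Subtype.ext
    show ⁅L ((s : F) ^ 2 * a), L ((s : F) ^ 2 * b)⁆ = ⁅L a, L b⁆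
    obtain ⟨z, hz, h1⟩ := hdiff (L ((s : F) ^ 2 * a)) (D * L a * D⁻¹)
      (by rw [hL, map_mul ξ, map_mul ξ, map_inv ξ, hD, hL, tor_conj])
    obtain ⟨w, hw, h2⟩ := hdiff (L ((s : F) ^ 2 * b)) (D * L b * D⁻¹)
      (by rw [hL, map_mul ξ, map_mul ξ, map_inv ξ, hD, hL, tor_conj])
    rw [h1, h2, comm_congr hz hw, ← conjugate_commutatorElement,
      Subgroup.mem_center_iff.1 (hcen a b) D, mul_inv_cancel_right]
  have hs0 : (s : F) ^ 2 ≠ 0 := pow_ne_zero _ s.ne_zero
  have hzero : ∀ a b, φ a b = 0 := by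
    refine biadd_eq_zero (p := p) (e := e) (by omega) hcard φ ((s : F) ^ 2) ((s : F) ^ 2)⁻¹
      (fun b a => ?_) (fun j hj heq => ?_)
    · have h := hconj (((s : F) ^ 2)⁻¹ * b) a
      rwa [mul_inv_cancel_left₀ hs0] at h
    · have h1 : ((s : F) ^ 2) ^ (p ^ j + 1) = 1 := by
        rw [pow_succ, ← heq, inv_mul_cancel₀ hs0]
      have h2 : orderOf (s ^ 2 : Fˣ) ∣ p ^ j + 1 := by
        apply orderOf_dvd_of_pow_eq_one
        exact Units.ext (by simpa using h1)
      rw [orderOf_pow, hs', Nat.card_units, Nat.card_eq_fintype_card, hcard] at h2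
      exact not_dvd_frobenius hp.out he h4 h9 hj h2
  intro x hx y hy
  obtain ⟨a, ha⟩ := hx
  obtain ⟨b, hb⟩ := hy
  obtain ⟨z, hz, rfl⟩ := hdiff x (L a.toAdd) (by rw [hL, ofAdd_toAdd, ha])
  obtain ⟨w, hw, rfl⟩ := hdiff y (L b.toAdd) (by rw [hL, ofAdd_toAdd, hb])
  rw [comm_congr hz hw]
  exact congrArg Subtype.val (congrArg Additive.toMul (hzero a.toAdd b.toAdd))

end Cfsg.Agent.SL2Root
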