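import Cfsg.Agent.Lib.Schur.Basic

/-!
Tools for computing Schur multipliers: bilinear central extensions, commutator bounds from
generators, pullbacks, extension of characters with values in `ℂˣ`.
-/

set_option autoImplicit false
set_option linter.style.haveILetI false

namespace Cfsg.Agent.Schur

open scoped commutatorElement

universe u v w

/-- The central extension of `X₁ × X₂` by `T` with cocycle given by a bilinear map `β`. -/
@[ext]
structure BilExt {X₁ : Type u} {X₂ : Type v} {T : Type w} [Group X₁] [Group X₂] [AddCommGroup T]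
    (β : Additive X₁ →+ Additive X₂ →+ T) where
  fst : X₁
  snd : X₂
  cen : T

namespace BilExt

variable {X₁ : Type u} {X₂ : Type v} {T : Type w} [Group X₁] [Group X₂] [AddCommGroup T]
  (β : Additive X₁ →+ Additive X₂ →+ T)

instance instMulBilExt : Mul (BilExt β) :=
  ⟨fun x y => ⟨x.fst * y.fst, x.snd * y.snd,
    x.cen + y.cen + β (Additive.ofMul x.fst) (Additive.ofMul y.snd)⟩⟩
instance instOneBilExt : One (BilExt β) := ⟨⟨1, 1, 0⟩⟩
instance instInvBilExt : Inv (BilExt β) :=
  ⟨fun x => ⟨x.fst⁻¹, x.snd⁻¹, -x.cen + β (Additive.ofMul x.fst) (Additive.ofMul x.snd)⟩⟩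

variable {β}

@[simp] lemma mul_fst (x y : BilExt β) : (x * y).fst = x.fst * y.fst := rfl
@[simp] lemma mul_snd (x y : BilExt β) : (x * y).snd = x.snd * y.snd := rfl
@[simp] lemma mul_cen (x y : BilExt β) :
    (x * y).cen = x.cen + y.cen + β (Additive.ofMul x.fst) (Additive.ofMul y.snd) := rfl
@[simp] lemma one_fst : (1 : BilExt β).fst = 1 := rfl
@[simp] lemma one_snd : (1 : BilExt β).snd = 1 := rfl
@[simp] lemma one_cen : (1 : BilExt β).cen = 0 := rfl
@[simp] lemma inv_fst (x : BilExt β) : x⁻¹.fst = x.fst⁻¹ := rfl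
@[simp] lemma inv_snd (x : BilExt β) : x⁻¹.snd = x.snd⁻¹ := rfl
@[simp] lemma inv_cen (x : BilExt β) :
    x⁻¹.cen = -x.cen + β (Additive.ofMul x.fst) (Additive.ofMul x.snd) := rfl

variable (β)

instance instGroupBilExt : Group (BilExt β) where
  mul_assoc x y z := by
    refine BilExt.ext (mul_assoc ..) (mul_assoc ..) ?_
    simp only [mul_cen, mul_fst, mul_snd, ofMul_mul, map_add, AddMonoidHom.add_apply]
    abel
  one_mul x := by ext <;> simp
  mul_one x := by ext <;> simp
  inv_mul_cancel x := by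
    ext <;> simp [ofMul_inv]

/-- The projection onto `X₁ × X₂`. -/
def proj : BilExt β →* X₁ × X₂ where
  toFun x := (x.fst, x.snd)
  map_one' := rfl
  map_mul' _ _ := rfl

lemma proj_surjective : Function.Surjective (proj β) := fun q => ⟨⟨q.1, q.2, 0⟩, rfl⟩

lemma mem_ker_proj {x : BilExt β} : x ∈ (proj β).ker ↔ x.fst = 1 ∧ x.snd = 1 := by
  rw [MonoidHom.mem_ker, Prod.ext_iff]; rfl

lemma ker_proj_le_center : (proj β).ker ≤ Subgroup.center (BilExt β) := by
  intro z hz
  obtain ⟨h1, h2⟩ := (mem_ker_proj β).1 hz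
  rw [Subgroup.mem_center_iff]
  intro g
  ext <;> simp [h1, h2, add_comm]

lemma commutator_pair (a : X₁) (b : X₂) :
    ⁅(⟨a, 1, 0⟩ : BilExt β), (⟨1, b, 0⟩ : BilExt β)⁆ =
      ⟨1, 1, β (Additive.ofMul a) (Additive.ofMul b)⟩ := by
  rw [commutatorElement_def]
  ext <;> simp [ofMul_inv]

/-- Every value of the bilinear map gives an element of `ker ∩ commutator`. -/
lemma mem_ker_inf_commutator (a : X₁) (b : X₂) :
    (⟨1, 1, β (Additive.ofMul a) (Additive.ofMul b)⟩ : BilExt β) ∈
      (proj β).ker ⊓ commutator (BilExt β) := by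
  refine ⟨(mem_ker_proj β).2 ⟨rfl, rfl⟩, ?_⟩
  rw [← commutator_pair]
  exact Subgroup.commutator_mem_commutator (Subgroup.mem_top _) (Subgroup.mem_top _)

/-- The central embedding of `T`. -/
def cenHom : Multiplicative T →* BilExt β where
  toFun t := ⟨1, 1, t.toAdd⟩
  map_one' := rfl
  map_mul' s t := by ext <;> simp

lemma cenHom_injective : Function.Injective (cenHom β) :=
  fun _ _ h => congrArg BilExt.cen h

/-- The kernel meets the commutator subgroup in all of `T` when values of `β` generate `T`. -/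
lemma range_cenHom_le (hgen : AddSubgroup.closure (Set.range fun p : X₁ × X₂ =>
      β (Additive.ofMul p.1) (Additive.ofMul p.2)) = ⊤) :
    (cenHom β).range ≤ (proj β).ker ⊓ commutator (BilExt β) := by
  rintro _ ⟨t, rfl⟩
  have ht : t.toAdd ∈ AddSubgroup.closure (Set.range fun p : X₁ × X₂ =>
      β (Additive.ofMul p.1) (Additive.ofMul p.2)) := by rw [hgen]; trivial
  suffices H : ∀ s : T, s ∈ AddSubgroup.closure (Set.range fun p : X₁ × X₂ =>
      β (Additive.ofMul p.1) (Additive.ofMul p.2)) →
      cenHom β (Multiplicative.ofAdd s) ∈ (proj β).ker ⊓ commutator (BilExt β) from H _ ht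
  intro s hs
  induction hs using AddSubgroup.closure_induction with
  | mem x hx =>
    obtain ⟨p, rfl⟩ := hx
    exact mem_ker_inf_commutator β p.1 p.2
  | zero => rw [ofAdd_zero, map_one]; exact Subgroup.one_mem _
  | add x y _ _ hx hy => rw [ofAdd_add, map_mul]; exact Subgroup.mul_mem _ hx hy
  | neg x _ hx => rw [ofAdd_neg, map_inv]; exact Subgroup.inv_mem _ hx

end BilExt

/-- If a central extension is generated modulo the kernel by `a`, `b`, then a normal subgroup
containing `⁅a, b⁆` contains the commutator subgroup. -/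
lemma commutator_le_of_pair {X : Type u} [Group X] {Q : Type v} [Group Q] (ξ : X →* Q)
    (hc : ξ.ker ≤ Subgroup.center X) (a b : X) (hgen : Subgroup.closure {ξ a, ξ b} = ⊤)
    (N : Subgroup X) [N.Normal] (hab : ⁅a, b⁆ ∈ N) : commutator X ≤ N := by
  let q := QuotientGroup.mk' N
  have hX : Subgroup.closure ({a, b} : Set X) ⊔ ξ.ker = ⊤ := by
    rw [← Subgroup.comap_map_eq, MonoidHom.map_closure, Set.image_pair, hgen]
    rfl
  have hcomm : q a * q b = q b * q a := by
    rw [← commutatorElement_eq_one_iff_mul_comm, ← map_commutatorElement]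
    exact (QuotientGroup.eq_one_iff _).2 hab
  have hgen' : ∀ C : Subgroup (X ⧸ N), q a ∈ C → q b ∈ C → ξ.ker.map q ≤ C → C = ⊤ := by
    intro C ha hb hk
    rw [eq_top_iff, ← Subgroup.map_top_of_surjective q (QuotientGroup.mk'_surjective N), ← hX,
      Subgroup.map_sup]
    refine sup_le ?_ hk
    rw [MonoidHom.map_closure, Subgroup.closure_le, Set.image_pair]
    exact Set.insert_subset ha (Set.singleton_subset_iff.2 hb)
  have hkc : ξ.ker.map q ≤ Subgroup.center (X ⧸ N) := by
    rintro _ ⟨k, hk, rfl⟩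
    rw [Subgroup.mem_center_iff]
    intro y
    obtain ⟨x, rfl⟩ := QuotientGroup.mk'_surjective N y
    rw [← map_mul, ← map_mul, Subgroup.mem_center_iff.1 (hc hk) x]
  have h1 : Subgroup.centralizer ({q a, q b} : Set (X ⧸ N)) = ⊤ := by
    refine hgen' _ ?_ ?_ (hkc.trans (Subgroup.center_le_centralizer _))
    · rw [Subgroup.mem_centralizer_iff]
      rintro g (rfl | rfl)
      · rfl
      · exact hcomm.symm
    · rw [Subgroup.mem_centralizer_iff]
      rintro g (rfl | rfl)
      · exact hcomm
      · rfl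
  have hmem : ∀ g ∈ ({q a, q b} : Set (X ⧸ N)), g ∈ Subgroup.center (X ⧸ N) := by
    intro g hg
    rw [Subgroup.mem_center_iff]
    intro y
    have hy : y ∈ Subgroup.centralizer ({q a, q b} : Set (X ⧸ N)) := by rw [h1]; trivial
    exact (Subgroup.mem_centralizer_iff.1 hy g hg).symm
  have h2 : Subgroup.center (X ⧸ N) = ⊤ :=
    hgen' _ (hmem _ (Or.inl rfl)) (hmem _ (Or.inr rfl)) hkc
  rw [commutator_def, Subgroup.commutator_le]
  intro x _ y _
  rw [← QuotientGroup.eq_one_iff (N := N), show ((⁅x, y⁆ : X) : X ⧸ N) = ⁅q x, q y⁆ from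
    map_commutatorElement q x y, commutatorElement_eq_one_iff_mul_comm]
  exact Subgroup.mem_center_iff.1 (h2 ▸ Subgroup.mem_top _) _

section Pullback

variable {G : Type u} {X : Type v} {Q : Type w} [Group G] [Group X] [Group Q]
  (π : G →* Q) (ξ : X →* Q)

/-- The pullback of `π` and `ξ`. -/
def pullback : Subgroup (G × X) :=
  (π.comp (MonoidHom.fst G X)).eqLocus (ξ.comp (MonoidHom.snd G X))

lemma mem_pullback {p : G × X} : p ∈ pullback π ξ ↔ π p.1 = ξ p.2 := Iff.rfl

/-- The first projection of the pullback. -/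
def pbFst : pullback π ξ →* G := (MonoidHom.fst G X).comp (pullback π ξ).subtype

/-- The second projection of the pullback. -/
def pbSnd : pullback π ξ →* X := (MonoidHom.snd G X).comp (pullback π ξ).subtype

lemma pb_comm (p : pullback π ξ) : π (pbFst π ξ p) = ξ (pbSnd π ξ p) := p.2

lemma pbFst_surjective (hs : Function.Surjective ξ) : Function.Surjective (pbFst π ξ) := fun g =>
  ⟨⟨(g, (hs (π g)).choose), (hs (π g)).choose_spec.symm⟩, rfl⟩

lemma pbSnd_surjective (hs : Function.Surjective π) : Function.Surjective (pbSnd π ξ) := fun x =>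
  ⟨⟨((hs (ξ x)).choose, x), (hs (ξ x)).choose_spec⟩, rfl⟩

lemma ker_pbFst_le_center (hc : ξ.ker ≤ Subgroup.center X) :
    (pbFst π ξ).ker ≤ Subgroup.center (pullback π ξ) := by
  intro p hp
  have h1 : p.1.1 = 1 := hp
  have h2 : p.1.2 ∈ Subgroup.center X := hc (show ξ p.1.2 = 1 by
    have h3 : π p.1.1 = ξ p.1.2 := p.2
    rw [← h3, h1, map_one])
  rw [Subgroup.mem_center_iff]
  intro r
  refine Subtype.ext (Prod.ext ?_ (Subgroup.mem_center_iff.1 h2 _))
  show r.1.1 * p.1.1 = p.1.1 * r.1.1
  rw [h1, mul_one, one_mul]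

/-- With trivial multiplier the commutator subgroup of the pullback maps isomorphically. -/
lemma exists_commutator_lift [Finite G] (hG : Cfsg.HasCyclicSchurMultiplier G 1)
    (hs : Function.Surjective ξ) (hc : ξ.ker ≤ Subgroup.center X) :
    ∃ η : commutator G →* pullback π ξ, (∀ c : commutator G, pbFst π ξ (η c) = c) ∧
      η.range = commutator (pullback π ξ) := by
  have hbot := inf_commutator_eq_bot hG (pbFst π ξ) (pbFst_surjective π ξ hs)
    (ker_pbFst_le_center π ξ hc)
  have hmap : (commutator (pullback π ξ)).map (pbFst π ξ) = commutator G := by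
    rw [commutator_def, Subgroup.map_commutator,
      Subgroup.map_top_of_surjective _ (pbFst_surjective π ξ hs), commutator_def]
  let f : commutator (pullback π ξ) →* commutator G :=
    ((pbFst π ξ).comp (commutator (pullback π ξ)).subtype).codRestrict _
      (fun p => hmap ▸ ⟨p, p.2, rfl⟩)
  have hf : Function.Bijective f := by
    refine ⟨(injective_iff_map_eq_one f).2 fun p hp => ?_, fun c => ?_⟩
    · have h1 : (p : pullback π ξ) ∈ (pbFst π ξ).ker ⊓ commutator (pullback π ξ) :=
        ⟨congrArg Subtype.val hp, p.2⟩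
      rw [hbot, Subgroup.mem_bot] at h1
      exact Subtype.ext h1
    · obtain ⟨p, hp, hpc⟩ := (hmap.symm ▸ c.2 :
        (c : G) ∈ (commutator (pullback π ξ)).map (pbFst π ξ))
      exact ⟨⟨p, hp⟩, Subtype.ext hpc⟩
  refine ⟨(commutator (pullback π ξ)).subtype.comp (MulEquiv.ofBijective f hf).symm.toMonoidHom,
    fun c => ?_, ?_⟩
  · exact congrArg Subtype.val ((MulEquiv.ofBijective f hf).apply_symm_apply c)
  · refine le_antisymm ?_ fun p hp => ?_
    · rintro _ ⟨c, rfl⟩; exact ((MulEquiv.ofBijective f hf).symm c).2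
    · exact ⟨f ⟨p, hp⟩,
        congrArg Subtype.val ((MulEquiv.ofBijective f hf).symm_apply_apply ⟨p, hp⟩)⟩

end Pullback

/-- Characters with values in `ℂˣ` extend along injective maps of commutative groups. -/
lemma exists_extend_units {A : Type u} {B : Type v} [CommGroup A] [CommGroup B] (i : A →* B)
    (hi : Function.Injective i) (χ : A →* ℂˣ) : ∃ ψ : B →* ℂˣ, ψ.comp i = χ := by
  haveI : DivisibleBy (Additive ℂˣ) ℕ :=
    divisibleByOfSMulRightSurj (Additive ℂˣ) ℕ fun {n} hn x => by
      obtain ⟨z, hz⟩ := IsAlgClosed.exists_pow_nat_eq ((x.toMul : ℂˣ) : ℂ) (Nat.pos_of_ne_zero hn)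
      have hz0 : z ≠ 0 := by
        intro h
        rw [h, zero_pow hn] at hz
        exact Units.ne_zero _ hz.symm
      exact ⟨Additive.ofMul (Units.mk0 z hz0), Additive.toMul.injective (Units.ext (by simpa using hz))⟩
  haveI : DivisibleBy (Additive ℂˣ) ℤ := AddGroup.divisibleByIntOfDivisibleByNat _
  obtain ⟨g, hg⟩ := (Module.Baer.of_divisible (Additive ℂˣ)).extension_property_addMonoidHom
    (MonoidHom.toAdditive i) (fun a b h => hi h) (MonoidHom.toAdditive χ)
  exact ⟨MonoidHom.toAdditive.symm g, MonoidHom.ext fun a => DFunLike.congr_fun hg a⟩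

end Cfsg.Agent.Schur
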