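import Cfsg.Agent.Lib.Schur.SL2Root
import Cfsg.Agent.S3961

/-!
The multiplier of a quotient of a perfect group with trivial multiplier by a central subgroup.
-/

set_option autoImplicit false
set_option linter.style.haveILetI false

namespace Cfsg.Agent.Schur

open scoped commutatorElement

universe u v

/-- If `G` is perfect with trivial multiplier, the kernel of a central surjection is the multiplier
of the image. -/
theorem hasSchurMultiplier_of_perfect {G Q : Type u} [Group G] [Group Q] [Finite G]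
    (hperf : commutator G = ⊤) (h1 : Cfsg.HasCyclicSchurMultiplier G 1) (π : G →* Q)
    (hπs : Function.Surjective π) (hker : π.ker ≤ Subgroup.center G) {A : Type v} [CommGroup A]
    (e : A ≃* π.ker) : Cfsg.HasSchurMultiplier Q A := by
  refine ⟨⟨_, inferInstance, inferInstance, π, ⟨hπs, hker, hperf ▸ le_top⟩, ⟨e.symm⟩⟩, ?_⟩
  intro Γ _ _ σ hσ
  obtain ⟨η, hη⟩ := (S3961.result ⟨hperf⟩ π hπs hker).2 h1 Γ σ hσ.1 hσ.2.1
  have happ : ∀ a, σ (η a) = π a := DFunLike.congr_fun hη
  have hdiff : ∀ g : Γ, ∀ a, π a = σ g → (η a)⁻¹ * g ∈ σ.ker := fun g a ha => by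
    rw [MonoidHom.mem_ker, map_mul, map_inv, happ, ha, inv_mul_cancel]
  have hrange : σ.ker ≤ η.range := by
    refine hσ.2.2.trans ?_
    rw [commutator_eq_closure, Subgroup.closure_le]
    rintro _ ⟨a, b, rfl⟩
    obtain ⟨a', ha⟩ := hπs (σ a)
    obtain ⟨b', hb⟩ := hπs (σ b)
    have h := SL2Root.comm_congr (hσ.2.1 (hdiff a a' ha)) (hσ.2.1 (hdiff b b' hb)) (η a') (η b')
    rw [mul_inv_cancel_left, mul_inv_cancel_left] at h
    exact ⟨⁅a', b'⁆, by rw [map_commutatorElement]; exact h.symm⟩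
  have hsurj : Function.Surjective η := fun g => by
    obtain ⟨a, ha⟩ := hπs (σ g)
    obtain ⟨c, hc⟩ := hrange (hdiff g a ha)
    exact ⟨a * c, by rw [map_mul, hc, mul_inv_cancel_left]⟩
  let θ : π.ker →* σ.ker := (η.comp π.ker.subtype).codRestrict σ.ker fun x => by
    rw [MonoidHom.mem_ker, MonoidHom.comp_apply]
    exact (happ x.1).trans x.2
  refine ⟨θ.comp e.toMonoidHom, fun z => ?_⟩
  obtain ⟨x, hx⟩ := hsurj z.1
  have hxk : x ∈ π.ker := by
    rw [MonoidHom.mem_ker, ← happ, hx]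
    exact z.2
  exact ⟨e.symm ⟨x, hxk⟩, Subtype.ext (by simp [θ, hx])⟩

end Cfsg.Agent.Schur
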