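import Cfsg.Agent.Lib.Schur.Basic

/-!
The multiplier is invariant under isomorphisms of the group.
-/

set_option autoImplicit false
set_option linter.style.haveILetI false

namespace Cfsg.Agent.Schur

universe u v

lemma exists_surj_multiplier_of_mulEquiv {Q : Type u} {Q' : Type v} [Group Q] [Group Q']
    (e : Q ≃* Q') : ∃ θ : Multiplier Q →* Multiplier Q', Function.Surjective θ := by
  have hker : (e.symm.toMonoidHom.comp (stdHom Q')).ker = (stdHom Q').ker :=
    MonoidHom.ker_mulEquiv_comp _ e.symm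
  obtain ⟨θ, hθ⟩ := exists_surj_of_central (stdPres Q) (stdPres_surjective Q)
    (e.symm.toMonoidHom.comp (stdHom Q'))
    (e.symm.surjective.comp (stdHom_surjective Q'))
    (hker.le.trans (stdHom_ker_le_center Q'))
  let j : ↥((e.symm.toMonoidHom.comp (stdHom Q')).ker ⊓ commutator (StdCover Q')) ≃*
      Multiplier Q' := MulEquiv.subgroupCongr (by rw [hker]; rfl)
  exact ⟨j.toMonoidHom.comp θ, j.surjective.comp hθ⟩

lemma multiplierEquiv_of_mulEquiv {Q : Type u} {Q' : Type v} [Group Q] [Group Q'] [Finite Q]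
    (e : Q ≃* Q') : Nonempty (Multiplier Q ≃* Multiplier Q') := by
  haveI : Finite Q' := Finite.of_equiv Q e.toEquiv
  obtain ⟨f, hf⟩ := exists_surj_multiplier_of_mulEquiv e
  obtain ⟨g, hg⟩ := exists_surj_multiplier_of_mulEquiv e.symm
  exact mulEquiv_of_mutual_surjections f hf g hg

/-- Transport of a cyclic multiplier along an isomorphism. -/
lemma hasCyclicSchurMultiplier_of_mulEquiv {Q : Type u} {Q' : Type v} [Group Q] [Group Q']
    (e : Q ≃* Q') {k : ℕ} (h : Cfsg.HasCyclicSchurMultiplier Q k) :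
    Cfsg.HasCyclicSchurMultiplier Q' k := by
  haveI := finite_of_hasSchurMultiplier h
  haveI : Finite Q' := Finite.of_equiv Q e.toEquiv
  obtain ⟨a⟩ := multiplierEquiv h
  obtain ⟨b⟩ := multiplierEquiv_of_mulEquiv e
  exact hasSchurMultiplier_iff.2 ⟨b.symm.trans a⟩

end Cfsg.Agent.Schur
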