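import Cfsg.Agent.Lib.Schur.Cover

/-!
The Schur multiplier of a finite group: existence, uniqueness up to isomorphism, comparison with
arbitrary central extensions.
-/

set_option autoImplicit false
set_option linter.style.haveILetI false

namespace Cfsg.Agent.Schur

open scoped commutatorElement

universe u v w

/-- Two finite groups that map onto each other are isomorphic. -/
lemma mulEquiv_of_mutual_surjections {A : Type u} {B : Type v} [Group A] [Group B] [Finite A]
    (f : A →* B) (hf : Function.Surjective f) (g : B →* A) (hg : Function.Surjective g) :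
    Nonempty (A ≃* B) := by
  haveI : Finite B := Finite.of_surjective f hf
  have h1 := Nat.card_le_card_of_surjective f hf
  have h2 := Nat.card_le_card_of_surjective g hg
  exact ⟨MulEquiv.ofBijective f
    ((Function.Surjective.bijective_of_nat_card_le hf) (le_antisymm h2 h1).le)⟩

section Pres

variable (Q : Type u) [Group Q]

/-- The presentation of `Q` on all its elements. -/
abbrev stdPres : FreeGroup Q →* Q := FreeGroup.lift id

lemma stdPres_surjective : Function.Surjective (stdPres Q) :=
  fun q => ⟨FreeGroup.of q, by simp⟩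

/-- The standard universal central extension of `Q`. -/
abbrev StdCover : Type u := Cover (stdPres Q)

/-- Its projection onto `Q`. -/
abbrev stdHom : StdCover Q →* Q := coverHom (stdPres Q)

/-- The Schur multiplier of `Q`. -/
abbrev Multiplier : Subgroup (StdCover Q) := mult (stdPres Q)

lemma stdHom_surjective : Function.Surjective (stdHom Q) :=
  coverHom_surjective _ (stdPres_surjective Q)

lemma stdHom_ker_le_center : (stdHom Q).ker ≤ Subgroup.center (StdCover Q) :=
  ker_coverHom_le_center _

instance finite_mult_of_finite {F : Type v} {Q' : Type w} [Group F] [Group Q'] [Finite Q']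
    (π : F →* Q') : Finite (mult π) :=
  haveI := finite_commutator (coverHom π) (ker_coverHom_le_center π)
  Finite.of_injective (Subgroup.inclusion (show mult π ≤ commutator (Cover π) from inf_le_right))
    (Subgroup.inclusion_injective _)

/-- The exponent vector of an element of the standard cover. -/
noncomputable def expVec : StdCover Q →* Multiplicative (Q → ℤ) :=
  haveI := Classical.decEq Q
  QuotientGroup.lift _ (FreeGroup.lift fun q : Q => Multiplicative.ofAdd (Pi.single q (1 : ℤ)))
    (by
      rw [Subgroup.commutator_le]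
      intro a _ b _
      rw [MonoidHom.mem_ker, map_commutatorElement, commutatorElement_eq_one_iff_mul_comm]
      exact mul_comm _ _)

lemma commutator_le_ker_expVec : commutator (StdCover Q) ≤ (expVec Q).ker :=
  Abelianization.commutator_subset_ker _

lemma ker_expVec [Finite Q] : (expVec Q).ker = commutator (StdCover Q) := by
  classical
  refine le_antisymm ?_ (commutator_le_ker_expVec Q)
  haveI := Fintype.ofFinite Q
  let g : Q → Abelianization (StdCover Q) := fun q =>
    Abelianization.of (QuotientGroup.mk (FreeGroup.of q))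
  let ι : Multiplicative (Q → ℤ) →* Abelianization (StdCover Q) :=
    { toFun := fun v => ∏ q, g q ^ (v.toAdd q)
      map_one' := by simp
      map_mul' := fun a b => by simp [zpow_add, Finset.prod_mul_distrib] }
  have hcomp : ι.comp (expVec Q) = Abelianization.of := by
    refine QuotientGroup.monoidHom_ext _ (FreeGroup.ext_hom _ _ fun q => ?_)
    show ι (expVec Q (QuotientGroup.mk (FreeGroup.of q))) = _
    have he : expVec Q (QuotientGroup.mk (FreeGroup.of q)) =
        Multiplicative.ofAdd (Pi.single q (1 : ℤ)) := by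
      simp only [expVec, QuotientGroup.lift_mk, FreeGroup.lift_apply_of]
    rw [he]
    show ∏ x, g x ^ ((Pi.single q (1 : ℤ) : Q → ℤ) x) = g q
    rw [Finset.prod_eq_single q]
    · simp
    · intro x _ hx; simp [hx]
    · simp
  intro e he
  have : Abelianization.of e = 1 := by
    rw [← hcomp, MonoidHom.comp_apply, MonoidHom.mem_ker.1 he, map_one]
  rwa [← MonoidHom.mem_ker, Abelianization.ker_of] at this

/-- A complement to the multiplier inside a prescribed subgroup of the central kernel. -/
lemma exists_complement [Finite Q] (K : Subgroup (StdCover Q)) (hK : K ≤ (stdHom Q).ker)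
    (hsup : Multiplier Q ⊔ K = (stdHom Q).ker) :
    ∃ L : Subgroup (StdCover Q), L ≤ K ∧ L ⊓ Multiplier Q = ⊥ ∧
      Multiplier Q ⊔ L = (stdHom Q).ker := by
  classical
  letI : CommGroup K :=
    { (inferInstance : Group K) with
      mul_comm := fun a b => Subtype.ext
        (Subgroup.mem_center_iff.1 (stdHom_ker_le_center Q (hK b.2)) a) }
  let f : Additive K →+ (Q → ℤ) := MonoidHom.toAdditiveLeft ((expVec Q).comp K.subtype)
  let fl : Additive K →ₗ[ℤ] (Q → ℤ) := f.toIntLinearMap
  haveI : Module.Free ℤ (LinearMap.range fl) := by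
    obtain ⟨n, b⟩ := Submodule.nonempty_basis_of_pid (Pi.basisFun ℤ Q) (LinearMap.range fl)
    exact Module.Free.of_basis b.some
  obtain ⟨s, hs⟩ := Module.projective_lifting_property fl.rangeRestrict LinearMap.id
    fl.surjective_rangeRestrict
  let φ : Multiplicative (LinearMap.range fl) →* StdCover Q :=
    K.subtype.comp (AddMonoidHom.toMultiplicativeLeft s.toAddMonoidHom)
  have hφK : ∀ x, φ x ∈ K := fun x => (Additive.toMul (s x.toAdd) : K).2
  have hφ : ∀ x : Multiplicative (LinearMap.range fl), (expVec Q (φ x)).toAdd = (x.toAdd : Q → ℤ) :=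
    fun x => congrArg Subtype.val (LinearMap.congr_fun hs x.toAdd)
  refine ⟨φ.range, ?_, ?_, le_antisymm ?_ ?_⟩
  · rintro _ ⟨x, rfl⟩; exact hφK x
  · rw [eq_bot_iff]
    rintro _ ⟨⟨x, rfl⟩, -, hx⟩
    have h1 : expVec Q (φ x) = 1 := commutator_le_ker_expVec Q hx
    have h2 : (x.toAdd : Q → ℤ) = 0 := by rw [← hφ x, h1]; rfl
    have : x = 1 := Multiplicative.toAdd.injective (Subtype.ext h2)
    simp [this]
  · refine sup_le (mult_le_ker _) ?_
    rintro _ ⟨x, rfl⟩; exact hK (hφK x)
  · rw [← hsup]
    refine sup_le le_sup_left fun k hk => ?_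
    let x : Multiplicative (LinearMap.range fl) :=
      Multiplicative.ofAdd (fl.rangeRestrict (Additive.ofMul (⟨k, hk⟩ : K)))
    have hxk : expVec Q (φ x) = expVec Q k := Multiplicative.toAdd.injective (hφ x)
    rw [show k = k * (φ x)⁻¹ * φ x by group]
    refine Subgroup.mul_mem_sup ⟨?_, ?_⟩ ⟨x, rfl⟩
    · exact Subgroup.mul_mem _ (hK hk) (Subgroup.inv_mem _ (hK (hφK x)))
    · show k * (φ x)⁻¹ ∈ commutator _
      rw [← ker_expVec Q, MonoidHom.mem_ker, map_mul, map_inv, hxk, mul_inv_cancel]

/-- The quotient of the standard cover by a complement of the multiplier is a Schur covering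
group. -/
lemma stem_of_complement [Finite Q] (L : Subgroup (StdCover Q)) [L.Normal]
    (hL : L ≤ (stdHom Q).ker) (hinf : L ⊓ Multiplier Q = ⊥)
    (hsup : Multiplier Q ⊔ L = (stdHom Q).ker) :
    Cfsg.IsStemExtension (QuotientGroup.lift L (stdHom Q) hL) ∧
      Finite (StdCover Q ⧸ L) ∧
      Nonempty (Multiplier Q ≃* (QuotientGroup.lift L (stdHom Q) hL).ker) := by
  set σ := QuotientGroup.lift L (stdHom Q) hL with hσdef
  have hσs : Function.Surjective σ := fun q => by
    obtain ⟨e, he⟩ := stdHom_surjective Q q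
    exact ⟨QuotientGroup.mk e, he⟩
  have hmem : ∀ x ∈ σ.ker, ∃ m ∈ Multiplier Q, QuotientGroup.mk' L m = x := by
    intro x hx
    obtain ⟨e, rfl⟩ := QuotientGroup.mk'_surjective L x
    have he : e ∈ (stdHom Q).ker := hx
    rw [← hsup] at he
    obtain ⟨m, hm, l, hl, rfl⟩ := (Subgroup.mem_sup_of_normal_right (t := L)).1 he
    refine ⟨m, hm, ?_⟩
    rw [map_mul, show QuotientGroup.mk' L l = 1 from (QuotientGroup.eq_one_iff l).2 hl, mul_one]
  let θ : Multiplier Q →* σ.ker :=
    ((QuotientGroup.mk' L).comp (Multiplier Q).subtype).codRestrict _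
      (fun m => (mult_le_ker _ m.2 : (m : StdCover Q) ∈ (stdHom Q).ker))
  have hθi : Function.Injective θ := by
    rw [injective_iff_map_eq_one]
    intro m hm
    have h1 : (m : StdCover Q) ∈ L := (QuotientGroup.eq_one_iff (m : StdCover Q)).1 (congrArg Subtype.val hm)
    have h2 : (m : StdCover Q) ∈ L ⊓ Multiplier Q := ⟨h1, m.2⟩
    rw [hinf, Subgroup.mem_bot] at h2
    exact Subtype.ext h2
  have hθs : Function.Surjective θ := fun x => by
    obtain ⟨m, hm, hx⟩ := hmem x x.2
    exact ⟨⟨m, hm⟩, Subtype.ext hx⟩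
  refine ⟨⟨hσs, ?_, ?_⟩, ?_, ⟨MulEquiv.ofBijective θ ⟨hθi, hθs⟩⟩⟩
  · intro x hx
    obtain ⟨m, hm, rfl⟩ := hmem x hx
    rw [Subgroup.mem_center_iff]
    intro y
    obtain ⟨e, rfl⟩ := QuotientGroup.mk'_surjective L y
    rw [← map_mul, ← map_mul, Subgroup.mem_center_iff.1 (mult_le_center _ hm) e]
  · intro x hx
    obtain ⟨m, hm, rfl⟩ := hmem x hx
    have h3 : (commutator (StdCover Q)).map (QuotientGroup.mk' L) ≤ commutator _ := by
      rw [commutator_def, Subgroup.map_commutator]
      exact Subgroup.commutator_mono le_top le_top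
    exact h3 ⟨m, hm.2, rfl⟩
  · haveI : Finite σ.ker := Finite.of_surjective θ hθs
    haveI : Finite ((StdCover Q ⧸ L) ⧸ σ.ker) :=
      Finite.of_equiv Q (QuotientGroup.quotientKerEquivOfSurjective σ hσs).symm.toEquiv
    exact Finite.of_equiv _ (Subgroup.groupEquivQuotientProdSubgroup (s := σ.ker)).symm

/-- The multiplier is the Schur multiplier. -/
theorem hasSchurMultiplier_multiplier [Finite Q] : Cfsg.HasSchurMultiplier Q (Multiplier Q) := by
  refine ⟨?_, fun Γ _ _ σ hσ => exists_surj_of_stem _ (stdPres_surjective Q) σ hσ⟩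
  obtain ⟨L, hL, hinf, hsup⟩ := exists_complement Q _ le_rfl (sup_eq_right.2 (mult_le_ker _))
  haveI := normal_of_le_center (hL.trans (stdHom_ker_le_center Q))
  obtain ⟨h1, h2, ⟨e⟩⟩ := stem_of_complement Q L hL hinf hsup
  exact ⟨StdCover Q ⧸ L, inferInstance, h2, _, h1, ⟨e.symm⟩⟩

end Pres

/-- A group with a Schur multiplier (in the sense of the definition) is finite. -/
lemma finite_of_hasSchurMultiplier {Q : Type u} [Group Q] {A : Type v} [CommGroup A]
    (h : Cfsg.HasSchurMultiplier Q A) : Finite Q := by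
  obtain ⟨Γ, _, _, σ, hσ, -⟩ := h.1
  exact Finite.of_surjective σ hσ.1

lemma finite_multiplier_type {Q : Type u} [Group Q] {A : Type v} [CommGroup A]
    (h : Cfsg.HasSchurMultiplier Q A) : Finite A := by
  obtain ⟨Γ, _, _, σ, hσ, ⟨e⟩⟩ := h.1
  exact Finite.of_equiv _ e.toEquiv

/-- Uniqueness of the Schur multiplier up to isomorphism. -/
theorem multiplierEquiv {Q : Type u} [Group Q] [Finite Q] {A : Type v} [CommGroup A]
    (h : Cfsg.HasSchurMultiplier Q A) : Nonempty (Multiplier Q ≃* A) := by
  haveI := finite_multiplier_type h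
  obtain ⟨Γ, _, _, σ, hσ, ⟨e⟩⟩ := h.1
  obtain ⟨θ, hθ⟩ := exists_surj_of_stem _ (stdPres_surjective Q) σ hσ
  obtain ⟨Γ', _, _, σ', hσ', ⟨e'⟩⟩ := (hasSchurMultiplier_multiplier Q).1
  obtain ⟨θ', hθ'⟩ := h.2 Γ' σ' hσ'
  exact mulEquiv_of_mutual_surjections (e.toMonoidHom.comp θ) (e.surjective.comp hθ)
    (e'.toMonoidHom.comp θ') (e'.surjective.comp hθ')

/-- Transport along an isomorphism of the multiplier. -/
lemma hasSchurMultiplier_congr {Q : Type u} [Group Q] {A : Type v} {B : Type w} [CommGroup A]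
    [CommGroup B] (h : Cfsg.HasSchurMultiplier Q A) (e : A ≃* B) : Cfsg.HasSchurMultiplier Q B := by
  obtain ⟨⟨Γ, _, _, σ, hσ, ⟨e'⟩⟩, h2⟩ := h
  refine ⟨⟨Γ, inferInstance, inferInstance, σ, hσ, ⟨e'.trans e⟩⟩, fun Γ' _ _ σ' hσ' => ?_⟩
  obtain ⟨π, hπ⟩ := h2 Γ' σ' hσ'
  exact ⟨π.comp e.symm.toMonoidHom, hπ.comp e.symm.surjective⟩

theorem hasSchurMultiplier_iff {Q : Type u} [Group Q] [Finite Q] {A : Type v} [CommGroup A] :
    Cfsg.HasSchurMultiplier Q A ↔ Nonempty (Multiplier Q ≃* A) :=
  ⟨multiplierEquiv, fun ⟨e⟩ => hasSchurMultiplier_congr (hasSchurMultiplier_multiplier Q) e⟩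

/-- Any central extension of `Q` gives a quotient of the multiplier. -/
lemma card_dvd_card_multiplier {Q : Type u} [Group Q] [Finite Q] {X : Type w} [Group X]
    (ξ : X →* Q) (hs : Function.Surjective ξ) (hc : ξ.ker ≤ Subgroup.center X) :
    Nat.card ↥(ξ.ker ⊓ commutator X) ∣ Nat.card (Multiplier Q) := by
  obtain ⟨θ, hθ⟩ := exists_surj_of_central _ (stdPres_surjective Q) ξ hs hc
  exact Subgroup.card_dvd_of_surjective θ hθ

lemma hasCyclicSchurMultiplier_iff {Q : Type u} [Group Q] [Finite Q] (n : ℕ) [NeZero n] :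
    Cfsg.HasCyclicSchurMultiplier Q n ↔ IsCyclic (Multiplier Q) ∧ Nat.card (Multiplier Q) = n := by
  rw [Cfsg.HasCyclicSchurMultiplier, hasSchurMultiplier_iff]
  constructor
  · rintro ⟨e⟩
    refine ⟨e.isCyclic.2 inferInstance, ?_⟩
    rw [Nat.card_congr e.toEquiv]; simp
  · rintro ⟨h1, h2⟩
    exact ⟨mulEquivOfCyclicCardEq (by rw [h2]; simp)⟩

/-- The trivial-multiplier criterion on the standard cover. -/
lemma hasCyclicSchurMultiplier_one_iff_bot {Q : Type u} [Group Q] [Finite Q] :
    Cfsg.HasCyclicSchurMultiplier Q 1 ↔ Multiplier Q = ⊥ := by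
  rw [hasCyclicSchurMultiplier_iff]
  constructor
  · rintro ⟨-, h⟩; exact Subgroup.eq_bot_of_card_eq _ h
  · intro h
    haveI : Subsingleton (Multiplier Q) := by rw [h]; infer_instance
    exact ⟨isCyclic_of_subsingleton, Nat.card_eq_one_iff_unique.2 ⟨inferInstance, inferInstance⟩⟩

/-- With trivial multiplier, central kernels meet commutators trivially. -/
lemma inf_commutator_eq_bot {Q : Type u} [Group Q] [Finite Q]
    (h : Cfsg.HasCyclicSchurMultiplier Q 1) {X : Type w} [Group X] (ξ : X →* Q)
    (hs : Function.Surjective ξ) (hc : ξ.ker ≤ Subgroup.center X) :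
    ξ.ker ⊓ commutator X = ⊥ := by
  have h1 := card_dvd_card_multiplier ξ hs hc
  rw [((hasCyclicSchurMultiplier_iff 1).1 h).2, Nat.dvd_one] at h1
  exact Subgroup.eq_bot_of_card_eq _ h1

/-- To show the multiplier trivial it is enough to treat central extensions. -/
lemma hasCyclicSchurMultiplier_one_of {Q : Type u} [Group Q] [Finite Q]
    (h : ∀ (X : Type u) [Group X] (ξ : X →* Q), Function.Surjective ξ →
      ξ.ker ≤ Subgroup.center X → ξ.ker ⊓ commutator X = ⊥) :
    Cfsg.HasCyclicSchurMultiplier Q 1 :=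
  hasCyclicSchurMultiplier_one_iff_bot.2
    (h (StdCover Q) (stdHom Q) (stdHom_surjective Q) (stdHom_ker_le_center Q))

end Cfsg.Agent.Schur
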