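import Mathlib
import Cfsg.Prelude.Def_KGroupFacts

/-!
Universal central extensions attached to a presentation `π : F →* Q` (`F` free), the group
`mult π = ker ∩ commutator` of `F ⧸ ⁅ker π, ⊤⁆`, and its universal properties.
-/

set_option autoImplicit false

namespace Cfsg.Agent.Schur

open scoped commutatorElement

universe u v w

/-- Central factors do not change a commutator. -/
lemma commutator_mul_central {G : Type*} [Group G] (a b z w : G) (hz : z ∈ Subgroup.center G)
    (hw : w ∈ Subgroup.center G) : ⁅a * z, b * w⁆ = ⁅a, b⁆ := by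
  rw [Subgroup.mem_center_iff] at hz hw
  simp only [commutatorElement_def, mul_inv_rev]
  calc a * z * (b * w) * (z⁻¹ * a⁻¹) * (w⁻¹ * b⁻¹)
      = a * ((z * (b * w)) * z⁻¹) * (a⁻¹ * (w⁻¹ * b⁻¹)) := by group
    _ = a * (b * w) * (a⁻¹ * (w⁻¹ * b⁻¹)) := by rw [← hz (b * w)]; group
    _ = a * b * (w * a⁻¹ * w⁻¹) * b⁻¹ := by group
    _ = a * b * a⁻¹ * b⁻¹ := by rw [← hw a⁻¹]; group

section General

variable {X : Type u} {Q : Type v} [Group X] [Group Q]

/-- Homomorphisms agreeing modulo a central kernel agree on the commutator subgroup. -/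
lemma eq_on_commutator {E : Type w} [Group E] (ξ : X →* Q) (hc : ξ.ker ≤ Subgroup.center X)
    (f g : E →* X) (h : ξ.comp f = ξ.comp g) : ∀ c ∈ commutator E, f c = g c := by
  have key : ∀ a : E, ∃ z ∈ Subgroup.center X, f a = g a * z := fun a => by
    refine ⟨(g a)⁻¹ * f a, hc ?_, by group⟩
    have h1 := DFunLike.congr_fun h a
    simp only [MonoidHom.coe_comp, Function.comp_apply] at h1
    simp [MonoidHom.mem_ker, h1]
  have hle : commutator E ≤ f.eqLocus g := by
    rw [commutator_def, Subgroup.commutator_le]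
    intro a _ b _
    obtain ⟨z, hz, ha⟩ := key a
    obtain ⟨w, hw, hb⟩ := key b
    show f ⁅a, b⁆ = g ⁅a, b⁆
    rw [map_commutatorElement, map_commutatorElement, ha, hb, commutator_mul_central _ _ _ _ hz hw]
  exact fun c hc' => hle hc'

/-- The commutator subgroup of a central extension of a finite group is finite. -/
lemma finite_commutatorSet (ξ : X →* Q) (hc : ξ.ker ≤ Subgroup.center X) [Finite Q] :
    Finite (commutatorSet X) := by
  classical
  let c : X → X → X := fun a b => ⁅a, b⁆
  have hz : ∀ a a' b b' : X, ξ a = ξ a' → ξ b = ξ b' → c a b = c a' b' := by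
    intro a a' b b' ha hb
    have h1 : a'⁻¹ * a ∈ Subgroup.center X := hc (by simp [MonoidHom.mem_ker, ha])
    have h2 : b'⁻¹ * b ∈ Subgroup.center X := hc (by simp [MonoidHom.mem_ker, hb])
    obtain ⟨z, hz, rfl⟩ : ∃ z ∈ Subgroup.center X, a = a' * z := ⟨_, h1, by group⟩
    obtain ⟨w, hw, rfl⟩ : ∃ w ∈ Subgroup.center X, b = b' * w := ⟨_, h2, by group⟩
    exact commutator_mul_central _ _ _ _ hz hw
  refine Set.finite_coe_iff.mpr (Set.Finite.subset
    (Set.finite_range (fun q : ξ.range × ξ.range => c q.1.2.choose q.2.2.choose)) ?_)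
  rintro x ⟨a, b, rfl⟩
  exact ⟨(⟨ξ a, a, rfl⟩, ⟨ξ b, b, rfl⟩),
    hz _ _ _ _ (⟨a, rfl⟩ : ∃ y, ξ y = ξ a).choose_spec (⟨b, rfl⟩ : ∃ y, ξ y = ξ b).choose_spec⟩

lemma finite_commutator (ξ : X →* Q) (hc : ξ.ker ≤ Subgroup.center X) [Finite Q] :
    Finite (commutator X) :=
  haveI := finite_commutatorSet ξ hc
  inferInstance

end General

/-- A central subgroup `L` gives a normal subgroup. -/
lemma normal_of_le_center {G : Type u} [Group G] {L : Subgroup G} (h : L ≤ Subgroup.center G) :
    L.Normal :=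
  ⟨fun n hn g => by rw [Subgroup.mem_center_iff.1 (h hn) g, mul_inv_cancel_right]; exact hn⟩

/-- A homomorphism from a free group lifts along a surjection. -/
lemma exists_lift_free {F : Type u} [Group F] [IsFreeGroup F] {X : Type v} {Q : Type w} [Group X]
    [Group Q] (g : F →* Q) (ξ : X →* Q) (hs : Function.Surjective ξ) :
    ∃ h : F →* X, ξ.comp h = g := by
  refine ⟨IsFreeGroup.lift (fun a => Function.surjInv hs (g (IsFreeGroup.of a))),
    IsFreeGroup.ext_hom fun a => ?_⟩
  simp [Function.surjInv_eq hs]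

section Cover

variable {F : Type u} {Q : Type v} [Group F] [Group Q] (π : F →* Q)

/-- `⁅ker π, ⊤⁆`. -/
abbrev rel : Subgroup F := ⁅π.ker, (⊤ : Subgroup F)⁆

lemma rel_le_ker : rel π ≤ π.ker := Subgroup.commutator_le_left _ _

/-- The universal central extension `F ⧸ ⁅ker π, ⊤⁆`. -/
abbrev Cover := F ⧸ rel π

/-- The projection `Cover π →* Q`. -/
def coverHom : Cover π →* Q := QuotientGroup.lift _ π (rel_le_ker π)

@[simp] lemma coverHom_mk (x : F) : coverHom π (QuotientGroup.mk x) = π x := rfl

lemma coverHom_surjective (hπ : Function.Surjective π) : Function.Surjective (coverHom π) :=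
  fun q => ⟨QuotientGroup.mk (hπ q).choose, by simpa using (hπ q).choose_spec⟩

lemma ker_coverHom_le_center : (coverHom π).ker ≤ Subgroup.center (Cover π) := by
  intro z hz
  induction z using QuotientGroup.induction_on with
  | H x =>
    rw [Subgroup.mem_center_iff]
    intro y
    induction y using QuotientGroup.induction_on with
    | H y =>
      rw [← QuotientGroup.mk_mul, ← QuotientGroup.mk_mul, QuotientGroup.eq]
      have h : ⁅x⁻¹, y⁻¹⁆ ∈ rel π := by
        refine Subgroup.commutator_mem_commutator (inv_mem ?_) (Subgroup.mem_top _)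
        simpa [MonoidHom.mem_ker] using hz
      have e : (y * x)⁻¹ * (x * y) = ⁅x⁻¹, y⁻¹⁆ := by
        rw [commutatorElement_def]; group
      rw [e]; exact h

/-- The multiplier `ker ∩ commutator` of the cover. -/
def mult : Subgroup (Cover π) := (coverHom π).ker ⊓ commutator (Cover π)

lemma mult_le_ker : mult π ≤ (coverHom π).ker := inf_le_left
lemma mult_le_center : mult π ≤ Subgroup.center (Cover π) :=
  inf_le_left.trans (ker_coverHom_le_center π)

instance commGroupMult : CommGroup (mult π) :=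
  { (inferInstance : Group (mult π)) with
    mul_comm := fun a b => Subtype.ext (Subgroup.mem_center_iff.1 (mult_le_center π b.2) a) }

/-- Every central extension receives a map from the cover. -/
lemma exists_lift [IsFreeGroup F] {X : Type w} [Group X] {Q' : Type*} [Group Q'] (f : Q →* Q')
    (ξ : X →* Q') (hs : Function.Surjective ξ) (hc : ξ.ker ≤ Subgroup.center X) :
    ∃ η : Cover π →* X, ξ.comp η = f.comp (coverHom π) := by
  obtain ⟨h, hh⟩ := exists_lift_free (f.comp π) ξ hs
  refine ⟨QuotientGroup.lift _ h ?_, ?_⟩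
  · rw [Subgroup.commutator_le]
    intro r hr y _
    have hr' : h r ∈ Subgroup.center X := hc (by
      have := DFunLike.congr_fun hh r
      simp only [MonoidHom.coe_comp, Function.comp_apply] at this
      rw [MonoidHom.mem_ker, this, (MonoidHom.mem_ker.1 hr), map_one])
    rw [MonoidHom.mem_ker, map_commutatorElement, commutatorElement_eq_one_iff_mul_comm]
    exact (Subgroup.mem_center_iff.1 hr' (h y)).symm
  · ext x
    exact DFunLike.congr_fun hh x

variable {X : Type w} [Group X] (ξ : X →* Q) (η : Cover π →* X)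

lemma range_sup_ker (hπ : Function.Surjective π) (hη : ξ.comp η = coverHom π) :
    η.range ⊔ ξ.ker = ⊤ := by
  refine eq_top_iff.2 fun x _ => ?_
  obtain ⟨e, he⟩ := coverHom_surjective π hπ (ξ x)
  have he' : ξ (η e) = ξ x := by rw [← he, ← hη]; rfl
  rw [show x = η e * ((η e)⁻¹ * x) by group]
  exact Subgroup.mul_mem_sup ⟨e, rfl⟩ (by simp [MonoidHom.mem_ker, he'])

lemma map_commutator_cover (hπ : Function.Surjective π) (hc : ξ.ker ≤ Subgroup.center X)
    (hη : ξ.comp η = coverHom π) : (commutator (Cover π)).map η = commutator X := by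
  refine le_antisymm ?_ ?_
  · rw [commutator_def, Subgroup.map_commutator]
    exact Subgroup.commutator_mono le_top le_top
  · rw [commutator_def X, Subgroup.commutator_le]
    intro a _ b _
    obtain ⟨e, he⟩ := coverHom_surjective π hπ (ξ a)
    obtain ⟨e', he'⟩ := coverHom_surjective π hπ (ξ b)
    have h1 : ξ (η e) = ξ a := by rw [← he, ← hη]; rfl
    have h2 : ξ (η e') = ξ b := by rw [← he', ← hη]; rfl
    refine ⟨⁅e, e'⁆, Subgroup.commutator_mem_commutator (Subgroup.mem_top _) (Subgroup.mem_top _),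
      ?_⟩
    rw [map_commutatorElement]
    obtain ⟨z, hz, rfl⟩ : ∃ z ∈ Subgroup.center X, a = η e * z :=
      ⟨_, hc (show (η e)⁻¹ * a ∈ ξ.ker by simp [MonoidHom.mem_ker, h1]), by group⟩
    obtain ⟨w, hw, rfl⟩ : ∃ w ∈ Subgroup.center X, b = η e' * w :=
      ⟨_, hc (show (η e')⁻¹ * b ∈ ξ.ker by simp [MonoidHom.mem_ker, h2]), by group⟩
    exact (commutator_mul_central _ _ _ _ hz hw).symm

/-- The image of the multiplier is `ker ∩ commutator` of the target. -/
lemma map_mult (hπ : Function.Surjective π) (hc : ξ.ker ≤ Subgroup.center X)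
    (hη : ξ.comp η = coverHom π) : (mult π).map η = ξ.ker ⊓ commutator X := by
  refine le_antisymm ?_ ?_
  · rintro _ ⟨m, ⟨hm1, hm2⟩, rfl⟩
    refine ⟨?_, ?_⟩
    · show ξ (η m) = 1
      exact (DFunLike.congr_fun hη m).trans hm1
    · rw [← map_commutator_cover π ξ η hπ hc hη]; exact ⟨m, hm2, rfl⟩
  · rintro x ⟨hx1, hx2⟩
    rw [← map_commutator_cover π ξ η hπ hc hη] at hx2
    obtain ⟨e, he, rfl⟩ := hx2
    refine ⟨e, ⟨?_, he⟩, rfl⟩
    show coverHom π e = 1
    rw [← hη]; exact hx1

/-- A lift to a stem extension is surjective. -/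
lemma surjective_lift_stem (hπ : Function.Surjective π) (hc : ξ.ker ≤ Subgroup.center X)
    (hd : ξ.ker ≤ commutator X) (hη : ξ.comp η = coverHom π) : Function.Surjective η := by
  have h1 : ξ.ker ≤ η.range := by
    refine hd.trans ?_
    rw [← map_commutator_cover π ξ η hπ hc hη]
    exact Subgroup.map_le_range η _
  have := range_sup_ker π ξ η hπ hη
  rw [sup_eq_left.2 h1] at this
  exact MonoidHom.range_eq_top.1 this

end Cover

/-- The kernel of any central extension meets the commutator in a quotient of the multiplier. -/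
lemma exists_surj_of_central {F : Type u} {Q : Type v} [Group F] [Group Q] [IsFreeGroup F]
    (π : F →* Q) (hπ : Function.Surjective π) {X : Type w} [Group X] (ξ : X →* Q)
    (hs : Function.Surjective ξ) (hc : ξ.ker ≤ Subgroup.center X) :
    ∃ θ : mult π →* ↥(ξ.ker ⊓ commutator X), Function.Surjective θ := by
  obtain ⟨η, hη⟩ := exists_lift π (MonoidHom.id Q) ξ hs hc
  rw [MonoidHom.id_comp] at hη
  have hmap := map_mult π ξ η hπ hc hη
  refine ⟨(η.comp (mult π).subtype).codRestrict _ (fun m => hmap ▸ ⟨m, m.2, rfl⟩), ?_⟩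
  rintro ⟨x, hx⟩
  rw [← hmap] at hx
  obtain ⟨e, he, rfl⟩ := hx
  exact ⟨⟨e, he⟩, rfl⟩

/-- For a stem extension the whole kernel is a quotient of the multiplier. -/
lemma exists_surj_of_stem {F : Type u} {Q : Type v} [Group F] [Group Q] [IsFreeGroup F]
    (π : F →* Q) (hπ : Function.Surjective π) {X : Type w} [Group X] (ξ : X →* Q)
    (hst : Cfsg.IsStemExtension ξ) :
    ∃ θ : mult π →* ξ.ker, Function.Surjective θ := by
  obtain ⟨θ, hθ⟩ := exists_surj_of_central π hπ ξ hst.1 hst.2.1
  refine ⟨(Subgroup.inclusion inf_le_left).comp θ, fun x => ?_⟩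
  obtain ⟨m, hm⟩ := hθ ⟨x, x.2, hst.2.2 x.2⟩
  exact ⟨m, Subtype.ext (by simp [hm])⟩

end Cfsg.Agent.Schur
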