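import Cfsg.Agent.Lib.Schur.Basic
import Mathlib.GroupTheory.Transfer
import Mathlib.GroupTheory.Sylow
import Mathlib.FieldTheory.Finite.Basic
import Mathlib.Algebra.Polynomial.Roots

/-!
Killing the multiplier prime by prime: commutators of lifts from a Sylow subgroup, biadditive invariant maps.
-/

set_option autoImplicit false
set_option linter.style.haveILetI false

namespace Cfsg.Agent.SylowKill

open scoped commutatorElement
open Polynomial

variable {X G : Type*} [Group X] [Group G] (ξ : X →* G) (hc : ξ.ker ≤ Subgroup.center X)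

include hc in
theorem central_of_map_eq_one {z : X} (e : ξ z = 1) (x : X) : z * x = x * z :=
  (Subgroup.mem_center_iff.mp (hc e) x).symm

include hc in
theorem comm_congr {x x' y y' : X} (ex : ξ x = ξ x') (ey : ξ y = ξ y') : ⁅x, y⁆ = ⁅x', y'⁆ := by
  have hu : ξ (x * x'⁻¹) = 1 := by rw [map_mul, map_inv, ex, mul_inv_cancel]
  have hv : ξ (y * y'⁻¹) = 1 := by rw [map_mul, map_inv, ey, mul_inv_cancel]
  have e1 : x = (x * x'⁻¹) * x' := by group
  have e2 : y = (y * y'⁻¹) * y' := by group
  rw [e1, e2]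
  generalize x * x'⁻¹ = u at hu ⊢
  generalize y * y'⁻¹ = v at hv ⊢
  simp only [commutatorElement_def]
  have cu : ∀ w, u * w = w * u := central_of_map_eq_one ξ hc hu
  have cv : ∀ w, v * w = w * v := central_of_map_eq_one ξ hc hv
  calc u * x' * (v * y') * (u * x')⁻¹ * (v * y')⁻¹
      = u * (x' * v) * (y' * x'⁻¹) * u⁻¹ * y'⁻¹ * v⁻¹ := by group
    _ = u * (v * x') * (y' * x'⁻¹) * u⁻¹ * y'⁻¹ * v⁻¹ := by rw [cv x']
    _ = u * ((v * x' * y' * x'⁻¹) * u⁻¹) * y'⁻¹ * v⁻¹ := by group
    _ = u * (u⁻¹ * (v * x' * y' * x'⁻¹)) * y'⁻¹ * v⁻¹ := by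
        rw [central_of_map_eq_one ξ hc (z := u⁻¹) (by simp [hu])]
    _ = v * (x' * y' * x'⁻¹ * y'⁻¹) * v⁻¹ := by group
    _ = x' * y' * x'⁻¹ * y'⁻¹ := by rw [cv]; group

/-- The commutator with a product on the left. -/
theorem comm_mul_left {a b c : X} (h : a * ⁅b, c⁆ = ⁅b, c⁆ * a) : ⁅a * b, c⁆ = ⁅b, c⁆ * ⁅a, c⁆ := by
  calc ⁅a * b, c⁆ = a * ⁅b, c⁆ * a⁻¹ * ⁅a, c⁆ := by simp only [commutatorElement_def]; group
    _ = ⁅b, c⁆ * ⁅a, c⁆ := by rw [h, mul_inv_cancel_right]

/-- The commutator with a product on the right. -/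
theorem comm_mul_right {a b c : X} (h : b * ⁅a, c⁆ = ⁅a, c⁆ * b) : ⁅a, b * c⁆ = ⁅a, b⁆ * ⁅a, c⁆ := by
  calc ⁅a, b * c⁆ = ⁅a, b⁆ * (b * ⁅a, c⁆ * b⁻¹) := by simp only [commutatorElement_def]; group
    _ = ⁅a, b⁆ * ⁅a, c⁆ := by rw [h, mul_inv_cancel_right]

/-- Conjugating a commutator. -/
theorem comm_conj (u x y : X) : u * ⁅x, y⁆ * u⁻¹ = ⁅u * x * u⁻¹, u * y * u⁻¹⁆ := by
  simp only [commutatorElement_def]; group

/-- An invariant biadditive map vanishes unless the two weights are Galois conjugate. -/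
theorem vanish {F : Type*} [Field F] [Fintype F] {p N : ℕ} [Fact p.Prime] [CharP F p]
    (hcard : Fintype.card F = p ^ N) {A : Type*} [CommGroup A] (φ : F → F → A)
    (h1 : ∀ b b' a, φ (b + b') a = φ b a * φ b' a) (h2 : ∀ b a a', φ b (a + a') = φ b a * φ b a')
    (k w : F) (hinv : ∀ b a, φ (w * b) (k * a) = φ b a) (hne : ∀ j < N, w * k ^ p ^ j ≠ 1) (hw : w ≠ 0)
    (b a : F) : φ b a = 1 := by
  classical
  let ψ : F →+ F →+ Additive A := AddMonoidHom.mk' (fun b => AddMonoidHom.mk'
      (fun a => Additive.ofMul (φ b a)) (fun a a' => by rw [← ofMul_mul, h2]))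
    (fun b b' => AddMonoidHom.ext fun a => congrArg (Additive.ofMul (α := A)) (h1 b b' a))
  have hψ : ∀ b a, ψ b (k * a) = ψ (w⁻¹ * b) a := fun b a =>
    congrArg (Additive.ofMul (α := A)) (by rw [← hinv (w⁻¹ * b) a, mul_inv_cancel_left₀ hw])
  obtain ⟨M, rfl⟩ : ∃ M, N = M + 1 := by
    rcases N with _ | M
    · have := Fintype.one_lt_card (α := F)
      rw [hcard, pow_zero] at this
      omega
    · exact ⟨M, rfl⟩
  let g : F[X] := ∏ j ∈ Finset.range (M + 1), (Polynomial.X - C (k ^ p ^ j))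
  have hfrob : g.map (frobenius F p) = g := by
    simp only [g, Polynomial.map_prod, Polynomial.map_sub, Polynomial.map_X, Polynomial.map_C, frobenius_def,
      ← pow_mul, ← pow_succ]
    rw [Finset.prod_range_succ, Finset.prod_range_succ' (n := M)]
    congr 1
    rw [pow_zero, pow_one, ← hcard, FiniteField.pow_card]
  have hcoeff : ∀ i, ∃ n : ℕ, g.coeff i = (n : F) := by
    intro i
    have h := congrArg (fun q => Polynomial.coeff q i) hfrob
    simp only [Polynomial.coeff_map, frobenius_def] at h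
    obtain ⟨z, hz⟩ := (_root_.mem_bot_iff_intCast p F).1 ((Subfield.mem_bot_iff_pow_eq_self (F := F) (p := p)).2 h)
    obtain ⟨n, hn⟩ : ∃ n : ℕ, (z : F) = (n : F) :=
      ⟨(z : ZMod p).val, by
        rw [← map_natCast (ZMod.castHom dvd_rfl F), ZMod.natCast_zmod_val, map_intCast]⟩
    exact ⟨n, hz.symm.trans hn⟩
  choose n hn using hcoeff
  have heval : ∀ x : F, g.eval x = ∑ i ∈ Finset.range (g.natDegree + 1), n i • x ^ i := by
    intro x
    rw [Polynomial.eval_eq_sum_range]
    exact Finset.sum_congr rfl fun i _ => by rw [hn i, nsmul_eq_mul]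
  have hgk : g.eval k = 0 := by
    simp only [g, Polynomial.eval_prod]
    exact Finset.prod_eq_zero (Finset.mem_range.mpr (Nat.succ_pos M)) (by simp)
  have hgw : g.eval w⁻¹ ≠ 0 := by
    simp only [g, Polynomial.eval_prod, Finset.prod_ne_zero_iff]
    intro j hj
    simp only [eval_sub, eval_X, eval_C, sub_ne_zero]
    intro e
    exact hne j (Finset.mem_range.mp hj) (by rw [← e, mul_inv_cancel₀ hw])
  have hiter : ∀ i b a, ψ b (k ^ i * a) = ψ (w⁻¹ ^ i * b) a := by
    intro i
    induction i with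
    | zero => simp
    | succ i ih => intro b a; rw [pow_succ', mul_assoc, hψ, ih, pow_succ, mul_assoc]
  have key : ∀ b, ψ (g.eval w⁻¹ * b) a = 0 := fun b => by
    rw [heval, Finset.sum_mul, map_sum, AddMonoidHom.finsetSum_apply]
    simp only [smul_mul_assoc, map_nsmul, AddMonoidHom.nsmul_apply, ← hiter]
    simp only [← map_nsmul, ← map_sum, ← smul_mul_assoc, ← Finset.sum_mul, ← heval, hgk, zero_mul, map_zero]
  have h := key ((g.eval w⁻¹)⁻¹ * b)
  rw [mul_inv_cancel_left₀ hgw] at h
  exact congrArg Additive.toMul h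

/-- Transfer into the preimage of a subgroup. -/
theorem transfer_step [Finite G] (hs : Function.Surjective ξ) (U : Subgroup G) {z : X}
    (hz : z ∈ Subgroup.center X) (hzξ : ξ z = 1) (hzc : z ∈ commutator X) :
    ∃ hm : z ^ U.index ∈ U.comap ξ, (⟨_, hm⟩ : U.comap ξ) ∈ commutator (U.comap ξ) := by
  have hi : (U.comap ξ).index = U.index := Subgroup.index_comap_of_surjective U hs
  have : (U.comap ξ).FiniteIndex := ⟨by rw [hi]; exact U.index_ne_zero_of_finite⟩
  let τ : X →* Abelianization (U.comap ξ) := MonoidHom.transfer Abelianization.of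
  have h1 : τ z = 1 := Abelianization.commutator_subset_ker τ hzc
  have h2 : τ z = Abelianization.of ⟨z ^ (U.comap ξ).index, by
      simp [Subgroup.mem_comap, hzξ]⟩ := MonoidHom.transfer_eq_pow _ z fun k g _ => by
    rw [mul_assoc, ← Subgroup.mem_center_iff.mp ((Subgroup.center X).pow_mem hz k) g, inv_mul_cancel_left]
  rw [h1] at h2
  simp only [hi] at h2
  refine ⟨by simp [Subgroup.mem_comap, hzξ], ?_⟩
  rw [← Abelianization.ker_of]
  exact h2.symm

include hc in
/-- The kernel meets the commutator subgroup trivially if it does so over some Sylow subgroup for each prime. -/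
theorem inf_commutator_eq_bot [Finite G] (hs : Function.Surjective ξ)
    (hkill : ∀ p : ℕ, p.Prime → ∃ U : Subgroup G, ¬ p ∣ U.index ∧ ∀ w : U.comap ξ,
      w ∈ commutator (U.comap ξ) → ξ w = 1 → (w : X) ^ p = 1 → (w : X) = 1) :
    ξ.ker ⊓ commutator X = ⊥ := by
  classical
  have hfin : Finite (commutator X) := Schur.finite_commutator ξ hc
  have : Finite ↥(ξ.ker ⊓ commutator X) :=
    Finite.of_injective (Subgroup.inclusion inf_le_right) (Subgroup.inclusion_injective _)
  by_contra hne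
  obtain ⟨p, hp, hpd⟩ := Nat.exists_prime_and_dvd fun e => hne (Subgroup.eq_bot_of_card_eq _ e)
  have : Fact p.Prime := ⟨hp⟩
  obtain ⟨⟨z, hz⟩, hzo⟩ := exists_prime_orderOf_dvd_card' (G := ↥(ξ.ker ⊓ commutator X)) p hpd
  obtain ⟨hz1, hz2⟩ := Subgroup.mem_inf.mp hz
  have hzo' : orderOf z = p := by simpa [Subgroup.orderOf_mk] using hzo
  obtain ⟨U, hU, hk⟩ := hkill p hp
  obtain ⟨hm', hcomm⟩ := transfer_step ξ hs U (hc hz1) hz1 hz2
  have h1 := hk ⟨_, hm'⟩ hcomm (by simp [show ξ z = 1 from hz1])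
    (by
      show (z ^ U.index) ^ p = 1
      rw [← pow_mul, mul_comm, pow_mul, ← hzo', pow_orderOf_eq_one, one_pow])
  have h2 : p ∣ U.index := hzo' ▸ orderOf_dvd_of_pow_eq_one h1
  exact hU h2

include hc in
/-- A cyclic subgroup has abelian preimage. -/
theorem commutator_cyclic (U : Subgroup G) [IsCyclic U] : commutator (U.comap ξ) = ⊥ := by
  let f : U.comap ξ →* U := ξ.subgroupComap _
  let : CommGroup (U.comap ξ) :=
    commGroupOfCyclicCenterQuotient f fun x hx => Subgroup.mem_center_iff.mpr fun y =>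
      Subtype.ext (Subgroup.mem_center_iff.mp (hc (congrArg Subtype.val hx)) _)
  rw [commutator_def, eq_bot_iff, Subgroup.commutator_le]
  intro a _ b _
  rw [Subgroup.mem_bot, commutatorElement_eq_one_iff_mul_comm]
  exact mul_comm a b

include hc in
/-- Over an elementary abelian group of order eight with an element of order seven acting transitively on
its non-identity elements, the lifts commute. -/
theorem commutator_eight [Finite G] (hs : Function.Surjective ξ) (S : Subgroup G) (hcard : Nat.card S = 8)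
    (hsq : ∀ x ∈ S, x * x = 1) (g : G) (hg : g ^ 7 = 1) (hgS : ∀ x ∈ S, g * x * g⁻¹ ∈ S)
    (hfree : ∀ x ∈ S, g * x * g⁻¹ = x → x = 1) : commutator (S.comap ξ) = ⊥ := by
  classical
  let L : G → X := Function.surjInv hs
  have hL : ∀ x, ξ (L x) = x := fun x => Function.surjInv_eq hs x
  have hscomm : ∀ x ∈ S, ∀ y ∈ S, x * y = y * x := by
    intro x hx y hy
    have e : ∀ u ∈ S, u⁻¹ = u := fun u hu => inv_eq_of_mul_eq_one_right (hsq u hu)
    have h := e _ (mul_mem hx hy)
    rw [_root_.mul_inv_rev, e x hx, e y hy] at h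
    exact h.symm
  let B : G → G → X := fun x y => ⁅L x, L y⁆
  have hker : ∀ x ∈ S, ∀ y ∈ S, ∀ w, B x y * w = w * B x y := fun x hx y hy =>
    central_of_map_eq_one ξ hc (by
      rw [map_commutatorElement, hL, hL, commutatorElement_eq_one_iff_mul_comm]; exact hscomm x hx y hy)
  have hadd : ∀ x ∈ S, ∀ y ∈ S, ∀ y' ∈ S, B x (y * y') = B x y * B x y' := by
    intro x hx y hy y' hy'
    show ⁅L x, L (y * y')⁆ = _
    rw [comm_congr ξ hc (x' := L x) (y' := L y * L y') rfl (by rw [map_mul, hL, hL, hL]),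
      comm_mul_right (hker x hx y' hy' (L y)).symm]
  have hone : ∀ x, B x 1 = 1 := fun x => by
    show ⁅L x, L 1⁆ = 1
    rw [comm_congr ξ hc (x' := L x) (y' := 1) rfl (by rw [hL, map_one]), commutatorElement_one_right]
  have hsq' : ∀ x ∈ S, ∀ y ∈ S, B x y * B x y = 1 := fun x hx y hy => by
    rw [← hadd x hx y hy y hy, hsq y hy, hone]
  have hsymm : ∀ x ∈ S, ∀ y ∈ S, B y x = B x y := fun x hx y hy => by
    rw [show B y x = (B x y)⁻¹ from (commutatorElement_inv _ _).symm]
    exact inv_eq_of_mul_eq_one_right (hsq' x hx y hy)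
  let σ : ℕ → G → G := fun i x => g ^ i * x * (g ^ i)⁻¹
  have σmem : ∀ i, ∀ x ∈ S, σ i x ∈ S := by
    intro i
    induction i with
    | zero => intro x hx; simpa [σ] using hx
    | succ i ih =>
      intro x hx
      have h := hgS _ (ih x hx)
      rwa [show g * σ i x * g⁻¹ = σ (i + 1) x by simp only [σ]; group] at h
  have σadd : ∀ i j x, σ i (σ j x) = σ (i + j) x := fun i j x => by simp only [σ]; group
  have σmul : ∀ i x y, σ i (x * y) = σ i x * σ i y := fun i x y => by simp only [σ]; group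
  have σseven : ∀ i x, σ (7 * i) x = x := fun i x => by simp [σ, pow_mul, hg]
  have σone : ∀ i, σ i 1 = 1 := fun i => by simp [σ]
  have hinv : ∀ i, ∀ x ∈ S, ∀ y ∈ S, B (σ i x) (σ i y) = B x y := by
    intro i x hx y hy
    show ⁅L (σ i x), L (σ i y)⁆ = _
    rw [comm_congr ξ hc (x' := L (g ^ i) * L x * (L (g ^ i))⁻¹) (y' := L (g ^ i) * L y * (L (g ^ i))⁻¹)
      (by simp only [map_mul, map_inv, hL, σ]) (by simp only [map_mul, map_inv, hL, σ]), ← comm_conj,
      ← hker x hx y hy (L (g ^ i)), mul_inv_cancel_right]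
  have hfix : ∀ x ∈ S, x ≠ 1 → ∀ i, σ i x = x → 7 ∣ i := by
    intro x hx hx1 i he
    by_contra hi
    have hit : ∀ j, σ (i * j) x = x := by
      intro j
      induction j with
      | zero => simp [σ]
      | succ j ih => rw [Nat.mul_succ, add_comm, ← σadd, ih, he]
    obtain ⟨j, hj⟩ : ∃ j, i * j % 7 = 1 := by
      have h : ∀ r : Fin 7, (r : ℕ) ≠ 0 → ∃ j : Fin 7, (r : ℕ) * j % 7 = 1 := by decide
      obtain ⟨j, hj⟩ := h ⟨i % 7, Nat.mod_lt _ (by norm_num)⟩ fun h0 => hi (Nat.dvd_of_mod_eq_zero h0)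
      exact ⟨j, by rw [Nat.mul_mod, Nat.mod_eq_of_lt j.2]; exact hj⟩
    refine hx1 (hfree x hx ?_)
    have h := hit j
    rw [← Nat.mod_add_div (i * j) 7, hj, ← σadd, σseven] at h
    simpa [σ] using h
  have hall : ∀ x ∈ S, x ≠ 1 → ∀ y ∈ S, y ≠ 1 → ∃ i < 7, σ i x = y := by
    intro x hx hx1 y hy hy1
    let f : Fin 7 → {z : S // z ≠ 1} := fun i => ⟨⟨σ i x, σmem i x hx⟩, fun h => hx1 (by
      have h' : σ (i : ℕ) x = 1 := congrArg Subtype.val h
      simpa [σ] using h')⟩
    have hf : Function.Injective f := by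
      have key : ∀ i j : Fin 7, (i : ℕ) ≤ j → σ (i : ℕ) x = σ (j : ℕ) x → i = j := by
        intro i j hij he
        have h : σ ((j : ℕ) + 7 - i) x = x := by
          have e := congrArg (σ (7 - (i : ℕ))) he
          rw [σadd, σadd, Nat.sub_add_cancel (by omega)] at e
          rw [show (j : ℕ) + 7 - i = 7 - i + j by omega, ← e, ← mul_one 7, σseven]
        have := hfix x hx hx1 _ h
        exact Fin.ext (by omega)
      intro i j h
      have he : σ (i : ℕ) x = σ (j : ℕ) x := congrArg (fun z => ((z.1 : S) : G)) h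
      rcases le_total (i : ℕ) j with h' | h'
      · exact key i j h' he
      · exact (key j i h' he.symm).symm
    haveI : Fintype S := Fintype.ofFinite _
    have hbij : Function.Bijective f := (Fintype.bijective_iff_injective_and_card f).2 ⟨hf, by
      rw [Fintype.card_fin, Fintype.card_subtype_compl, Fintype.card_subtype_eq, ← Nat.card_eq_fintype_card,
        hcard]⟩
    obtain ⟨i, hi⟩ := hbij.2 ⟨⟨y, hy⟩, fun h => hy1 (congrArg Subtype.val h)⟩
    exact ⟨i, i.2, congrArg (fun z => ((z.1 : S) : G)) hi⟩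
  have hback : ∀ x ∈ S, ∀ i, i < 7 → B x (σ (7 - i) x) = B x (σ i x) := by
    intro x hx i hi
    rw [← hinv i x hx _ (σmem _ x hx), σadd, show i + (7 - i) = 7 * 1 by omega, σseven,
      hsymm x hx _ (σmem i x hx)]
  have hbad : ∀ x ∈ S, ∀ i, i < 7 → i ≠ 0 → σ i x * σ (7 - i) x = x → x = 1 := by
    intro x hx i hi hi0 he
    by_contra hx1
    have e := congrArg (σ i) he
    rw [σmul, σadd, σadd, show i + (7 - i) = 7 * 1 by omega, σseven] at e
    -- `e : σ (2 i) x * x = σ i x`
    have e2 : σ (i + i) x = σ (7 - i) x := by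
      calc σ (i + i) x = σ i x * x := by
            rw [← e, mul_assoc, hsq x hx, mul_one]
        _ = σ i x * (σ i x * σ (7 - i) x) := by rw [he]
        _ = σ (7 - i) x := by rw [← mul_assoc, hsq _ (σmem i x hx), one_mul]
    have e3 := congrArg (σ i) e2
    rw [σadd, σadd, show i + (7 - i) = 7 * 1 by omega, σseven] at e3
    have := hfix x hx hx1 _ e3
    omega
  have hB : ∀ x ∈ S, ∀ y ∈ S, B x y = 1 := by
    intro u hu
    by_cases hu1 : u = 1
    · subst hu1
      intro y hy
      rw [← hsymm _ hu y hy, hone]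
    let K : Subgroup S :=
      { carrier := {y | B u y.1 = 1}
        mul_mem' := fun {a b} ha hb => by
          show B u (a.1 * b.1) = 1
          rw [hadd u hu _ a.2 _ b.2, show B u a.1 = 1 from ha, show B u b.1 = 1 from hb, one_mul]
        one_mem' := hone u
        inv_mem' := fun {a} ha => by
          show B u (a.1)⁻¹ = 1
          rw [inv_eq_of_mul_eq_one_right (hsq _ a.2)]
          exact ha }
    have huu : B u u = 1 := commutatorElement_self _
    have hbig : ∀ i, i < 7 → i ≠ 0 → B u (σ i u) = 1 → ∀ y ∈ S, B u y = 1 := by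
      intro i hi hi0 hp y hy
      set p := σ i u with hpdef
      set p' := σ (7 - i) u with hp'def
      have hpS : p ∈ S := σmem i u hu
      have hp'S : p' ∈ S := σmem _ u hu
      have hp' : B u p' = 1 := (hback u hu i hi).trans hp
      let l : List S := [1, ⟨u, hu⟩, ⟨p, hpS⟩, ⟨u * p, mul_mem hu hpS⟩, ⟨p', hp'S⟩]
      have hl : ∀ z ∈ l, z ∈ K := by
        intro z hz
        simp only [l, List.mem_cons, List.not_mem_nil, or_false] at hz
        rcases hz with rfl | rfl | rfl | rfl | rfl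
        · exact one_mem K
        · exact huu
        · exact hp
        · exact K.mul_mem (x := ⟨u, hu⟩) (y := ⟨p, hpS⟩) huu hp
        · exact hp'
      have hne1 : ∀ j, σ j u ≠ 1 := fun j h => hu1 (by simpa [σ] using h)
      have hpu : p ≠ u := fun h => by have := hfix u hu hu1 i h; omega
      have hp'u : p' ≠ u := fun h => by have := hfix u hu hu1 _ h; omega
      have hpp' : p ≠ p' := fun h => by
        have e := congrArg (σ i) h
        rw [hpdef, hp'def, σadd, σadd, show i + (7 - i) = 7 * 1 by omega, σseven] at e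
        have := hfix u hu hu1 _ e
        omega
      have hnd : l.Nodup := by
        simp only [l, List.nodup_cons, List.mem_cons, List.not_mem_nil, or_false, not_or, List.nodup_nil,
          and_true, ← Subtype.coe_inj, Subgroup.coe_one, not_false_eq_true]
        refine ⟨⟨Ne.symm hu1, Ne.symm (hne1 i), ?_, Ne.symm (hne1 _)⟩, ⟨hpu.symm, ?_, hp'u.symm⟩,
          ⟨?_, hpp'⟩, ?_⟩
        · intro h
          exact hpu (by rw [← inv_eq_of_mul_eq_one_right h.symm, inv_eq_of_mul_eq_one_right (hsq u hu)])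
        · intro h
          exact hne1 i (left_eq_mul.1 h)
        · intro h
          exact hu1 (right_eq_mul.1 h)
        · intro h
          refine hu1 (hbad u hu i hi hi0 ?_)
          rw [← hpdef, ← hp'def, ← h, hscomm u hu p hpS, ← mul_assoc, hsq p hpS, one_mul]
      have h5 : 5 ≤ Nat.card K := by
        have h := Nat.card_le_card_of_injective (fun k : Fin l.length => (⟨l.get k, hl _ (l.get_mem k)⟩ : K))
          fun a b h => hnd.injective_get (congrArg Subtype.val h)
        simpa [l] using h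
      have h8 : Nat.card K = 8 := by
        have hd : Nat.card K ∣ 8 := hcard ▸ K.card_subgroup_dvd_card
        have := Nat.le_of_dvd (by norm_num) hd
        interval_cases hK : Nat.card K <;> omega
      have : K = ⊤ := Subgroup.eq_top_of_card_eq K (by rw [h8, hcard])
      exact (this ▸ Subgroup.mem_top _ : (⟨y, hy⟩ : S) ∈ K)
    intro v hv
    by_contra hv'
    have hv1 : v ≠ 1 := fun h => hv' (by rw [h, hone])
    obtain ⟨i, hi, hiv⟩ := hall u hu hu1 v hv hv1
    have hi0 : i ≠ 0 := fun h => hv' (by rw [← hiv, h]; simpa [σ] using huu)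
    have hpr : B u (σ i u * σ (7 - i) u) = 1 := by
      rw [hadd u hu _ (σmem i u hu) _ (σmem _ u hu), hback u hu i hi]
      exact hsq' u hu _ (σmem i u hu)
    have hw1 : σ i u * σ (7 - i) u ≠ 1 := fun h => by
      have h' : σ (7 - i) u = σ i u :=
        (inv_eq_of_mul_eq_one_right h).symm.trans (inv_eq_of_mul_eq_one_right (hsq _ (σmem i u hu)))
      have e := congrArg (σ i) h'
      rw [σadd, σadd, show i + (7 - i) = 7 * 1 by omega, σseven] at e
      have := hfix u hu hu1 _ e.symm
      omega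
    obtain ⟨j, hj, hjw⟩ := hall u hu hu1 _ (mul_mem (σmem i u hu) (σmem _ u hu)) hw1
    have hj0 : j ≠ 0 := fun h => hu1 (hbad u hu i hi hi0 (by rw [← hjw, h]; simp [σ]))
    exact hv' (hbig j hj hj0 (by rw [hjw]; exact hpr) v hv)
  rw [commutator_def, eq_bot_iff, Subgroup.commutator_le]
  rintro ⟨x, hx⟩ - ⟨y, hy⟩ -
  rw [Subgroup.mem_bot]
  refine Subtype.ext ?_
  show ⁅x, y⁆ = 1
  rw [comm_congr ξ hc (x' := L (ξ x)) (y' := L (ξ y)) (hL _).symm (hL _).symm]
  exact hB _ hx _ hy

end Cfsg.Agent.SylowKill
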