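import Cfsg.Agent.Lib.Schur.Basic
import Mathlib.GroupTheory.Transfer

/-!
Triviality of the Schur multiplier from subgroups of index prime to each prime.
-/

set_option autoImplicit false
set_option linter.style.haveILetI false

namespace Cfsg.Agent.Schur

open scoped commutatorElement

universe u w

/-- The transfer into the preimage of a subgroup with trivial multiplier kills `z ^ index`. -/
theorem pow_index_eq_one {Q : Type u} [Group Q] [Finite Q] {X : Type w} [Group X] (ξ : X →* Q)
    (hs : Function.Surjective ξ) (U : Subgroup Q)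
    (hU : ∀ z ∈ ξ.ker, ∀ hz : z ∈ U.comap ξ, (⟨z, hz⟩ : U.comap ξ) ∈ commutator (U.comap ξ) → z = 1)
    {z : X} (hz : z ∈ Subgroup.center X) (hzξ : ξ z = 1) (hzc : z ∈ commutator X) :
    z ^ U.index = 1 := by
  have hi : (U.comap ξ).index = U.index := Subgroup.index_comap_of_surjective U hs
  have : (U.comap ξ).FiniteIndex := ⟨by rw [hi]; exact U.index_ne_zero_of_finite⟩
  let τ : X →* Abelianization (U.comap ξ) := MonoidHom.transfer Abelianization.of
  have h1 : τ z = 1 := Abelianization.commutator_subset_ker τ hzc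
  have h2 : τ z = Abelianization.of ⟨z ^ (U.comap ξ).index, by
      simp [Subgroup.mem_comap, hzξ]⟩ := MonoidHom.transfer_eq_pow _ z fun k g _ => by
    rw [mul_assoc, ← Subgroup.mem_center_iff.mp ((Subgroup.center X).pow_mem hz k) g,
      inv_mul_cancel_left]
  rw [h1] at h2
  simp only [hi] at h2
  have hm : z ^ U.index ∈ U.comap ξ := by simp [Subgroup.mem_comap, hzξ]
  refine hU _ (by simp [MonoidHom.mem_ker, hzξ]) hm ?_
  rw [← Abelianization.ker_of]
  exact h2.symm

/-- A subgroup with trivial multiplier meets the kernel of a central extension as required. -/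
theorem eq_one_of_trivial {Q : Type u} [Group Q] [Finite Q] (U : Subgroup Q)
    (hU : Cfsg.HasCyclicSchurMultiplier U 1) {X : Type w} [Group X] (ξ : X →* Q)
    (hs : Function.Surjective ξ) (hc : ξ.ker ≤ Subgroup.center X) :
    ∀ z ∈ ξ.ker, ∀ hz : z ∈ U.comap ξ, (⟨z, hz⟩ : U.comap ξ) ∈ commutator (U.comap ξ) → z = 1 := by
  intro z hzk hz hzc
  let π : U.comap ξ →* U := (ξ.comp (U.comap ξ).subtype).codRestrict U fun x => x.2
  have hπs : Function.Surjective π := fun u => by
    obtain ⟨x, hx⟩ := hs u.1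
    exact ⟨⟨x, by simp [Subgroup.mem_comap, hx]⟩, Subtype.ext hx⟩
  have hπc : π.ker ≤ Subgroup.center (U.comap ξ) := fun x hx => Subgroup.mem_center_iff.2 fun y =>
    Subtype.ext (Subgroup.mem_center_iff.1 (hc (congrArg Subtype.val hx)) y.1)
  have h := inf_commutator_eq_bot hU π hπs hπc
  have h1 : (⟨z, hz⟩ : U.comap ξ) ∈ π.ker ⊓ commutator (U.comap ξ) := ⟨Subtype.ext hzk, hzc⟩
  rw [h, Subgroup.mem_bot] at h1
  exact congrArg Subtype.val h1

/-- Trivial multiplier from one suitable subgroup for each prime. -/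
theorem hasCyclicSchurMultiplier_one_of_primes {Q : Type u} [Group Q] [Finite Q]
    (h : ∀ r : ℕ, r.Prime → ∃ U : Subgroup Q, ¬ r ∣ U.index ∧
      ∀ (X : Type u) [Group X] (ξ : X →* Q), Function.Surjective ξ → ξ.ker ≤ Subgroup.center X →
        ∀ z ∈ ξ.ker, ∀ hz : z ∈ U.comap ξ, (⟨z, hz⟩ : U.comap ξ) ∈ commutator (U.comap ξ) → z = 1) :
    Cfsg.HasCyclicSchurMultiplier Q 1 := by
  refine hasCyclicSchurMultiplier_one_of fun X _ ξ hs hc => ?_
  rw [eq_bot_iff]
  rintro z ⟨hzk, hzc⟩
  rw [Subgroup.mem_bot, ← orderOf_eq_one_iff]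
  by_contra hne
  obtain ⟨r, hr, hrd⟩ := Nat.exists_prime_and_dvd hne
  obtain ⟨U, hrU, hU⟩ := h r hr
  exact hrU (hrd.trans (orderOf_dvd_of_pow_eq_one
    (pow_index_eq_one ξ hs U (hU X ξ hs hc) (hc hzk) hzk hzc)))

end Cfsg.Agent.Schur
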