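import Cfsg.Agent.Lib.Compute.SchurSpec
import Mathlib.GroupTheory.OrderOfElement

/-! The order of the subgroup generated by a polycyclic sequence in a finite group. -/

set_option autoImplicit false

namespace Cfsg.Agent.SeqCard

open Cfsg.Agent.PermSchur (val val_cons val_append)

/-- The normal words, the newest letter first. -/
def lforms (p : ℕ) : ℕ → List (List ℕ)
  | 0 => [[]]
  | i + 1 => (lforms p i).flatMap fun f => (List.range p).map fun e => List.replicate e i ++ f

variable {G : Type*} [Group G]

theorem val_replicate (cd : ℕ → G) (e i : ℕ) : val cd (List.replicate e i) = cd i ^ e := by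
  simp [val]

theorem closure_seq [Finite G] {p : ℕ} (hp : p.Prime) (cd : ℕ → G) : ∀ {k : ℕ},
    (∀ i < k, ∃ u : List ℕ, (∀ q ∈ u, q < i) ∧ cd i ^ p = val cd u) →
    (∀ i < k, ∀ j < i, ∃ u : List ℕ, (∀ q ∈ u, q < i) ∧ cd i * cd j = val cd (u ++ [i])) →
    (∀ i < k, ∀ f ∈ lforms p i, cd i ≠ val cd f) →
    Nat.card (Subgroup.closure {x | ∃ q < k, x = cd q}) = p ^ k ∧
      ∀ x ∈ Subgroup.closure {x | ∃ q < k, x = cd q}, ∃ f ∈ lforms p k, x = val cd f := by
  intro k
  induction k with
  | zero =>
    intro _ _ _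
    have h : Subgroup.closure {x : G | ∃ q < 0, x = cd q} = ⊥ := by simp
    rw [h]
    exact ⟨by simp, fun x hx => ⟨[], by simp [lforms], by simp [Subgroup.mem_bot.1 hx, val]⟩⟩
  | succ k ih =>
    intro hpow hconj hne
    obtain ⟨hcard, hforms⟩ := ih (fun i hi => hpow i (by omega)) (fun i hi => hconj i (by omega))
      (fun i hi => hne i (by omega))
    set H := Subgroup.closure {x | ∃ q < k, x = cd q} with hH
    set K := Subgroup.closure {x | ∃ q < k + 1, x = cd q} with hK
    have hgen : ∀ q < k, cd q ∈ H := fun q hq => Subgroup.subset_closure ⟨q, hq, rfl⟩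
    have hval : ∀ u : List ℕ, (∀ q ∈ u, q < k) → val cd u ∈ H := fun u hu =>
      Subgroup.list_prod_mem _ fun y hy => by
        obtain ⟨q, hq, rfl⟩ := List.mem_map.1 hy
        exact hgen q (hu q hq)
    have hap : cd k ^ p ∈ H := by
      obtain ⟨u, hu, e⟩ := hpow k (by omega)
      exact e ▸ hval u hu
    have hc : ∀ h ∈ H, cd k * h * (cd k)⁻¹ ∈ H := by
      intro h hh
      induction hh using Subgroup.closure_induction with
      | mem x hx =>
        obtain ⟨j, hj, rfl⟩ := hx
        obtain ⟨u, hu, e⟩ := hconj k (by omega) j hj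
        rw [e, val_append, show val cd [k] = cd k by simp [val], mul_inv_cancel_right]
        exact hval u hu
      | one => simp
      | mul x y _ _ hx hy =>
        rw [show cd k * (x * y) * (cd k)⁻¹ = cd k * x * (cd k)⁻¹ * (cd k * y * (cd k)⁻¹) by group]
        exact mul_mem hx hy
      | inv x _ hx =>
        rw [show cd k * x⁻¹ * (cd k)⁻¹ = (cd k * x * (cd k)⁻¹)⁻¹ by group]
        exact inv_mem hx
    have hcm : ∀ m : ℕ, ∀ h ∈ H, cd k ^ m * h * (cd k ^ m)⁻¹ ∈ H := by
      intro m
      induction m with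
      | zero => intro h hh; simpa using hh
      | succ m im =>
        intro h hh
        rw [pow_succ', show cd k * cd k ^ m * h * (cd k * cd k ^ m)⁻¹ =
          cd k * (cd k ^ m * h * (cd k ^ m)⁻¹) * (cd k)⁻¹ by group]
        exact hc _ (im h hh)
    have hci : ∀ h ∈ H, (cd k)⁻¹ * h * cd k ∈ H := by
      intro h hh
      have e : cd k ^ (orderOf (cd k) - 1) = (cd k)⁻¹ := by
        refine eq_inv_of_mul_eq_one_left ?_
        rw [← pow_succ, Nat.sub_add_cancel (orderOf_pos (cd k)), pow_orderOf_eq_one]
      simpa [e] using hcm (orderOf (cd k) - 1) h hh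
    have hle : H ≤ K := Subgroup.closure_mono fun x ⟨q, hq, e⟩ => ⟨q, by omega, e⟩
    have hak : cd k ∈ K := Subgroup.subset_closure ⟨k, by omega, rfl⟩
    have hmem : ∀ x ∈ K, ∃ e < p, ∃ h ∈ H, x = cd k ^ e * h := by
      intro x hx
      rw [hK, ← Subgroup.mem_toSubmonoid, Subgroup.closure_toSubmonoid_of_finite] at hx
      induction hx using Submonoid.closure_induction_right with
      | one => exact ⟨0, hp.pos, 1, one_mem _, by simp⟩
      | mul_right x _ y hy ihx =>
        obtain ⟨e, he, h, hh, rfl⟩ := ihx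
        obtain ⟨q, hq, rfl⟩ := hy
        rcases Nat.lt_succ_iff_lt_or_eq.1 hq with hq | rfl
        · exact ⟨e, he, h * cd q, mul_mem hh (hgen q hq), by rw [mul_assoc]⟩
        · rcases Nat.lt_or_ge (e + 1) p with h1 | h1
          · exact ⟨e + 1, h1, _, hci h hh, by group⟩
          · refine ⟨0, hp.pos, cd q ^ p * ((cd q)⁻¹ * h * cd q), mul_mem hap (hci h hh), ?_⟩
            rw [pow_zero, one_mul, show p = e + 1 by omega]
            group
    have hnot : cd k ∉ H := fun h => by
      obtain ⟨f, hf, e⟩ := hforms _ h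
      exact hne k (by omega) f hf e
    have hd : ∀ d, 0 < d → d < p → cd k ^ d ∉ H := by
      intro d hd0 hdp hdm
      obtain ⟨m, -, hm⟩ := Nat.exists_mul_mod_eq_one_of_coprime
        (Nat.Coprime.symm ((Nat.Prime.coprime_iff_not_dvd hp).2
          (fun h => absurd (Nat.le_of_dvd hd0 h) (by omega)))) hp.one_lt
      have e : cd k ^ (d * m) = cd k * (cd k ^ p) ^ (d * m / p) := by
        rw [← pow_mul, ← pow_succ']
        congr 1
        have := Nat.div_add_mod (d * m) p
        omega
      refine hnot ?_
      have h1 : cd k ^ (d * m) ∈ H := by rw [pow_mul]; exact pow_mem hdm m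
      rw [e] at h1
      exact (Subgroup.mul_mem_cancel_right _ (pow_mem hap _)).1 h1
    refine ⟨?_, fun x hx => ?_⟩
    · let φ : Fin p × H → K := fun z =>
        ⟨cd k ^ (z.1 : ℕ) * z.2, mul_mem (pow_mem hak _) (hle z.2.2)⟩
      have hbij : Function.Bijective φ := by
        refine ⟨?_, fun y => ?_⟩
        · have key : ∀ (e e' : ℕ) (h h' : H), e ≤ e' → e' < p → cd k ^ e * (h : G) = cd k ^ e' * h' →
              e = e' := by
            intro e e' h h' hle' he' heq
            by_contra hne'
            refine hd (e' - e) (by omega) (by omega) ?_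
            rw [show e' = e + (e' - e) by omega, pow_add, mul_assoc, mul_right_inj] at heq
            rw [eq_mul_inv_of_mul_eq heq.symm]
            exact mul_mem h.2 (inv_mem h'.2)
          rintro ⟨e, h⟩ ⟨e', h'⟩ heq
          have heq' := congrArg Subtype.val heq
          simp only [φ] at heq'
          have : (e : ℕ) = e' := by
            rcases le_total (e : ℕ) e' with hl | hl
            · exact key _ _ h h' hl e'.2 heq'
            · exact (key _ _ h' h hl e.2 heq'.symm).symm
          obtain rfl := Fin.ext this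
          rw [mul_right_inj] at heq'
          obtain rfl := Subtype.ext heq'
          rfl
        · obtain ⟨e, he, h, hh, he'⟩ := hmem y y.2
          exact ⟨(⟨e, he⟩, ⟨h, hh⟩), Subtype.ext he'.symm⟩
      rw [← Nat.card_eq_of_bijective φ hbij, Nat.card_prod, Nat.card_fin, hcard, pow_succ']
    · obtain ⟨e, he, h, hh, rfl⟩ := hmem x hx
      obtain ⟨f, hf, rfl⟩ := hforms h hh
      exact ⟨List.replicate e k ++ f, List.mem_flatMap.2 ⟨f, hf, List.mem_map.2 ⟨e, List.mem_range.2 he, rfl⟩⟩,
        by rw [val_append, val_replicate]⟩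

end Cfsg.Agent.SeqCard
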