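import Cfsg.Agent.Lib.Compute.SchurSpec
import Cfsg.Agent.Lib.Schur.SylowKill

/-!
Tail certificates for central extensions of an arbitrary group: the rules of a polycyclic sequence and the
fused words are supplied as equations in the group.
-/

set_option autoImplicit false
set_option maxHeartbeats 1000000

namespace Cfsg.Agent.Tails

open Cfsg.Agent.PermCert
open Cfsg.Agent.PermSchur (SchurData Rel Fusion ev vadd vsub vsmul bump counts coll collect step commVar fusBase
  fusVars words relVec combine reduce normal invGen gsProd rowsOK val val_append val_cons tailList ev_vadd ev_vsub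
  ev_vsmul ev_counts ev_zero ev_reduce ev_combine tail_pow tail_comm tail_fus)
open scoped commutatorElement IsMulCommutative

variable {G Γ : Type*} [Group G] [Group Γ]

/-- The combinatorial checks on the rules. -/
def wfOK (d : SchurData) : Bool :=
  Nat.blt 1 d.p &&
  allBelow (fun i => (d.pow.getD i []).all (fun q => Nat.blt q d.a.length) &&
    allBelow (fun j => ((d.comm.getD i []).getD j []).all (fun q => Nat.blt q d.a.length)) i &&
    (coll d (List.replicate (d.ords.getD i 1) i)).1 == [] && Nat.blt 0 (d.ords.getD i 1)) d.a.length &&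
  allBelow (fun t => allBelow (fun i =>
      ((d.fus.getD t ⟨(0, 0), [], []⟩).src.getD i []).all (fun q => Nat.blt q d.a.length) &&
      ((d.fus.getD t ⟨(0, 0), [], []⟩).img.getD i []).all (fun q => Nat.blt q d.a.length))
    (d.fus.getD t ⟨(0, 0), [], []⟩).src.length) d.fus.length

/-- The equations in the group. -/
structure Facts (d : SchurData) (cd fg : ℕ → G) : Prop where
  pow : ∀ i < d.a.length, cd i ^ d.p = val cd (d.pow.getD i [])
  comm : ∀ i < d.a.length, ∀ j < i, cd i * cd j = val cd ((d.comm.getD i []).getD j [])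
  fus : ∀ t < d.fus.length, ∀ i < (d.fus.getD t ⟨(0, 0), [], []⟩).src.length,
    fg t * val cd ((d.fus.getD t ⟨(0, 0), [], []⟩).src.getD i []) * (fg t)⁻¹ =
      val cd ((d.fus.getD t ⟨(0, 0), [], []⟩).img.getD i [])

/-- The words of the products of the first listed generators, each taken fewer than `p` times. -/
def formsOf (d : SchurData) : ℕ → List (List ℕ)
  | 0 => [[]]
  | i + 1 => (formsOf d i).flatMap fun f =>
      (List.range d.p).map fun e => f ++ (List.replicate e (d.gs.getD i ([], [])).1).flatten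

/-- Powers and conjugates of each listed generator lie in the span of the earlier ones. -/
def chainAt (d : SchurData) (pw : List (List ℕ)) (cw : List (List (List ℕ))) (i : ℕ) : Bool :=
  ((pw.getD i []).all (fun q => Nat.blt q i) &&
    (let A := gsProd d (List.replicate d.p i)
     let B := gsProd d (pw.getD i [])
     normal d A.1 A.2 == normal d B.1 B.2)) &&
  allBelow (fun j => ((cw.getD i []).getD j []).all (fun q => Nat.blt q i) &&
    (let A := gsProd d [i, j]
     let B := gsProd d ((cw.getD i []).getD j [] ++ [i])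
     normal d A.1 A.2 == normal d B.1 B.2)) i

/-- The listed generators form a polycyclic sequence in the extension. -/
def Chain (d : SchurData) : Prop :=
  ∀ i < d.gs.length,
    (∃ u : List ℕ, (∀ q ∈ u, q < i) ∧ normal d (gsProd d (List.replicate d.p i)).1 (gsProd d (List.replicate d.p i)).2 =
      normal d (gsProd d u).1 (gsProd d u).2) ∧
    ∀ j < i, ∃ u : List ℕ, (∀ q ∈ u, q < i) ∧ normal d (gsProd d [i, j]).1 (gsProd d [i, j]).2 =
      normal d (gsProd d (u ++ [i])).1 (gsProd d (u ++ [i])).2

theorem chain_of (d : SchurData) (pw : List (List ℕ)) (cw : List (List (List ℕ)))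
    (h : ∀ i < d.gs.length, chainAt d pw cw i = true) : Chain d := by
  intro i hi
  have h' := h i hi
  simp only [chainAt, Bool.and_eq_true, List.all_eq_true, Nat.blt_eq, beq_iff_eq] at h'
  refine ⟨⟨_, h'.1.1, h'.1.2⟩, fun j hj => ?_⟩
  have h'' := allBelow_spec _ _ h'.2 j hj
  simp only [Bool.and_eq_true, List.all_eq_true, Nat.blt_eq, beq_iff_eq] at h''
  exact ⟨_, h''.1, h''.2⟩

/-- The derived group of the preimage is spanned by the listed generators. -/
def derivedOK (d : SchurData) : Bool :=
  d.gs.all (fun s => s.1.all fun q => Nat.blt q d.a.length) &&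
  allBelow (fun i =>
    allBelow (fun j =>
      let I := invGen d i
      let J := invGen d j
      let W := gsProd d ((d.commWit.getD i []).getD j [])
      ((d.commWit.getD i []).getD j []).all (fun q => Nat.blt q d.gs.length) &&
        normal d (i :: j :: (I.1 ++ J.1)) (vadd I.2 J.2) == normal d W.1 W.2) i &&
    allBelow (fun s =>
      let I := invGen d i
      let W := gsProd d ((d.conjWit.getD i []).getD s [])
      ((d.conjWit.getD i []).getD s []).all (fun q => Nat.blt q d.gs.length) &&
        normal d ((i :: (d.gs.getD s ([], [])).1) ++ I.1) (vadd (d.gs.getD s ([], [])).2 I.2) == normal d W.1 W.2)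
      d.gs.length) d.a.length

theorem map_val (ξ : Γ →* G) {cd : ℕ → G} {lift : ℕ → Γ} :
    ∀ u : List ℕ, (∀ q ∈ u, ξ (lift q) = cd q) → ξ (val lift u) = val cd u := by
  intro u hu
  induction u with
  | nil => simp [val]
  | cons q u ih =>
    rw [val_cons, val_cons, map_mul, hu q List.mem_cons_self, ih fun a ha => hu a (List.mem_cons_of_mem _ ha)]

/-- A tail, as an element of the centre. -/
noncomputable def tail (d : SchurData) (ξ : Γ →* G) (lift gl : ℕ → Γ) (q : ℕ) :
    Subgroup.center Γ := by
  classical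
  exact if h : (tailList d lift gl).getD q 1 ∈ ξ.ker ⊓ Subgroup.center Γ then ⟨_, h.2⟩ else 1

/-- The value of a word with a vector of tails. -/
noncomputable def tot (d : SchurData) (ξ : Γ →* G) (lift gl : ℕ → Γ) (u : List ℕ × List ℤ) : Γ :=
  val lift u.1 * (ev (tail d ξ lift gl) u.2 : Subgroup.center Γ)

theorem tail_val {d : SchurData} {ξ : Γ →* G} {lift gl : ℕ → Γ} {q : ℕ} {x : Γ}
    (e : (tailList d lift gl).getD q 1 = x)
    (hx : x ∈ ξ.ker ⊓ Subgroup.center Γ) : (tail d ξ lift gl q : Γ) = x := by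
  subst e
  rw [tail, dif_pos hx]

theorem ev_tail_ker (d : SchurData) (ξ : Γ →* G) (lift gl : ℕ → Γ) (v : List ℤ) :
    ξ ((ev (tail d ξ lift gl) v : Subgroup.center Γ) : Γ) = 1 := by
  suffices ∀ (f : ℕ → Subgroup.center Γ), (∀ q, ξ (f q : Γ) = 1) → ξ ((ev f v : Subgroup.center Γ) : Γ) = 1 from
    this _ fun q => by
      unfold tail
      split
      · rename_i h; exact h.1
      · exact map_one ξ
  induction v with
  | nil => intro f _; exact map_one ξ
  | cons x v ih =>
    intro f hf
    rw [ev, Subgroup.coe_mul, map_mul, ih _ fun q => hf _, mul_one, SubgroupClass.coe_zpow, map_zpow, hf, one_zpow]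

theorem central {ξ : Γ →* G} (hker : ξ.ker ≤ Subgroup.center Γ) {x y : Γ} (h : ξ x = ξ y) :
    x⁻¹ * y ∈ ξ.ker ⊓ Subgroup.center Γ :=
  have h' : x⁻¹ * y ∈ ξ.ker := by rw [MonoidHom.mem_ker, map_mul, map_inv, h, inv_mul_cancel]
  ⟨h', hker h'⟩

theorem tot_mul {d : SchurData} (ξ : Γ →* G) (lift gl : ℕ → Γ) (u u' : List ℕ) (v v' : List ℤ) :
    tot d ξ lift gl (u ++ u', vadd v v') = tot d ξ lift gl (u, v) * tot d ξ lift gl (u', v') := by
  simp only [tot, val_append, ev_vadd, Subgroup.coe_mul]
  rw [mul_assoc, mul_assoc, ← mul_assoc (val lift u'),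
    Subgroup.mem_center_iff.1 (ev (tail d ξ lift gl) v).2 (val lift u'), mul_assoc]

/-- The hypotheses on a lifting of the data to a central extension. -/
structure Lifts (d : SchurData) (ξ : Γ →* G) (cd fg : ℕ → G) (lift gl : ℕ → Γ) : Prop where
  lift_eq : ∀ q < d.a.length, ξ (lift q) = cd q
  gl_eq : ∀ t < d.fus.length, ξ (gl t) = fg t

variable {d : SchurData} {ξ : Γ →* G} {cd fg : ℕ → G} {lift gl : ℕ → Γ}
  (hker : ξ.ker ≤ Subgroup.center Γ) (hL : Lifts d ξ cd fg lift gl) (hb : wfOK d = true) (hF : Facts d cd fg)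

include hker hL hb hF

omit hker hb hF in
theorem word_eq {u : List ℕ} (hu : ∀ q ∈ u, q < d.a.length) : ξ (val lift u) = val cd u :=
  map_val ξ u fun q hq => hL.lift_eq q (hu q hq)

theorem rule_facts {i : ℕ} (hi : i < d.a.length) :
    (∀ q ∈ d.pow.getD i [], q < d.a.length) ∧
    lift i ^ d.p = val lift (d.pow.getD i []) * (tail d ξ lift gl i : Γ) ∧
    ∀ j < i, (∀ q ∈ (d.comm.getD i []).getD j [], q < d.a.length) ∧
      lift i * lift j = val lift ((d.comm.getD i []).getD j []) * (tail d ξ lift gl (commVar d.a.length i j) : Γ) := by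
  simp only [wfOK, Bool.and_eq_true, List.all_eq_true] at hb
  have h := allBelow_spec _ _ hb.1.2 i hi
  simp only [Bool.and_eq_true, List.all_eq_true, Nat.blt_eq] at h
  obtain ⟨⟨⟨hpw, hc⟩, -⟩, -⟩ := h
  refine ⟨hpw, ?_, fun j hj => ?_⟩
  · have : ξ (lift i ^ d.p) = ξ (val lift (d.pow.getD i [])) := by
      rw [map_pow, hL.lift_eq i hi, hF.pow i hi, word_eq hL hpw]
    rw [tail_val (tail_pow d lift gl hi) (central hker this.symm), mul_inv_cancel_left]
  · have h' := allBelow_spec _ _ hc j hj
    simp only [List.all_eq_true, Nat.blt_eq] at h'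
    have : ξ (lift i * lift j) = ξ (val lift ((d.comm.getD i []).getD j [])) := by
      rw [map_mul, hL.lift_eq i hi, hL.lift_eq j (hj.trans hi), hF.comm i hi j hj, word_eq hL h']
    exact ⟨h', by rw [tail_val (tail_comm d lift gl hi hj) (central hker this.symm), mul_inv_cancel_left]⟩

theorem fus_facts {t : ℕ} (ht : t < d.fus.length) {i : ℕ} (hi : i < (d.fus.getD t ⟨(0, 0), [], []⟩).src.length) :
    (∀ q ∈ (d.fus.getD t ⟨(0, 0), [], []⟩).src.getD i [], q < d.a.length) ∧
    (∀ q ∈ (d.fus.getD t ⟨(0, 0), [], []⟩).img.getD i [], q < d.a.length) ∧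
    gl t * val lift ((d.fus.getD t ⟨(0, 0), [], []⟩).src.getD i []) * (gl t)⁻¹ =
      val lift ((d.fus.getD t ⟨(0, 0), [], []⟩).img.getD i []) * (tail d ξ lift gl (fusBase d t + i) : Γ) := by
  simp only [wfOK, Bool.and_eq_true] at hb
  have h := allBelow_spec _ _ (allBelow_spec _ _ hb.2 t ht) i hi
  simp only [Bool.and_eq_true, List.all_eq_true, Nat.blt_eq] at h
  obtain ⟨h1, h2⟩ := h
  refine ⟨h1, h2, ?_⟩
  have e' : ξ (val lift ((d.fus.getD t ⟨(0, 0), [], []⟩).img.getD i [])) =
      ξ (gl t * val lift ((d.fus.getD t ⟨(0, 0), [], []⟩).src.getD i []) * (gl t)⁻¹) := by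
    rw [map_mul, map_mul, map_inv, hL.gl_eq t ht, word_eq hL h1, word_eq hL h2, hF.fus t ht i hi]
  rw [tail_val (tail_fus d lift gl ht hi) (central hker e'), mul_inv_cancel_left]

theorem step_sound : ∀ (u : List ℕ), (∀ q ∈ u, q < d.a.length) → ∀ v q, step d u = some (v, q) →
    (∀ x ∈ v, x < d.a.length) ∧ val lift u = val lift v * (tail d ξ lift gl q : Γ) := by
  intro u
  induction u with
  | nil => intro _ v q h; simp [step] at h
  | cons x rest ih =>
    intro hu v q h
    have hx := hu x List.mem_cons_self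
    obtain ⟨hpw, hpow, hcomm⟩ := rule_facts hker hL hb hF hx
    have hpwcase : (rest.take (d.p - 1) == List.replicate (d.p - 1) x && Nat.blt 0 d.p) = true →
        some (d.pow.getD x [] ++ rest.drop (d.p - 1), x) = some (v, q) →
        (∀ a ∈ v, a < d.a.length) ∧ val lift (x :: rest) = val lift v * (tail d ξ lift gl q : Γ) := by
      intro hc he
      simp only [Option.some.injEq, Prod.mk.injEq] at he
      obtain ⟨rfl, rfl⟩ := he
      simp only [Bool.and_eq_true, beq_iff_eq, Nat.blt_eq] at hc
      refine ⟨fun a ha => ?_, ?_⟩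
      · rcases List.mem_append.1 ha with ha | ha
        · exact hpw a ha
        · exact hu a (List.mem_cons_of_mem _ (List.drop_subset _ _ ha))
      · conv_lhs => rw [← List.take_append_drop (d.p - 1) rest, hc.1]
        rw [val_cons, val_append, show val lift (List.replicate (d.p - 1) x) = lift x ^ (d.p - 1) by simp [val],
          ← mul_assoc, ← pow_succ', show d.p - 1 + 1 = d.p by omega, hpow, val_append, mul_assoc, mul_assoc,
          ← Subgroup.mem_center_iff.1 (tail d ξ lift gl x).2 (val lift (rest.drop (d.p - 1)))]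
    have hrec : (match step d rest with | some (v, q) => some (x :: v, q) | none => none) = some (v, q) →
        (∀ a ∈ v, a < d.a.length) ∧ val lift (x :: rest) = val lift v * (tail d ξ lift gl q : Γ) := by
      intro h
      cases hs : step d rest with
      | none => simp [hs] at h
      | some r =>
        obtain ⟨v', q'⟩ := r
        simp only [hs, Option.some.injEq, Prod.mk.injEq] at h
        obtain ⟨rfl, rfl⟩ := h
        obtain ⟨h1, h2⟩ := ih (fun a ha => hu a (List.mem_cons_of_mem _ ha)) _ _ hs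
        exact ⟨by simpa [hx] using h1, by rw [val_cons, val_cons, h2, mul_assoc]⟩
    cases rest with
    | nil =>
      simp only [step] at h
      by_cases hc : (([] : List ℕ).take (d.p - 1) == List.replicate (d.p - 1) x && Nat.blt 0 d.p) = true
      · rw [if_pos hc] at h; exact hpwcase hc h
      · rw [if_neg hc] at h; simp at h
    | cons y rest' =>
      rw [step] at h
      by_cases hyx : Nat.blt y x = true
      · rw [if_pos hyx] at h
        simp only [Option.some.injEq, Prod.mk.injEq] at h
        obtain ⟨rfl, rfl⟩ := h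
        rw [Nat.blt_eq] at hyx
        obtain ⟨hw', hc⟩ := hcomm y hyx
        refine ⟨fun a ha => ?_, ?_⟩
        · rcases List.mem_append.1 ha with ha | ha
          · exact hw' a ha
          · exact hu a (List.mem_cons_of_mem _ (List.mem_cons_of_mem _ ha))
        · rw [val_cons, val_cons, ← mul_assoc, hc, val_append, mul_assoc, mul_assoc,
            ← Subgroup.mem_center_iff.1 (tail d ξ lift gl _).2 (val lift rest')]
      · rw [if_neg hyx] at h
        by_cases hc : ((y :: rest').take (d.p - 1) == List.replicate (d.p - 1) x && Nat.blt 0 d.p) = true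
        · rw [if_pos hc] at h; exact hpwcase hc h
        · rw [if_neg hc] at h; exact hrec h

theorem collect_sound : ∀ (fuel : ℕ) (u : List ℕ), (∀ q ∈ u, q < d.a.length) →
    (∀ q ∈ (collect d fuel u).1, q < d.a.length) ∧
    val lift u = val lift (collect d fuel u).1 * (((collect d fuel u).2.map (tail d ξ lift gl)).prod : Subgroup.center Γ) := by
  intro fuel
  induction fuel with
  | zero => intro u hu; exact ⟨hu, by simp [collect]⟩
  | succ fuel ih =>
    intro u hu
    cases hs : step d u with
    | none => simp [collect, hs]; exact hu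
    | some r =>
      obtain ⟨v, q⟩ := r
      obtain ⟨h1, h2⟩ := step_sound hker hL hb hF u hu v q hs
      obtain ⟨h3, h4⟩ := ih v h1
      simp only [collect, hs, List.map_cons, List.prod_cons, Subgroup.coe_mul]
      refine ⟨h3, ?_⟩
      rw [h2, h4, mul_assoc, Subgroup.mem_center_iff.1 (tail d ξ lift gl q).2]

theorem coll_sound {u : List ℕ} (hu : ∀ q ∈ u, q < d.a.length) :
    (∀ q ∈ (coll d u).1, q < d.a.length) ∧
      val lift u = val lift (coll d u).1 * (ev (tail d ξ lift gl) (counts d (coll d u).2) : Subgroup.center Γ) := by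
  rw [ev_counts]
  exact collect_sound hker hL hb hF _ u hu

theorem fus_prod {t : ℕ} (ht : t < d.fus.length) :
    ∀ f : List ℕ, (∀ i ∈ f, i < (d.fus.getD t ⟨(0, 0), [], []⟩).src.length) →
      (∀ q ∈ words (d.fus.getD t ⟨(0, 0), [], []⟩).src f, q < d.a.length) ∧
      (∀ q ∈ words (d.fus.getD t ⟨(0, 0), [], []⟩).img f, q < d.a.length) ∧
      gl t * val lift (words (d.fus.getD t ⟨(0, 0), [], []⟩).src f) * (gl t)⁻¹ =
        val lift (words (d.fus.getD t ⟨(0, 0), [], []⟩).img f) *
          (((fusVars d t f).map (tail d ξ lift gl)).prod : Subgroup.center Γ) := by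
  intro f
  induction f with
  | nil => intro _; simp [words, fusVars, val]
  | cons i f ih =>
    intro hf
    obtain ⟨a1, a2, a3⟩ := fus_facts hker hL hb hF ht (hf i List.mem_cons_self)
    obtain ⟨b1, b2, b3⟩ := ih fun a ha => hf a (List.mem_cons_of_mem _ ha)
    refine ⟨?_, ?_, ?_⟩
    · intro q hq
      simp only [words, List.flatMap_cons, List.mem_append] at hq
      exact hq.elim (a1 q) (b1 q)
    · intro q hq
      simp only [words, List.flatMap_cons, List.mem_append] at hq
      exact hq.elim (a2 q) (b2 q)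
    · simp only [words, List.flatMap_cons, fusVars, List.map_cons, List.prod_cons, val_append, Subgroup.coe_mul]
      simp only [words, fusVars] at b3
      rw [show ∀ g a b : Γ, g * (a * b) * g⁻¹ = g * a * g⁻¹ * (g * b * g⁻¹) from fun g a b => by group, a3, b3,
        mul_assoc, ← mul_assoc (tail d ξ lift gl _ : Γ),
        ← Subgroup.mem_center_iff.1 (tail d ξ lift gl (fusBase d t + i)).2, mul_assoc, mul_assoc]

theorem relVec_sound {r : Rel} (hr : (relVec d r).1 = true) (hok : ∀ a b c, r = .assoc a b c →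
    (∀ q ∈ a ++ b ++ c, q < d.a.length)) : ev (tail d ξ lift gl) (relVec d r).2 = 1 := by
  refine Subtype.ext ?_
  cases r with
  | assoc a b c =>
    have hall := hok a b c rfl
    have ha : ∀ q ∈ a, q < d.a.length := fun q hq => hall q (by simp [hq])
    have hbb : ∀ q ∈ b, q < d.a.length := fun q hq => hall q (by simp [hq])
    have hc : ∀ q ∈ c, q < d.a.length := fun q hq => hall q (by simp [hq])
    simp only [relVec, beq_iff_eq] at hr ⊢
    obtain ⟨hA, eA⟩ := coll_sound hker hL hb hF (u := a ++ b) fun q hq => (List.mem_append.1 hq).elim (ha q) (hbb q)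
    obtain ⟨hB, eB⟩ := coll_sound hker hL hb hF (u := b ++ c) fun q hq => (List.mem_append.1 hq).elim (hbb q) (hc q)
    obtain ⟨-, eX⟩ := coll_sound hker hL hb hF (u := (coll d (a ++ b)).1 ++ c)
      fun q hq => (List.mem_append.1 hq).elim (hA q) (hc q)
    obtain ⟨-, eY⟩ := coll_sound hker hL hb hF (u := a ++ (coll d (b ++ c)).1)
      fun q hq => (List.mem_append.1 hq).elim (ha q) (hB q)
    simp only [val_append, ev_counts] at eA eB eX eY
    rw [ev_vsub, ev_counts, ev_counts, List.map_append, List.map_append, List.prod_append, List.prod_append]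
    set pA := ((coll d (a ++ b)).2.map (tail d ξ lift gl)).prod
    set pB := ((coll d (b ++ c)).2.map (tail d ξ lift gl)).prod
    set pX := ((coll d ((coll d (a ++ b)).1 ++ c)).2.map (tail d ξ lift gl)).prod
    set pY := ((coll d (a ++ (coll d (b ++ c)).1)).2.map (tail d ξ lift gl)).prod
    have l : val lift a * val lift b * val lift c =
        val lift (coll d ((coll d (a ++ b)).1 ++ c)).1 * ((pA * pX : Subgroup.center Γ) : Γ) := by
      rw [eA, mul_assoc (val lift _), ← Subgroup.mem_center_iff.1 pA.2, ← mul_assoc, eX, Subgroup.coe_mul,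
        mul_assoc, Subgroup.mem_center_iff.1 pA.2]
    have r' : val lift a * val lift b * val lift c =
        val lift (coll d (a ++ (coll d (b ++ c)).1)).1 * ((pB * pY : Subgroup.center Γ) : Γ) := by
      rw [mul_assoc, eB, ← mul_assoc, eY, Subgroup.coe_mul, mul_assoc, Subgroup.mem_center_iff.1 pB.2]
    rw [hr, r'] at l
    have : pB * pY = pA * pX := Subtype.ext (mul_left_cancel l)
    rw [this, div_self']
  | fuse t f g =>
    simp only [relVec, Bool.and_eq_true, List.all_eq_true, Nat.blt_eq, beq_iff_eq] at hr ⊢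
    obtain ⟨⟨⟨⟨ht, hf⟩, hg⟩, hAA⟩, hBB⟩ := hr
    obtain ⟨s1, i1, e1⟩ := fus_prod hker hL hb hF ht f hf
    obtain ⟨s2, i2, e2⟩ := fus_prod hker hL hb hF ht g hg
    have A := (coll_sound hker hL hb hF s1).2
    have A' := (coll_sound hker hL hb hF s2).2
    have B := (coll_sound hker hL hb hF i1).2
    have B' := (coll_sound hker hL hb hF i2).2
    simp only [ev_counts] at A A' B B'
    rw [ev_vsub, ev_counts, ev_counts]
    simp only [List.map_append, List.prod_append]
    rw [A, B] at e1
    rw [A', B'] at e2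
    rw [hAA] at e1
    rw [hBB] at e1
    generalize val lift (coll d (words (d.fus.getD t ⟨(0, 0), [], []⟩).src g)).1 = X at e1 e2
    generalize val lift (coll d (words (d.fus.getD t ⟨(0, 0), [], []⟩).img g)).1 = Y at e1 e2
    generalize ((fusVars d t f).map (tail d ξ lift gl)).prod = U at e1 ⊢
    generalize ((fusVars d t g).map (tail d ξ lift gl)).prod = U' at e2 ⊢
    generalize ((coll d (words (d.fus.getD t ⟨(0, 0), [], []⟩).src f)).2.map (tail d ξ lift gl)).prod = a at e1 ⊢
    generalize ((coll d (words (d.fus.getD t ⟨(0, 0), [], []⟩).src g)).2.map (tail d ξ lift gl)).prod = a' at e2 ⊢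
    generalize ((coll d (words (d.fus.getD t ⟨(0, 0), [], []⟩).img f)).2.map (tail d ξ lift gl)).prod = b at e1 ⊢
    generalize ((coll d (words (d.fus.getD t ⟨(0, 0), [], []⟩).img g)).2.map (tail d ξ lift gl)).prod = b' at e2 ⊢
    have key : ∀ (a b U : Subgroup.center Γ), gl t * (X * (a : Γ)) * (gl t)⁻¹ = Y * (b : Γ) * (U : Γ) →
        gl t * X * (gl t)⁻¹ = Y * ((b * U / a : Subgroup.center Γ) : Γ) := by
      intro a b U h
      rw [show gl t * (X * (a : Γ)) * (gl t)⁻¹ = gl t * X * (gl t)⁻¹ * (a : Γ) by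
        rw [← mul_assoc, mul_assoc _ (a : Γ), ← Subgroup.mem_center_iff.1 a.2, ← mul_assoc]] at h
      rw [div_eq_mul_inv, Subgroup.coe_mul, Subgroup.coe_mul, InvMemClass.coe_inv, ← mul_assoc, ← mul_assoc, ← h,
        mul_inv_cancel_right]
    have h1 := key _ _ _ e1
    rw [key _ _ _ e2] at h1
    have h3 : b' * U' / a' = b * U / a := Subtype.ext (mul_left_cancel h1)
    rw [div_eq_div_iff_mul_eq_mul] at h3
    have h4 : U * b * a' = U' * b' * a := by rw [mul_comm U b, mul_comm U' b', ← h3]
    rw [h4, div_self']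

variable (hr : rowsOK d = true)
  (hrel : d.rels.all (fun r => match r with
    | .assoc a b c => (a ++ b ++ c).all (fun q => Nat.blt q d.a.length) | .fuse .. => true) = true)

include hr hrel

theorem rows_sound : ∀ r ∈ d.rows, ev (tail d ξ lift gl) r.2.1 = 1 := by
  intro r hmem
  simp only [rowsOK, Bool.and_eq_true, List.all_eq_true, Nat.blt_eq, beq_iff_eq] at hr
  obtain ⟨hlt, he⟩ := hr.2 r hmem
  rw [← he]
  refine ev_combine d _ ?_ _ hlt
  intro e hmem'
  obtain ⟨s, hs, rfl⟩ := List.mem_map.1 hmem'
  refine relVec_sound hker hL hb hF (hr.1 s hs) fun a b c hs' => ?_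
  have := List.all_eq_true.1 hrel s hs
  rw [hs'] at this
  simp only [List.all_eq_true, Nat.blt_eq] at this
  exact this

omit hr hrel

variable (hrows : ∀ r ∈ d.rows, ev (tail d ξ lift gl) r.2.1 = 1)

include hrows

theorem normal_sound {u : List ℕ} {v : List ℤ} (hu : ∀ q ∈ u, q < d.a.length) :
    tot d ξ lift gl (normal d u v) = tot d ξ lift gl (u, v) := by
  show val lift (coll d u).1 * _ = val lift u * _
  rw [(coll_sound hker hL hb hF hu).2]
  simp only [normal, ev_reduce _ d.rows hrows, ev_vadd, Subgroup.coe_mul, mul_assoc]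

theorem invGen_sound {i : ℕ} (hi : i < d.a.length) :
    (∀ q ∈ (invGen d i).1, q < d.a.length) ∧ tot d ξ lift gl (invGen d i) = (lift i)⁻¹ := by
  refine ⟨fun q hq => (List.eq_of_mem_replicate hq) ▸ hi, ?_⟩
  have hb' := hb
  simp only [wfOK, Bool.and_eq_true] at hb'
  have h := allBelow_spec _ _ hb'.1.2 i hi
  simp only [Bool.and_eq_true, Nat.blt_eq, beq_iff_eq] at h
  have e := (coll_sound hker hL hb hF (u := List.replicate (d.ords.getD i 1) i)
    fun q hq => (List.eq_of_mem_replicate hq) ▸ hi).2
  rw [h.1.2] at e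
  simp only [val, List.map_nil, List.prod_nil, one_mul, List.map_replicate, List.prod_replicate] at e
  simp only [tot, invGen, ev_vsmul, zpow_neg_one, val, List.map_replicate, List.prod_replicate,
    InvMemClass.coe_inv, ← e]
  obtain ⟨m, hm⟩ : ∃ m, d.ords.getD i 1 = m + 1 := ⟨_, (Nat.succ_pred_eq_of_pos h.2).symm⟩
  rw [hm, Nat.add_sub_cancel, pow_succ, mul_inv_rev, ← mul_assoc, ← inv_inv (lift i ^ m),
    ← mul_inv_rev]
  group

/-- The value of a listed generator of the derived group. -/
theorem gsProd_sound (hgs : ∀ s ∈ d.gs, ∀ q ∈ s.1, q < d.a.length) :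
    ∀ ss : List ℕ, (∀ s ∈ ss, s < d.gs.length) →
      (∀ q ∈ (gsProd d ss).1, q < d.a.length) ∧
      tot d ξ lift gl (gsProd d ss) ∈ Submonoid.closure {x | ∃ s ∈ d.gs, x = tot d ξ lift gl s} := by
  intro ss
  induction ss with
  | nil =>
    intro _
    refine ⟨by simp [gsProd], ?_⟩
    have : tot d ξ lift gl (gsProd d []) = 1 := by simp [tot, gsProd, val, ev_zero]
    rw [this]
    exact one_mem _
  | cons s ss ih =>
    intro hss
    obtain ⟨h1, h2⟩ := ih fun a ha => hss a (List.mem_cons_of_mem _ ha)
    have hs := hss s List.mem_cons_self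
    have hmem : d.gs.getD s ([], []) ∈ d.gs := by rw [List.getD_eq_getElem _ _ hs]; exact List.getElem_mem hs
    refine ⟨fun q hq => ?_, ?_⟩
    · simp only [gsProd, List.mem_append] at hq
      exact hq.elim (hgs _ hmem q) (h1 q)
    · show tot d ξ lift gl ((d.gs.getD s ([], [])).1 ++ (gsProd d ss).1,
        vadd (d.gs.getD s ([], [])).2 (gsProd d ss).2) ∈ _
      rw [tot_mul]
      exact mul_mem (Submonoid.subset_closure ⟨_, hmem, rfl⟩) h2

theorem tot_gsProd : ∀ ss : List ℕ, tot d ξ lift gl (gsProd d ss) =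
    (ss.map fun s => tot d ξ lift gl (d.gs.getD s ([], []))).prod := by
  intro ss
  induction ss with
  | nil => simp [tot, gsProd, val, ev_zero]
  | cons s ss ih => rw [List.map_cons, List.prod_cons, ← ih, ← tot_mul]; rfl

/-- The extension splits uniquely over the span of the listed generators. -/
theorem chain_inj (hgs : ∀ s ∈ d.gs, ∀ q ∈ s.1, q < d.a.length) (hp : d.p.Prime) (hcl : Chain d)
    (hne : ∀ i < d.gs.length, ∀ f ∈ formsOf d i, val cd (d.gs.getD i ([], [])).1 ≠ val cd f) :
    ∀ m ≤ d.gs.length, ∀ x ∈ Subgroup.closure {x | ∃ j < m, x = tot d ξ lift gl (d.gs.getD j ([], []))},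
      (ξ x = 1 → x = 1) ∧ ∃ f ∈ formsOf d m, ξ x = val cd f := by
  classical
  set y : ℕ → Γ := fun j => tot d ξ lift gl (d.gs.getD j ([], [])) with hy
  have hyv : ∀ j < d.gs.length, ξ (y j) = val cd (d.gs.getD j ([], [])).1 := by
    intro j hj
    have hm : d.gs.getD j ([], []) ∈ d.gs := by rw [List.getD_eq_getElem _ _ hj]; exact List.getElem_mem hj
    simp only [hy, tot, map_mul, ev_tail_ker, mul_one, word_eq hL (hgs _ hm)]
  have hrelv : ∀ A B : List ℕ, (∀ q ∈ A, q < d.gs.length) → (∀ q ∈ B, q < d.gs.length) →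
      normal d (gsProd d A).1 (gsProd d A).2 = normal d (gsProd d B).1 (gsProd d B).2 →
      (A.map y).prod = (B.map y).prod := by
    intro A B hA hB e
    have hA' := (gsProd_sound (lift := lift) (gl := gl) hker hL hb hF hrows hgs A hA).1
    have hB' := (gsProd_sound (lift := lift) (gl := gl) hker hL hb hF hrows hgs B hB).1
    have e' := congrArg (tot d ξ lift gl) e
    rw [normal_sound hker hL hb hF hrows hA', normal_sound hker hL hb hF hrows hB'] at e'
    rw [← tot_gsProd hker hL hb hF hrows, ← tot_gsProd hker hL hb hF hrows]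
    exact e'
  intro m
  induction m with
  | zero =>
    intro _ x hx
    have : x = 1 := by simpa using hx
    subst this
    exact ⟨fun _ => rfl, [], by simp [formsOf], by simp [val]⟩
  | succ i ih =>
    intro hi
    have hi' : i < d.gs.length := hi
    have ih' := ih hi'.le
    set K := Subgroup.closure {x | ∃ j < i, x = y j} with hK
    have hlist : ∀ u : List ℕ, (∀ q ∈ u, q < i) → (u.map y).prod ∈ K := fun u hu =>
      Subgroup.list_prod_mem _ fun z hz => by
        obtain ⟨q, hq, rfl⟩ := List.mem_map.1 hz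
        exact Subgroup.subset_closure ⟨q, hu q hq, rfl⟩
    have hrep : ∀ k : ℕ, ∀ q ∈ List.replicate k i, q < d.gs.length := fun k q hq =>
      List.eq_of_mem_replicate hq ▸ hi'
    obtain ⟨⟨u, hu, eu⟩, hconj⟩ := hcl i hi'
    have hpow : y i ^ d.p ∈ K := by
      have := hrelv _ _ (hrep d.p) (fun q hq => (hu q hq).trans hi') eu
      rw [List.map_replicate, List.prod_replicate] at this
      rw [this]
      exact hlist u hu
    have hc : ∀ x ∈ K, y i * x * (y i)⁻¹ ∈ K := by
      have hle : K ≤ K.comap (MulAut.conj (y i)).toMonoidHom := by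
        refine (Subgroup.closure_le _).2 ?_
        rintro _ ⟨j, hj, rfl⟩
        obtain ⟨w, hw, ew⟩ := hconj j hj
        have := hrelv [i, j] (w ++ [i]) (by intro q hq; simp at hq; omega)
          (fun q hq => (List.mem_append.1 hq).elim (fun h => (hw q h).trans hi')
            fun h => by simp at h; omega) ew
        simp only [List.map_cons, List.map_nil, List.prod_cons, List.prod_nil, mul_one, List.map_append,
          List.prod_append] at this
        show y i * y j * (y i)⁻¹ ∈ K
        rw [this, mul_inv_cancel_right]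
        exact hlist w hw
      exact fun x hx => hle hx
    have hpos : 1 < d.p := hp.one_lt
    have hcj : ∀ k : ℕ, ∀ x ∈ K, y i ^ k * x * (y i ^ k)⁻¹ ∈ K := by
      intro k
      induction k with
      | zero => intro x hx; simpa using hx
      | succ k ihk =>
        intro x hx
        have := ihk _ (hc x hx)
        rwa [show y i ^ k * (y i * x * (y i)⁻¹) * (y i ^ k)⁻¹ = y i ^ (k + 1) * x * (y i ^ (k + 1))⁻¹ by
          rw [pow_succ]; group] at this
    -- the set of products
    let M : Subgroup Γ :=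
      { carrier := {x | ∃ k ∈ K, ∃ e : ℕ, x = k * y i ^ e}
        one_mem' := ⟨1, one_mem _, 0, by simp⟩
        mul_mem' := by
          rintro _ _ ⟨k, hk, e, rfl⟩ ⟨k', hk', e', rfl⟩
          exact ⟨k * (y i ^ e * k' * (y i ^ e)⁻¹), mul_mem hk (hcj e k' hk'), e + e', by rw [pow_add]; group⟩
        inv_mem' := by
          rintro _ ⟨k, hk, e, rfl⟩
          -- `y⁻ᵉ = y^(p e - e) (y^p)⁻ᵉ`
          obtain ⟨f, hf⟩ : ∃ f, d.p * e = e + f := ⟨d.p * e - e, by
            have := Nat.le_mul_of_pos_left e (by omega : 0 < d.p); omega⟩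
          have hP : y i ^ (d.p * e) ∈ K := by rw [pow_mul]; exact pow_mem hpow e
          refine ⟨y i ^ f * ((y i ^ (d.p * e))⁻¹ * k⁻¹) * (y i ^ f)⁻¹, hcj f _ (mul_mem (inv_mem hP) (inv_mem hk)),
            f, ?_⟩
          rw [hf, pow_add, mul_inv_rev, mul_inv_rev]
          group }
    intro x hx
    have hxM : x ∈ M := by
      refine (Subgroup.closure_le M).2 ?_ hx
      rintro _ ⟨j, hj, rfl⟩
      rcases Nat.lt_succ_iff_lt_or_eq.1 hj with hj | rfl
      · exact ⟨y j, Subgroup.subset_closure ⟨j, hj, rfl⟩, 0, by simp [hy]⟩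
      · exact ⟨1, one_mem _, 1, by simp [hy]⟩
    obtain ⟨k₀, hk₀, e₀, rfl⟩ := hxM
    set r := e₀ % d.p with hrdef
    set k := k₀ * (y i ^ d.p) ^ (e₀ / d.p) with hkdef
    have hk : k ∈ K := mul_mem hk₀ (pow_mem hpow _)
    have ex : k₀ * y i ^ e₀ = k * y i ^ r := by
      rw [hkdef, mul_assoc, ← pow_mul, ← pow_add, hrdef, Nat.div_add_mod]
    rw [ex]
    obtain ⟨-, f, hf, hfe⟩ := ih' k hk
    refine ⟨fun h1 => ?_, f ++ (List.replicate r (d.gs.getD i ([], [])).1).flatten, ?_, ?_⟩
    · rcases Nat.eq_zero_or_pos r with h0 | h0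
      · rw [h0, pow_zero, mul_one] at h1 ⊢
        exact (ih' k hk).1 h1
      · exfalso
        have hrp : r < d.p := Nat.mod_lt _ (by omega)
        have hcop : Nat.gcd r d.p = 1 :=
          Nat.coprime_comm.1 ((Nat.Prime.coprime_iff_not_dvd hp).2 fun h => by
            have := Nat.le_of_dvd h0 h; omega)
        rw [map_mul, map_pow] at h1
        have h2 : ξ (y i) ^ r ∈ K.map ξ := by
          rw [eq_inv_of_mul_eq_one_right h1, ← map_inv]
          exact ⟨_, inv_mem hk, rfl⟩
        have h3 : ξ (y i) ^ d.p ∈ K.map ξ := ⟨_, hpow, map_pow ξ _ _⟩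
        have h4 : ξ (y i) ∈ K.map ξ := by
          have hb' := Nat.gcd_eq_gcd_ab r d.p
          rw [hcop] at hb'
          rw [← zpow_one (ξ (y i)), show (1 : ℤ) = r * Nat.gcdA r d.p + d.p * Nat.gcdB r d.p from hb',
            zpow_add, zpow_mul, zpow_mul, zpow_natCast, zpow_natCast]
          exact mul_mem (zpow_mem h2 _) (zpow_mem h3 _)
        obtain ⟨k', hk', ek'⟩ := h4
        obtain ⟨f', hf', hfe'⟩ := (ih' k' hk').2
        exact hne i hi' f' hf' (by rw [← hyv i hi', ← ek', hfe'])
    · simp only [formsOf, List.mem_flatMap, List.mem_map, List.mem_range]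
      exact ⟨f, hf, r, Nat.mod_lt _ (by omega), rfl⟩
    · rw [map_mul, map_pow, hfe, hyv i hi', val_append]
      congr 1
      clear_value r
      clear hrdef ex
      induction r with
      | zero => simp [val]
      | succ r ihr => rw [List.replicate_succ, List.flatten_cons, val_append, ← ihr, pow_succ']

variable (hd : derivedOK d = true) (hcl : Chain d)

include hd hcl

/-- Commutators in the preimage of the Sylow subgroup lying in the kernel are trivial. -/
theorem derived_ker {P : Subgroup Γ}
    (hP : ∀ x ∈ P, ∃ u : List ℕ, (∀ q ∈ u, q < d.a.length) ∧ ξ x = ξ (val lift u))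
    {z : Γ} (hz : z ∈ ⁅P, P⁆) (hzk : ξ z = 1)
    (hp : d.p.Prime)
    (hne : ∀ i < d.gs.length, ∀ f ∈ formsOf d i, val cd (d.gs.getD i ([], [])).1 ≠ val cd f) : z = 1 := by
  simp only [derivedOK, Bool.and_eq_true, List.all_eq_true, List.any_eq_true, beq_iff_eq, Nat.blt_eq] at hd
  obtain ⟨hgs, hwit⟩ := hd
  set H := Subgroup.closure {x | ∃ s ∈ d.gs, x = tot d ξ lift gl s}
  have hsub : ∀ {x : Γ}, x ∈ Submonoid.closure {x | ∃ s ∈ d.gs, x = tot d ξ lift gl s} → x ∈ H :=
    fun {x} hx => Submonoid.closure_le.2 Subgroup.subset_closure hx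
  have hcommH : ∀ i < d.a.length, ∀ j < i, ⁅lift i, lift j⁆ ∈ H := by
    intro i hi j hj
    have h := allBelow_spec _ _ (Bool.and_eq_true _ _ |>.mp (allBelow_spec _ _ hwit i hi)).1 j hj
    simp only [Bool.and_eq_true, List.all_eq_true, Nat.blt_eq, beq_iff_eq] at h
    obtain ⟨hI, eI⟩ := invGen_sound hker hL hb hF hrows hi
    obtain ⟨hJ, eJ⟩ := invGen_sound hker hL hb hF hrows (hj.trans hi)
    obtain ⟨hW, hmem⟩ := gsProd_sound hker hL hb hF hrows hgs _ h.1
    have e := congrArg (tot d ξ lift gl) h.2
    rw [normal_sound hker hL hb hF hrows (fun q hq => by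
        simp only [List.mem_cons, List.mem_append] at hq
        rcases hq with rfl | rfl | hq | hq
        exacts [hi, hj.trans hi, hI q hq, hJ q hq]),
      normal_sound hker hL hb hF hrows hW] at e
    have e2 : tot d ξ lift gl (i :: j :: ((invGen d i).1 ++ (invGen d j).1), vadd (invGen d i).2 (invGen d j).2) =
        lift i * (lift j * tot d ξ lift gl ((invGen d i).1 ++ (invGen d j).1, vadd (invGen d i).2 (invGen d j).2)) := by
      simp [tot, val_cons, mul_assoc]
    rw [e2, tot_mul, show ((invGen d i).1, (invGen d i).2) = invGen d i from rfl,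
      show ((invGen d j).1, (invGen d j).2) = invGen d j from rfl, eI, eJ] at e
    rw [commutatorElement_def, show lift i * lift j * (lift i)⁻¹ * (lift j)⁻¹ =
      lift i * (lift j * ((lift i)⁻¹ * (lift j)⁻¹)) by group, e]
    exact hsub hmem
  have hconjH : ∀ i < d.a.length, ∀ x ∈ H, lift i * x * (lift i)⁻¹ ∈ H := by
    intro i hi
    have hle : H ≤ H.comap (MulAut.conj (lift i)).toMonoidHom := by
      refine (Subgroup.closure_le _).2 ?_
      rintro _ ⟨s, hs, rfl⟩
      obtain ⟨k, hk, rfl⟩ := List.mem_iff_getElem.1 hs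
      have h := allBelow_spec _ _ (Bool.and_eq_true _ _ |>.mp (allBelow_spec _ _ hwit i hi)).2 k hk
      simp only [Bool.and_eq_true, List.all_eq_true, Nat.blt_eq, beq_iff_eq, List.getD_eq_getElem _ _ hk] at h
      obtain ⟨hI, eI⟩ := invGen_sound hker hL hb hF hrows hi
      obtain ⟨hW, hmem⟩ := gsProd_sound hker hL hb hF hrows hgs _ h.1
      have e := congrArg (tot d ξ lift gl) h.2
      rw [normal_sound hker hL hb hF hrows (fun q hq => by
          simp only [List.mem_cons, List.cons_append, List.mem_append] at hq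
          rcases hq with rfl | hq | hq
          exacts [hi, hgs _ hs q hq, hI q hq]),
        normal_sound hker hL hb hF hrows hW, tot_mul,
        show ((invGen d i).1, (invGen d i).2) = invGen d i from rfl, eI] at e
      show lift i * tot d ξ lift gl d.gs[k] * (lift i)⁻¹ ∈ H
      rw [show lift i * tot d ξ lift gl d.gs[k] = tot d ξ lift gl (i :: d.gs[k].1, d.gs[k].2) by
        simp [tot, val_cons, mul_assoc], e]
      exact hsub hmem
    exact fun x hx => hle hx
  have hcg : ∀ i < d.a.length, ∀ j < d.a.length, ⁅lift i, lift j⁆ ∈ H := by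
    intro i hi j hj
    rcases lt_trichotomy j i with h | h | h
    · exact hcommH i hi j h
    · subst h; rw [commutatorElement_self]; exact one_mem _
    · rw [← commutatorElement_inv]; exact inv_mem (hcommH j hj i h)
  have hconjV : ∀ u : List ℕ, (∀ q ∈ u, q < d.a.length) → ∀ x ∈ H, val lift u * x * (val lift u)⁻¹ ∈ H := by
    intro u
    induction u with
    | nil => intro _ x hx; simpa [val] using hx
    | cons i u ih =>
      intro hu x hx
      rw [val_cons, show lift i * val lift u * x * (lift i * val lift u)⁻¹ =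
        lift i * (val lift u * x * (val lift u)⁻¹) * (lift i)⁻¹ by group]
      exact hconjH i (hu i List.mem_cons_self) _ (ih (fun a ha => hu a (List.mem_cons_of_mem _ ha)) x hx)
  have hc1 : ∀ i < d.a.length, ∀ v : List ℕ, (∀ q ∈ v, q < d.a.length) → ⁅lift i, val lift v⁆ ∈ H := by
    intro i hi v
    induction v with
    | nil => intro _; simp [val]
    | cons j v ih =>
      intro hv
      rw [val_cons, commutatorElement_def, show lift i * (lift j * val lift v) * (lift i)⁻¹ * (lift j * val lift v)⁻¹ =
        ⁅lift i, lift j⁆ * (lift j * ⁅lift i, val lift v⁆ * (lift j)⁻¹) by simp only [commutatorElement_def]; group]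
      exact mul_mem (hcg i hi j (hv j List.mem_cons_self))
        (hconjH j (hv j List.mem_cons_self) _ (ih fun a ha => hv a (List.mem_cons_of_mem _ ha)))
  have hc2 : ∀ u : List ℕ, (∀ q ∈ u, q < d.a.length) → ∀ v : List ℕ, (∀ q ∈ v, q < d.a.length) →
      ⁅val lift u, val lift v⁆ ∈ H := by
    intro u
    induction u with
    | nil => intro _ v _; simp [val]
    | cons i u ih =>
      intro hu v hv
      rw [val_cons, commutatorElement_def, show lift i * val lift u * val lift v * (lift i * val lift u)⁻¹ * (val lift v)⁻¹ =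
        lift i * ⁅val lift u, val lift v⁆ * (lift i)⁻¹ * ⁅lift i, val lift v⁆ by simp only [commutatorElement_def]; group]
      exact mul_mem (hconjH i (hu i List.mem_cons_self) _ (ih (fun a ha => hu a (List.mem_cons_of_mem _ ha)) v hv))
        (hc1 i (hu i List.mem_cons_self) v hv)
  have hle : ⁅P, P⁆ ≤ H := by
    rw [Subgroup.commutator_le]
    intro x hx y hy
    obtain ⟨u, hu, hxu⟩ := hP x hx
    obtain ⟨v, hv, hyv⟩ := hP y hy
    obtain ⟨c, hc, rfl⟩ : ∃ c ∈ Subgroup.center Γ, x = c * val lift u :=
      ⟨x * (val lift u)⁻¹, hker (by rw [MonoidHom.mem_ker, map_mul, map_inv, hxu, mul_inv_cancel]), by group⟩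
    obtain ⟨c', hc', rfl⟩ : ∃ c ∈ Subgroup.center Γ, y = c * val lift v :=
      ⟨y * (val lift v)⁻¹, hker (by rw [MonoidHom.mem_ker, map_mul, map_inv, hyv, mul_inv_cancel]), by group⟩
    have e1 : ∀ {c : Γ}, c ∈ Subgroup.center Γ → ∀ a b : Γ, ⁅c * a, b⁆ = ⁅a, b⁆ := fun {c} hc a b => by
      rw [commutatorElement_def, show c * a * b * (c * a)⁻¹ = c * (a * b * a⁻¹) * c⁻¹ by group,
        ← Subgroup.mem_center_iff.1 hc (a * b * a⁻¹), mul_inv_cancel_right, commutatorElement_def]
    rw [e1 hc, ← commutatorElement_inv, e1 hc', commutatorElement_inv]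
    exact hc2 u hu v hv
  refine (chain_inj hker hL hb hF hrows hgs hp hcl hne d.gs.length le_rfl z ?_).1 hzk
  refine Subgroup.closure_mono ?_ (hle hz)
  rintro _ ⟨s, hs, rfl⟩
  obtain ⟨j, hj, rfl⟩ := List.mem_iff_getElem.1 hs
  exact ⟨j, hj, by rw [List.getD_eq_getElem _ _ hj]⟩

omit hker hL hb hF hrows hd hcl

/-- All checks together: kernel elements of the derived group of the preimage are trivial. -/
theorem kill [Finite G] {d : SchurData} {cd fg : ℕ → G} (hb : wfOK d = true) (hF : Facts d cd fg)
    (hr : rowsOK d = true)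
    (hrel : d.rels.all (fun r => match r with
      | .assoc a b c => (a ++ b ++ c).all (fun q => Nat.blt q d.a.length) | .fuse .. => true) = true)
    (hd : derivedOK d = true) (hcl : Chain d) (hp : d.p.Prime)
    (hne : ∀ i < d.gs.length, ∀ f ∈ formsOf d i, val cd (d.gs.getD i ([], [])).1 ≠ val cd f)
    (ξ : Γ →* G) (hker : ξ.ker ≤ Subgroup.center Γ)
    (hcd : ∀ q < d.a.length, cd q ∈ ξ.range) (hfg : ∀ t < d.fus.length, fg t ∈ ξ.range)
    {U : Subgroup G} (hU : U ≤ Subgroup.closure {x | ∃ q < d.a.length, x = cd q})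
    (w : U.comap ξ) (hw : w ∈ commutator (U.comap ξ)) (hw1 : ξ w = 1) : (w : Γ) = 1 := by
  classical
  let lift : ℕ → Γ := fun q => if h : cd q ∈ ξ.range then (MonoidHom.mem_range.1 h).choose else 1
  let gl : ℕ → Γ := fun t => if h : fg t ∈ ξ.range then (MonoidHom.mem_range.1 h).choose else 1
  have hL : Lifts d ξ cd fg lift gl :=
    { lift_eq := fun q hq => by
        simp only [lift, dif_pos (hcd q hq)]
        exact (MonoidHom.mem_range.1 (hcd q hq)).choose_spec
      gl_eq := fun t ht => by
        simp only [gl, dif_pos (hfg t ht)]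
        exact (MonoidHom.mem_range.1 (hfg t ht)).choose_spec }
  have hwords : ∀ g ∈ Subgroup.closure {x | ∃ q < d.a.length, x = cd q},
      ∃ u : List ℕ, (∀ q ∈ u, q < d.a.length) ∧ g = val cd u := by
    intro g hg
    rw [← Subgroup.mem_toSubmonoid, Subgroup.closure_toSubmonoid_of_finite] at hg
    induction hg using Submonoid.closure_induction with
    | mem x hx =>
      obtain ⟨q, hq, rfl⟩ := hx
      exact ⟨[q], by simpa using hq, by simp [val]⟩
    | one => exact ⟨[], by simp, by simp [val]⟩
    | mul x y _ _ hx hy =>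
      obtain ⟨u, hu, rfl⟩ := hx
      obtain ⟨v, hv, rfl⟩ := hy
      exact ⟨u ++ v, fun q hq => (List.mem_append.1 hq).elim (hu q) (hv q), (val_append _ _ _).symm⟩
  refine derived_ker hker hL hb hF (rows_sound hker hL hb hF hr hrel) hd hcl (P := U.comap ξ) (fun x hx => ?_) (z := (w : Γ)) ?_ hw1 hp hne
  · obtain ⟨u, hu, e⟩ := hwords _ (hU hx)
    exact ⟨u, hu, by rw [word_eq hL hu, e]⟩
  · exact Subgroup.map_subtype_commutator (U.comap ξ) ▸ Subgroup.mem_map_of_mem _ hw

end Cfsg.Agent.Tails
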