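import Cfsg.Agent.Lib.Schur.Tails

/-!
Tail certificates up to one vector of tails: kernel elements of the derived group of the preimage are powers of
its value, and its square is trivial.
-/

set_option autoImplicit false

namespace Cfsg.Agent.Tails

open Cfsg.Agent.PermCert
open Cfsg.Agent.PermSchur (SchurData Rel Fusion ev vadd vsmul relVec combine val val_append val_cons tailList
  ev_vadd ev_vsmul ev_combine commVar fusBase)
open scoped commutatorElement IsMulCommutative

/-- Each row is a combination of relations and a multiple of `v0`, and twice `v0` is such a combination. -/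
def rowsModOK (d : SchurData) (v0 : List ℤ) (cs : List ℤ) (cb : List (ℕ × ℤ)) : Bool :=
  d.rels.all (fun r => (relVec d r).1) &&
  (let eqs := d.rels.map fun r => (relVec d r).2
   allBelow (fun i =>
      let r := d.rows.getD i (0, [], [])
      r.2.2.all (fun e => Nat.blt e.1 eqs.length) &&
        vadd (combine d eqs r.2.2) (vsmul (cs.getD i 0) v0) == r.2.1) d.rows.length &&
    cb.all (fun e => Nat.blt e.1 eqs.length) && combine d eqs cb == vsmul 2 v0)

variable {G Γ Δ : Type*} [Group G] [Group Γ] [Group Δ]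

theorem map_valList (φ : Γ →* Δ) (lift : ℕ → Γ) (u : List ℕ) : φ (val lift u) = val (φ ∘ lift) u := by
  induction u with
  | nil => simp [val]
  | cons q u ih => rw [val_cons, val_cons, map_mul, ih]; rfl

theorem tailList_map (d : SchurData) (φ : Γ →* Δ) (lift gl : ℕ → Γ) :
    tailList d (φ ∘ lift) (φ ∘ gl) = (tailList d lift gl).map φ := by
  simp [tailList, List.map_flatten, Function.comp_def, map_valList φ]

variable {d : SchurData} {ξ : Γ →* G} {cd fg : ℕ → G} {lift gl : ℕ → Γ}
  (hker : ξ.ker ≤ Subgroup.center Γ) (hL : Lifts d ξ cd fg lift gl) (hb : wfOK d = true) (hF : Facts d cd fg)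

include hker hL hb hF

theorem tailList_central : ∀ x ∈ tailList d lift gl, x ∈ ξ.ker ⊓ Subgroup.center Γ := by
  have hw := hb
  simp only [wfOK, Bool.and_eq_true] at hw
  intro x hx
  simp only [tailList, List.mem_append, List.mem_map, List.mem_flatten, List.mem_range] at hx
  rcases hx with (⟨i, hi, rfl⟩ | ⟨l, ⟨i, hi, rfl⟩, hl⟩) | ⟨l, ⟨t, ht, rfl⟩, hl⟩
  · obtain ⟨hpw, -, -⟩ := rule_facts hker hL hb hF hi
    exact central hker (by rw [word_eq hL hpw, map_pow, hL.lift_eq i hi, hF.pow i hi])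
  · obtain ⟨j, hj, rfl⟩ := List.mem_map.1 hl
    rw [List.mem_range] at hj
    obtain ⟨hc, -⟩ := (rule_facts hker hL hb hF hi).2.2 j hj
    exact central hker (by rw [word_eq hL hc, map_mul, hL.lift_eq i hi, hL.lift_eq j (hj.trans hi), hF.comm i hi j hj])
  · obtain ⟨i, hi, rfl⟩ := List.mem_map.1 hl
    rw [List.mem_range] at hi
    obtain ⟨h1, h2, -⟩ := fus_facts hker hL hb hF ht hi
    exact central hker (by
      rw [word_eq hL h2, map_mul, map_mul, map_inv, hL.gl_eq t ht, word_eq hL h1, hF.fus t ht i hi])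

theorem tail_coe (q : ℕ) : (tail d ξ lift gl q : Γ) = (tailList d lift gl).getD q 1 := by
  refine tail_val rfl ?_
  rcases lt_or_ge q (tailList d lift gl).length with h | h
  · rw [List.getD_eq_getElem _ _ h]; exact tailList_central hker hL hb hF _ (List.getElem_mem h)
  · rw [List.getD_eq_default _ _ h]; exact one_mem _

omit hker hL hb hF

theorem ev_natural (φ : Γ →* Δ) : ∀ (v : List ℤ) (f : ℕ → Subgroup.center Γ) (f' : ℕ → Subgroup.center Δ),
    (∀ q, (f' q : Δ) = φ (f q)) → ((ev f' v : Subgroup.center Δ) : Δ) = φ ((ev f v : Subgroup.center Γ) : Γ) := by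
  intro v
  induction v with
  | nil => intro f f' _; simp [ev]
  | cons x v ih =>
    intro f f' h
    simp only [ev, Subgroup.coe_mul, SubgroupClass.coe_zpow, map_mul, map_zpow, h,
      ih (fun q => f (q + 1)) (fun q => f' (q + 1)) fun q => h (q + 1)]

/-- Kernel elements of the derived group of the preimage lie in a set of at most two elements. -/
theorem kill_mod [Finite G] {d : SchurData} {cd fg : ℕ → G} {v0 cs : List ℤ} {cb : List (ℕ × ℤ)}
    (hb : wfOK d = true) (hF : Facts d cd fg) (hr : rowsModOK d v0 cs cb = true)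
    (hrel : d.rels.all (fun r => match r with
      | .assoc a b c => (a ++ b ++ c).all (fun q => Nat.blt q d.a.length) | .fuse .. => true) = true)
    (hd : derivedOK d = true) (hcl : Chain d) (hp : d.p.Prime)
    (hne : ∀ i < d.gs.length, ∀ f ∈ formsOf d i, val cd (d.gs.getD i ([], [])).1 ≠ val cd f)
    (ξ : Γ →* G) (hker : ξ.ker ≤ Subgroup.center Γ)
    (hcd : ∀ q < d.a.length, cd q ∈ ξ.range) (hfg : ∀ t < d.fus.length, fg t ∈ ξ.range)
    {U : Subgroup G} (hU : U ≤ Subgroup.closure {x | ∃ q < d.a.length, x = cd q}) :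
    ∃ x : Γ, ∀ w : U.comap ξ, w ∈ commutator (U.comap ξ) → ξ w = 1 → (w : Γ) = 1 ∨ (w : Γ) = x := by
  classical
  let lift : ℕ → Γ := fun q => if h : cd q ∈ ξ.range then (MonoidHom.mem_range.1 h).choose else 1
  let gl : ℕ → Γ := fun t => if h : fg t ∈ ξ.range then (MonoidHom.mem_range.1 h).choose else 1
  have hL : Lifts d ξ cd fg lift gl :=
    { lift_eq := fun q hq => by
        simp only [lift, dif_pos (hcd q hq)]
        exact (MonoidHom.mem_range.1 (hcd q hq)).choose_spec
      gl_eq := fun t ht => by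
        simp only [gl, dif_pos (hfg t ht)]
        exact (MonoidHom.mem_range.1 (hfg t ht)).choose_spec }
  simp only [rowsModOK, Bool.and_eq_true, List.all_eq_true, beq_iff_eq, Nat.blt_eq] at hr
  obtain ⟨hvalid, ⟨hrow, hcb⟩, hcb2⟩ := hr
  set x : Γ := ((ev (tail d ξ lift gl) v0 : Subgroup.center Γ) : Γ) with hx
  set eqs := d.rels.map fun r => (relVec d r).2 with heqs
  have heq : ∀ {H : Type _} [Group H] {η : H →* G} {l g : ℕ → H}, η.ker ≤ Subgroup.center H →
      Lifts d η cd fg l g → ∀ e ∈ eqs, ev (tail d η l g) e = 1 := by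
    intro H _ η l g hη hl e he
    obtain ⟨s, hs, rfl⟩ := List.mem_map.1 he
    refine relVec_sound hη hl hb hF (hvalid s hs) fun a b c hs' => ?_
    have := List.all_eq_true.1 hrel s hs
    rw [hs'] at this
    simp only [List.all_eq_true, Nat.blt_eq] at this
    exact this
  have hx2 : x * x = 1 := by
    have e := congrArg (ev (tail d ξ lift gl)) hcb2
    rw [ev_vsmul, ev_combine d _ (heq hker hL) cb hcb] at e
    rw [hx, ← Subgroup.coe_mul, ← zpow_two, ← e, Subgroup.coe_one]
  have hxc : x ∈ Subgroup.center Γ := (ev (tail d ξ lift gl) v0).2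
  let Z := Subgroup.zpowers x
  have hZc : Z ≤ Subgroup.center Γ := Subgroup.zpowers_le.2 hxc
  haveI : Z.Normal := ⟨fun a ha g => by
    rw [Subgroup.mem_center_iff.1 (hZc ha) g, mul_inv_cancel_right]; exact ha⟩
  have hZk : Z ≤ ξ.ker := Subgroup.zpowers_le.2 (MonoidHom.mem_ker.2 (ev_tail_ker d ξ lift gl v0))
  let π : Γ →* Γ ⧸ Z := QuotientGroup.mk' Z
  let ξ' : Γ ⧸ Z →* G := QuotientGroup.lift Z ξ hZk
  have hξ : ∀ g, ξ' (π g) = ξ g := fun g => rfl
  have hker' : ξ'.ker ≤ Subgroup.center (Γ ⧸ Z) := by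
    intro k hk
    obtain ⟨g, rfl⟩ := QuotientGroup.mk'_surjective Z k
    rw [Subgroup.mem_center_iff]
    intro y
    obtain ⟨y, rfl⟩ := QuotientGroup.mk'_surjective Z y
    rw [← map_mul, ← map_mul, Subgroup.mem_center_iff.1 (hker hk) y]
  have hL' : Lifts d ξ' cd fg (π ∘ lift) (π ∘ gl) :=
    { lift_eq := fun q hq => hL.lift_eq q hq
      gl_eq := fun t ht => hL.gl_eq t ht }
  have htail : ∀ q, (tail d ξ' (π ∘ lift) (π ∘ gl) q : Γ ⧸ Z) = π (tail d ξ lift gl q : Γ) := fun q => by
    rw [tail_coe hker' hL' hb hF, tail_coe hker hL hb hF, tailList_map d π]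
    conv_lhs => rw [show (1 : Γ ⧸ Z) = π 1 from (map_one π).symm, List.getD_map]
  have hv0 : ev (tail d ξ' (π ∘ lift) (π ∘ gl)) v0 = 1 := Subtype.ext (by
    rw [ev_natural π v0 _ _ htail, Subgroup.coe_one]
    exact (QuotientGroup.eq_one_iff _).2 (Subgroup.mem_zpowers x))
  have hrows : ∀ r ∈ d.rows, ev (tail d ξ' (π ∘ lift) (π ∘ gl)) r.2.1 = 1 := by
    intro r hr
    obtain ⟨i, hi, rfl⟩ := List.mem_iff_getElem.1 hr
    have h := allBelow_spec _ _ hrow i hi
    simp only [List.getD_eq_getElem _ _ hi, Bool.and_eq_true, List.all_eq_true, Nat.blt_eq, beq_iff_eq] at h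
    rw [← h.2, ev_vadd, ev_vsmul, hv0, ev_combine d _ (heq hker' hL') _ h.1, one_zpow, one_mul]
  have hwords : ∀ g ∈ Subgroup.closure {x | ∃ q < d.a.length, x = cd q},
      ∃ u : List ℕ, (∀ q ∈ u, q < d.a.length) ∧ g = val cd u := by
    intro g hg
    rw [← Subgroup.mem_toSubmonoid, Subgroup.closure_toSubmonoid_of_finite] at hg
    induction hg using Submonoid.closure_induction with
    | mem x hx =>
      obtain ⟨q, hq, rfl⟩ := hx
      exact ⟨[q], by simpa using hq, by simp [val]⟩
    | one => exact ⟨[], by simp, by simp [val]⟩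
    | mul x y _ _ hx hy =>
      obtain ⟨u, hu, rfl⟩ := hx
      obtain ⟨v, hv, rfl⟩ := hy
      exact ⟨u ++ v, fun q hq => (List.mem_append.1 hq).elim (hu q) (hv q), (val_append _ _ _).symm⟩
  refine ⟨x, fun w hw hw1 => ?_⟩
  have hw' : (w : Γ) ∈ ⁅U.comap ξ, U.comap ξ⁆ :=
    Subgroup.map_subtype_commutator (U.comap ξ) ▸ Subgroup.mem_map_of_mem _ hw
  have h1 : π (w : Γ) = 1 := derived_ker hker' hL' hb hF hrows hd hcl (P := (U.comap ξ).map π)
    (fun y hy => by
      obtain ⟨g, hg, rfl⟩ := Subgroup.mem_map.1 hy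
      obtain ⟨u, hu, e⟩ := hwords _ (hU hg)
      exact ⟨u, hu, by rw [word_eq hL' hu, hξ, e]⟩)
    (by rw [← Subgroup.map_commutator]; exact Subgroup.mem_map_of_mem _ hw') (by rw [hξ]; exact hw1) hp hne
  obtain ⟨m, hm⟩ := Subgroup.mem_zpowers_iff.1 ((QuotientGroup.eq_one_iff (w : Γ)).1 h1)
  rw [← hm]
  rcases Int.emod_two_eq_zero_or_one m with h | h
  · left
    rw [← Int.mul_ediv_add_emod m 2, h, add_zero, zpow_mul, zpow_two, hx2, one_zpow]
  · right
    rw [← Int.mul_ediv_add_emod m 2, h, zpow_add, zpow_mul, zpow_two, hx2, one_zpow, one_mul, zpow_one]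

end Cfsg.Agent.Tails
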