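import Cfsg.Agent.Lib.Schur.Metacyclic
import Cfsg.Agent.Lib.Schur.Congr

/-!
The multiplier of a dihedral group.
-/

set_option autoImplicit false
set_option linter.style.haveILetI false

namespace Cfsg.Agent.Schur

open Metacyclic

lemma dihedralMult_equiv (n r : ℕ) [NeZero n] (hr : (r : ZMod n) = -1) :
    Nonempty (PresentedGroup (rels n 2 0 r) ≃* DihedralGroup n) := by
  set A := genA n 2 0 r with hAdef
  set B := genB n 2 0 r with hBdef
  have hA : A ^ n = 1 := genA_pow n 2 0 r
  have hB : B * B = 1 := by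
    rw [← pow_two, hBdef, genB_pow, pow_zero]
  have hBi : B⁻¹ = B := inv_eq_of_mul_eq_one_right hB
  have hBA : B * A * B = A ^ r := by
    conv_lhs => arg 2; rw [← hBi]
    exact genB_conj n 2 0 r
  let f : ZMod n → PresentedGroup (rels n 2 0 r) := fun i => A ^ i.val
  have hfcast : ∀ k : ℕ, f (k : ZMod n) = A ^ k := fun k => by
    show A ^ (k : ZMod n).val = A ^ k
    rw [ZMod.val_natCast]
    exact (pow_eq_pow_mod k hA).symm
  have hfadd : ∀ i j, f (i + j) = f i * f j := fun i j => by
    obtain ⟨a, rfl⟩ := ZMod.natCast_zmod_surjective i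
    obtain ⟨b, rfl⟩ := ZMod.natCast_zmod_surjective j
    rw [← Nat.cast_add, hfcast, hfcast, hfcast, pow_add]
  have hfB : ∀ i, f i * B = B * f (-i) := fun i => by
    obtain ⟨a, rfl⟩ := ZMod.natCast_zmod_surjective i
    have h : (-(a : ZMod n)) = ((r * a : ℕ) : ZMod n) := by
      rw [Nat.cast_mul, hr, neg_one_mul]
    rw [h, hfcast, hfcast, pow_mul]
    have h2 : (A ^ r) ^ a = B * A ^ a * B := by
      rw [← hBA]
      conv_lhs => arg 1; arg 2; rw [← hBi]
      rw [conj_pow, hBi]
    rw [h2, ← mul_assoc, ← mul_assoc, hB, one_mul]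
  let g : DihedralGroup n →* PresentedGroup (rels n 2 0 r) := MonoidHom.mk'
    (fun x => match x with | DihedralGroup.r i => f i | DihedralGroup.sr i => B * f i) (by
      rintro (i | i) (j | j)
      · simp only [DihedralGroup.r_mul_r, hfadd]
      · simp only [DihedralGroup.r_mul_sr]
        rw [← mul_assoc, hfB, mul_assoc, ← hfadd, neg_add_eq_sub]
      · simp only [DihedralGroup.sr_mul_r, hfadd, mul_assoc]
      · simp only [DihedralGroup.sr_mul_sr]
        rw [mul_assoc, ← mul_assoc (f i), hfB, mul_assoc, ← mul_assoc, hB, one_mul, ← hfadd,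
          neg_add_eq_sub])
  have hgA : g (DihedralGroup.r 1) = A := by
    show f 1 = A
    rw [← Nat.cast_one, hfcast, pow_one]
  have hgB : g (DihedralGroup.sr 0) = B := by
    show B * f 0 = B
    have h0 : f 0 = 1 := by have := hfcast 0; rwa [Nat.cast_zero, pow_zero] at this
    rw [h0, mul_one]
  have hsurj : Function.Surjective g := by
    rw [← MonoidHom.range_eq_top, eq_top_iff, ← closure_gen n 2 0 r, Subgroup.closure_le]
    rintro y (rfl | rfl)
    · exact ⟨_, hgB⟩
    · exact ⟨_, hgA⟩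
  obtain ⟨φ, hφA, hφB⟩ : ∃ φ : PresentedGroup (rels n 2 0 r) →* DihedralGroup n,
      φ A = DihedralGroup.r 1 ∧ φ B = DihedralGroup.sr 0 := by
    refine ⟨PresentedGroup.toGroup
      (f := fun b => cond b (DihedralGroup.r 1) (DihedralGroup.sr 0)) ?_,
      PresentedGroup.toGroup.of .., PresentedGroup.toGroup.of ..⟩
    intro x hx
    rcases hx with rfl | rfl | hx
    · simp
    · simp [pow_two]
    · rw [Set.mem_singleton_iff] at hx
      subst hx
      simp only [map_mul, map_inv, map_pow, FreeGroup.lift_apply_of, cond_true, cond_false,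
        DihedralGroup.r_one_pow, DihedralGroup.inv_sr, DihedralGroup.sr_mul_r,
        DihedralGroup.sr_mul_sr, DihedralGroup.inv_r, DihedralGroup.r_mul_r,
        DihedralGroup.one_def, hr]
      congr 1
      ring
  have hinj : Function.Injective g := by
    refine Function.LeftInverse.injective (g := φ) fun x => ?_
    have h1 : ∀ i : ZMod n, φ (f i) = DihedralGroup.r i := fun i => by
      show φ (A ^ i.val) = _
      rw [map_pow, hφA, DihedralGroup.r_one_pow, ZMod.natCast_zmod_val]
    cases x with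
    | r i => exact h1 i
    | sr i =>
      show φ (B * f i) = _
      rw [map_mul, h1, hφB, DihedralGroup.sr_mul_r, zero_add]
  exact ⟨(MulEquiv.ofBijective g ⟨hinj, hsurj⟩).symm⟩

/-- The multiplier of the dihedral group of order `2 n` is cyclic of order `gcd (n, 2)`. -/
theorem dihedral_multiplier (n : ℕ) [NeZero n] :
    Cfsg.HasCyclicSchurMultiplier (DihedralGroup n) (Nat.gcd n 2) := by
  have hn : 0 < n := Nat.pos_of_ne_zero (NeZero.ne n)
  set r := 2 * n - 1 with hrdef
  have hr0 : 0 < r := by omega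
  have hr : (r : ZMod n) = -1 := by
    rw [eq_neg_iff_add_eq_zero]
    have : r + 1 = 2 * n := by omega
    calc (r : ZMod n) + 1 = ((r + 1 : ℕ) : ZMod n) := by push_cast; ring
      _ = 0 := by rw [this]; simp
  have hrn : r ^ 2 ≡ 1 [MOD n] := by
    rw [← ZMod.natCast_eq_natCast_iff]
    push_cast
    rw [hr]
    ring
  have h := Metacyclic.main n 2 r 0 hn (by omega) hr0 hrn
  rw [mul_zero, Nat.zero_div, Nat.gcd_zero_left] at h
  have hd : Nat.gcd n (r - 1) = Nat.gcd n 2 := by
    have e : r - 1 + 2 = 2 * n := by omega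
    apply Nat.dvd_antisymm
    · refine Nat.dvd_gcd (Nat.gcd_dvd_left _ _) ?_
      have h1 : Nat.gcd n (r - 1) ∣ r - 1 + 2 := e ▸ (Nat.gcd_dvd_left _ _).mul_left 2
      exact (Nat.dvd_add_right (Nat.gcd_dvd_right _ _)).1 h1
    · refine Nat.dvd_gcd (Nat.gcd_dvd_left _ _) ?_
      have h1 : Nat.gcd n 2 ∣ r - 1 + 2 := e ▸ (Nat.gcd_dvd_left _ _).mul_left 2
      exact (Nat.dvd_add_left (Nat.gcd_dvd_right _ _)).1 h1
  have hS : Nat.gcd n (∑ i ∈ Finset.range 2, r ^ i) = n := by
    have : (∑ i ∈ Finset.range 2, r ^ i) = 2 * n := by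
      rw [Finset.sum_range_succ, Finset.sum_range_one]; simp; omega
    rw [this]
    exact Nat.gcd_eq_left (dvd_mul_left n 2)
  rw [hS, hd, Nat.mul_div_cancel _ hn] at h
  obtain ⟨e⟩ := dihedralMult_equiv n r hr
  exact hasCyclicSchurMultiplier_of_mulEquiv e h

end Cfsg.Agent.Schur
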