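import Cfsg.Agent.Lib.Schur.Extra

/-!
Projective representations and covering groups.
-/

set_option autoImplicit false
set_option linter.style.haveILetI false

namespace Cfsg.Agent.Schur

open scoped commutatorElement

universe u v

/-- The monomial representation induced from a character of a central subgroup. -/
lemma exists_monomial_rep {Δ : Type u} {Q : Type v} [Group Δ] [Group Q] [Finite Q]
    (τ : Δ →* Q) (hs : Function.Surjective τ) (hc : τ.ker ≤ Subgroup.center Δ)
    (lam : τ.ker →* ℂˣ) :
    ∃ ρ : Δ →* GL (Fin (Nat.card Q)) ℂ,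
      ∀ z : τ.ker, ρ z = Matrix.GeneralLinearGroup.scalar _ (lam z) := by
  classical
  let e : Q ≃ Fin (Nat.card Q) := Finite.equivFin Q
  let s : Q → Δ := Function.surjInv hs
  have hsec : ∀ q, τ (s q) = q := Function.surjInv_eq hs
  let c : Δ → Q → τ.ker := fun d q => ⟨(s (τ d * q))⁻¹ * (d * s q), by
    simp [MonoidHom.mem_ker, hsec]⟩
  let μ : Δ → Matrix (Fin (Nat.card Q)) (Fin (Nat.card Q)) ℂ := fun d i j =>
    if e.symm i = τ d * e.symm j then (lam (c d (e.symm j)) : ℂ) else 0
  have hμz : ∀ z : τ.ker, μ z = Matrix.scalar _ (lam z : ℂ) := by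
    intro z
    ext i j
    simp only [μ, Matrix.scalar_apply, Matrix.diagonal_apply, MonoidHom.mem_ker.1 z.2, one_mul,
      EmbeddingLike.apply_eq_iff_eq]
    split_ifs with h
    · congr 2
      apply Subtype.ext
      show (s (τ (z : Δ) * e.symm j))⁻¹ * ((z : Δ) * s (e.symm j)) = z
      rw [MonoidHom.mem_ker.1 z.2, one_mul, ← Subgroup.mem_center_iff.1 (hc z.2) (s (e.symm j)),
        inv_mul_cancel_left]
    · rfl
  have hμmul : ∀ a b, μ (a * b) = μ a * μ b := by
    intro a b
    ext i j
    rw [Matrix.mul_apply, Finset.sum_eq_single (e (τ b * e.symm j))]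
    · simp only [μ, Equiv.symm_apply_apply, if_true, map_mul, mul_assoc]
      split_ifs with h
      · rw [← Units.val_mul, ← map_mul]
        congr 2
        apply Subtype.ext
        simp only [c, Subgroup.coe_mul, map_mul, mul_assoc]
        group
      · simp
    · intro k _ hk
      simp only [μ]
      rw [if_neg (fun h : e.symm k = τ b * e.symm j => hk (by rw [← h, Equiv.apply_symm_apply])),
        mul_zero]
    · simp
  let M : Δ →* Matrix (Fin (Nat.card Q)) (Fin (Nat.card Q)) ℂ :=
    { toFun := μ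
      map_one' := by
        have := hμz 1
        simpa using this
      map_mul' := hμmul }
  refine ⟨M.toHomUnits, fun z => Units.ext ?_⟩
  show μ z = _
  rw [hμz z]
  rfl

lemma scalar_injective {n : ℕ} [NeZero n] :
    Function.Injective (Matrix.GeneralLinearGroup.scalar (R := ℂ) (Fin n)) := by
  intro a b h
  have := congrArg (fun g : GL (Fin n) ℂ => (g : Matrix (Fin n) (Fin n) ℂ) 0 0) h
  exact Units.ext (by simpa using this)

variable {F : Type u} [Group F] {Q : Type v} [Group Q] {π : F →* Q}

/-- A homomorphism on the universal cover whose values on a central subgroup meeting the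
commutator trivially are scalars can be twisted to be trivial there. -/
lemma exists_twist {n : ℕ} [NeZero n] (ρ : Cover π →* GL (Fin n) ℂ) (L : Subgroup (Cover π))
    (hL : L ≤ (coverHom π).ker) (hLc : L ⊓ commutator (Cover π) = ⊥)
    (hscal : ∀ l ∈ L, ρ l ∈ Subgroup.center (GL (Fin n) ℂ)) :
    ∃ ρ' : Cover π →* GL (Fin n) ℂ, (∀ l ∈ L, ρ' l = 1) ∧
      ∀ e, (ρ e)⁻¹ * ρ' e ∈ Subgroup.center (GL (Fin n) ℂ) := by
  letI : CommGroup L :=
    { (inferInstance : Group L) with
      mul_comm := fun a b => Subtype.ext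
        (Subgroup.mem_center_iff.1 (ker_coverHom_le_center π (hL b.2)) a) }
  have hex : ∀ l : L, ∃ a : ℂˣ, Matrix.GeneralLinearGroup.scalar (Fin n) a = ρ l := fun l => by
    have := hscal l l.2
    rw [Matrix.GeneralLinearGroup.center_eq_range_scalar] at this
    exact this
  choose a ha using hex
  let χ : L →* ℂˣ :=
    { toFun := a
      map_one' := scalar_injective (by rw [ha, map_one, OneMemClass.coe_one, map_one])
      map_mul' := fun x y => scalar_injective (by
        rw [ha, map_mul, ha, ha, Subgroup.coe_mul, map_mul]) }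
  have hinj : Function.Injective (Abelianization.of.comp L.subtype) := by
    rw [injective_iff_map_eq_one]
    intro l hl
    have h1 : (l : Cover π) ∈ L ⊓ commutator (Cover π) := ⟨l.2, by
      rw [← Abelianization.ker_of]; exact hl⟩
    rw [hLc, Subgroup.mem_bot] at h1
    exact Subtype.ext h1
  obtain ⟨ψ, hψ⟩ := exists_extend_units _ hinj χ
  let σ : Cover π →* GL (Fin n) ℂ :=
    (Matrix.GeneralLinearGroup.scalar (Fin n)).comp (ψ.comp Abelianization.of)
  have hσ : ∀ e, σ e ∈ Subgroup.center (GL (Fin n) ℂ) := fun e => by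
    rw [Matrix.GeneralLinearGroup.center_eq_range_scalar]; exact ⟨_, rfl⟩
  refine ⟨{ toFun := fun e => ρ e * (σ e)⁻¹
            map_one' := by simp
            map_mul' := fun x y => ?_ }, fun l hl => ?_, fun e => ?_⟩
  · rw [map_mul, map_mul, mul_inv_rev]
    have := Subgroup.mem_center_iff.1 (inv_mem (hσ x)) (ρ y * (σ y)⁻¹)
    simp only [mul_assoc] at this ⊢
    rw [this]
  · have h1 : ψ (Abelianization.of l) = χ ⟨l, hl⟩ :=
      DFunLike.congr_fun hψ (⟨l, hl⟩ : L)
    have h2 : σ l = ρ l := by
      show Matrix.GeneralLinearGroup.scalar (Fin n) (ψ (Abelianization.of l)) = ρ l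
      rw [h1]; exact ha ⟨l, hl⟩
    show ρ l * (σ l)⁻¹ = 1
    rw [h2, mul_inv_cancel]
  · show (ρ e)⁻¹ * (ρ e * (σ e)⁻¹) ∈ _
    rw [inv_mul_cancel_left]; exact inv_mem (hσ e)

end Cfsg.Agent.Schur
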