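import Cfsg.Agent.Lib.Schur.Extra

/-!
The Schur multiplier of a metacyclic group given by generators and relations
`a ^ m = 1`, `b ^ n = a ^ t`, `b * a * b⁻¹ = a ^ (s + 1)`.
-/

set_option autoImplicit false
set_option linter.style.haveILetI false

namespace Cfsg.Agent.Schur.Metacyclic

open scoped commutatorElement

universe u v

section Upper

variable {X : Type u} {Q : Type v} [Group X] [Group Q] (ξ : X →* Q)

/-- The commutator of lifts of the two generators controls a central extension of a metacyclic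
group. -/
lemma upper (hc : ξ.ker ≤ Subgroup.center X) (a b : X) {m n s t : ℕ} (hm : 0 < m)
    (hgen : Subgroup.closure {ξ b, ξ a} = ⊤) (ha : ξ a ^ m = 1) (hb : ξ b ^ n = ξ a ^ t)
    (hba : ξ b * ξ a * (ξ b)⁻¹ = ξ a ^ (s + 1)) :
    ξ ⁅b, a⁆ = ξ a ^ s ∧ ⁅b, a⁆ ^ m = 1 ∧ ⁅b, a⁆ ^ t = 1 ∧
      ⁅b, a⁆ ^ (∑ i ∈ Finset.range n, (s + 1) ^ i) = 1 ∧
      commutator X ≤ Subgroup.zpowers ⁅b, a⁆ := by
  have hcen : ∀ z ∈ ξ.ker, ∀ g : X, g * z = z * g := fun z hz g =>
    Subgroup.mem_center_iff.1 (hc hz) g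
  have hξc : ξ ⁅b, a⁆ = ξ a ^ s := by
    rw [map_commutatorElement, commutatorElement_def, hba, pow_succ, mul_inv_cancel_right]
  obtain ⟨z, hz, hcz⟩ : ∃ z ∈ ξ.ker, ⁅b, a⁆ = a ^ s * z :=
    ⟨(a ^ s)⁻¹ * ⁅b, a⁆, by rw [MonoidHom.mem_ker, map_mul, map_inv, map_pow, hξc, inv_mul_cancel],
      (mul_inv_cancel_left _ _).symm⟩
  set c := ⁅b, a⁆ with hcdef
  have hconj : b * a * b⁻¹ = c * a := by
    rw [hcdef, commutatorElement_def, inv_mul_cancel_right]
  have hca : Commute c a := by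
    rw [hcz]
    exact ((Commute.refl a).pow_left s).mul_left (hcen z hz a).symm
  have hpow : ∀ k : ℕ, b * a ^ k * b⁻¹ = c ^ k * a ^ k := fun k => by
    rw [← conj_pow, hconj, hca.mul_pow]
  have hfix : ∀ k : ℕ, Commute b (a ^ k) → c ^ k = 1 := fun k hk => by
    have h := hpow k
    rw [hk.eq, mul_inv_cancel_right] at h
    exact right_eq_mul.1 h
  have hcm : c ^ m = 1 := hfix m (hcen _ (by rw [MonoidHom.mem_ker, map_pow, ha]) b)
  obtain ⟨w, hw, hbn⟩ : ∃ w ∈ ξ.ker, b ^ n = a ^ t * w :=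
    ⟨(a ^ t)⁻¹ * b ^ n, by rw [MonoidHom.mem_ker, map_mul, map_inv, map_pow, map_pow, hb,
      inv_mul_cancel], (mul_inv_cancel_left _ _).symm⟩
  have hat : a ^ t = b ^ n * w⁻¹ := by rw [hbn, mul_inv_cancel_right]
  have hct : c ^ t = 1 := hfix t (by
    rw [hat]
    exact ((Commute.refl b).pow_right n).mul_right (hcen _ (inv_mem hw) b))
  have hconjc : b * c * b⁻¹ = c ^ (s + 1) := by
    have hbz : b * z * b⁻¹ = z := by rw [hcen z hz b, mul_inv_cancel_right]
    calc b * c * b⁻¹ = (b * a ^ s * b⁻¹) * (b * z * b⁻¹) := by rw [hcz]; group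
      _ = c ^ s * (a ^ s * z) := by rw [hpow, hbz, mul_assoc]
      _ = c ^ (s + 1) := by rw [← hcz, pow_succ]
  have hconjk : ∀ k : ℕ, b ^ k * a * (b ^ k)⁻¹ = c ^ (∑ i ∈ Finset.range k, (s + 1) ^ i) * a := by
    intro k
    induction k with
    | zero => simp
    | succ k ih =>
      calc b ^ (k + 1) * a * (b ^ (k + 1))⁻¹ = b * (b ^ k * a * (b ^ k)⁻¹) * b⁻¹ := by
            rw [pow_succ', mul_inv_rev]; simp only [mul_assoc]
        _ = (b * c ^ (∑ i ∈ Finset.range k, (s + 1) ^ i) * b⁻¹) * (b * a * b⁻¹) := by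
            rw [ih]; group
        _ = c ^ ((s + 1) * (∑ i ∈ Finset.range k, (s + 1) ^ i) + 1) * a := by
            rw [← conj_pow, hconjc, hconj, ← pow_mul, ← mul_assoc, ← pow_succ]
        _ = _ := by rw [geom_sum_succ]
  have hcS : c ^ (∑ i ∈ Finset.range n, (s + 1) ^ i) = 1 := by
    have h := hconjk n
    have hcomm : Commute (b ^ n) a := by
      rw [hbn]
      exact ((Commute.refl a).pow_left t).mul_left (hcen w hw a).symm
    rw [hcomm.eq, mul_inv_cancel_right] at h
    exact right_eq_mul.1 h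
  have hfin : Finite (Subgroup.zpowers c) := Nat.finite_of_card_ne_zero (by
    rw [Nat.card_zpowers, orderOf_ne_zero_iff]
    exact isOfFinOrder_iff_pow_eq_one.2 ⟨m, hm, hcm⟩)
  have hle : ∀ y : X, y * c * y⁻¹ ∈ Subgroup.zpowers c →
      y ∈ Subgroup.normalizer (Subgroup.zpowers c : Set X) := by
    intro y hy
    have hmap : (Subgroup.zpowers c).map (MulAut.conj y).toMonoidHom = Subgroup.zpowers c := by
      rw [MonoidHom.map_zpowers]
      refine Subgroup.eq_of_le_of_card_ge (Subgroup.zpowers_le.2 hy) (le_of_eq ?_)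
      rw [Nat.card_zpowers, Nat.card_zpowers]
      exact (orderOf_injective (MulAut.conj y).toMonoidHom (MulAut.conj y).injective c).symm
    rw [Subgroup.mem_normalizer_iff]
    intro x
    show x ∈ Subgroup.zpowers c ↔ y * x * y⁻¹ ∈ Subgroup.zpowers c
    conv_rhs => rw [← hmap]
    rw [Subgroup.mem_map_equiv]
    simp [MulAut.conj_symm_apply, mul_assoc]
  have hN : (Subgroup.zpowers c).Normal := by
    rw [← Subgroup.normalizer_eq_top_iff, eq_top_iff, ← Subgroup.comap_top ξ, ← hgen,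
      show ({ξ b, ξ a} : Set Q) = ξ '' {b, a} from (Set.image_pair ξ b a).symm,
      ← MonoidHom.map_closure, Subgroup.comap_map_eq]
    refine sup_le ((Subgroup.closure_le _).2 ?_) (hc.trans (Subgroup.center_le_normalizer _))
    rintro y (rfl | rfl)
    · exact hle _ (hconjc ▸ Subgroup.npow_mem_zpowers _ _)
    · exact hle _ (by rw [← hca.eq, mul_inv_cancel_right]; exact Subgroup.mem_zpowers _)
  exact ⟨hξc, hcm, hct, hcS, Schur.commutator_le_of_pair ξ hc b a hgen _ (Subgroup.mem_zpowers _)⟩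

end Upper

section Model

variable (K : ℕ) (ρ : (ZMod K)ˣ)

/-- The automorphism `(x, y) ↦ (x, x + ρ y)`. -/
noncomputable def shear : MulAut (Multiplicative (ℤ × ZMod K)) :=
  AddEquiv.toMultiplicative
    { toFun := fun p => (p.1, (p.1 : ZMod K) + ρ * p.2)
      invFun := fun p => (p.1, (↑ρ⁻¹ : ZMod K) * (p.2 - p.1))
      left_inv := fun p => Prod.ext rfl (by
        show (↑ρ⁻¹ : ZMod K) * ((p.1 : ZMod K) + ρ * p.2 - p.1) = p.2
        rw [add_sub_cancel_left, Units.inv_mul_cancel_left])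
      right_inv := fun p => Prod.ext rfl (by
        show (p.1 : ZMod K) + ρ * ((↑ρ⁻¹ : ZMod K) * (p.2 - p.1)) = p.2
        rw [Units.mul_inv_cancel_left, add_sub_cancel])
      map_add' := fun p q => Prod.ext rfl (by
        show ((p.1 + q.1 : ℤ) : ZMod K) + ρ * (p.2 + q.2) =
          ((p.1 : ZMod K) + ρ * p.2) + ((q.1 : ZMod K) + ρ * q.2)
        push_cast; ring) }

/-- The covering model. -/
abbrev Model : Type := Multiplicative (ℤ × ZMod K) ⋊[zpowersHom _ (shear K ρ)] Multiplicative ℤ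

lemma shear_apply (x : ℤ) (y : ZMod K) :
    shear K ρ (Multiplicative.ofAdd (x, y)) = Multiplicative.ofAdd (x, (x : ZMod K) + ρ * y) := rfl

lemma shear_pow_apply (k : ℕ) (x : ℤ) (y : ZMod K) :
    (shear K ρ ^ k) (Multiplicative.ofAdd (x, y)) = Multiplicative.ofAdd
      (x, (x : ZMod K) * (∑ i ∈ Finset.range k, (ρ : ZMod K) ^ i) + (ρ : ZMod K) ^ k * y) := by
  induction k with
  | zero => simp
  | succ k ih =>
    rw [pow_succ', MulAut.mul_apply, ih, shear_apply, geom_sum_succ]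
    congr 2
    ring

/-- The generator `g`. -/
noncomputable def gen : Model K ρ := SemidirectProduct.inr (Multiplicative.ofAdd 1)

/-- An element of the abelian part. -/
noncomputable def el (x : ℤ) (y : ZMod K) : Model K ρ := SemidirectProduct.inl (Multiplicative.ofAdd (x, y))

lemma gen_conj (x : ℤ) (y : ZMod K) :
    gen K ρ * el K ρ x y * (gen K ρ)⁻¹ = el K ρ x ((x : ZMod K) + ρ * y) := by
  unfold gen el
  rw [← map_inv, ← SemidirectProduct.inl_aut]
  simp [zpowersHom_apply, shear_apply]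

lemma el_mul (x x' : ℤ) (y y' : ZMod K) :
    el K ρ x y * el K ρ x' y' = el K ρ (x + x') (y + y') := by
  unfold el
  rw [← map_mul]
  rfl

lemma el_zero : el K ρ 0 0 = 1 := map_one _

lemma el_zpow (x : ℤ) (y : ZMod K) (i : ℤ) : el K ρ x y ^ i = el K ρ (i * x) (i * y) := by
  unfold el
  rw [← map_zpow, ← ofAdd_zsmul]
  congr 2
  simp [Prod.smul_def]

lemma el_pow (x : ℤ) (y : ZMod K) (i : ℕ) : el K ρ x y ^ i = el K ρ (i * x) (i * y) := by
  rw [← zpow_natCast, el_zpow]
  simp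

lemma el_injective {x x' : ℤ} {y y' : ZMod K} (h : el K ρ x y = el K ρ x' y') :
    x = x' ∧ y = y' :=
  Prod.ext_iff.1 (Multiplicative.ofAdd.injective (SemidirectProduct.inl_injective h))

lemma gen_pow (i : ℕ) : gen K ρ ^ i = SemidirectProduct.inr (Multiplicative.ofAdd (i : ℤ)) := by
  rw [gen, ← map_pow, ← ofAdd_nsmul]
  simp

lemma mem_center_iff' (z : Model K ρ) :
    (∀ x y, el K ρ x y * z = z * el K ρ x y) → gen K ρ * z = z * gen K ρ →
      z ∈ Subgroup.center (Model K ρ) := by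
  intro h1 h2
  rw [Subgroup.mem_center_iff]
  intro g
  have hr : ∀ i : ℤ, Commute (gen K ρ ^ i) z := fun i => Commute.zpow_left h2 i
  have hg : g = el K ρ g.left.toAdd.1 g.left.toAdd.2 * gen K ρ ^ (g.right.toAdd : ℤ) := by
    rw [el, gen, ← map_zpow, ← ofAdd_zsmul]
    simp only [smul_eq_mul, mul_one, ofAdd_toAdd, Prod.mk.eta,
      SemidirectProduct.inl_left_mul_inr_right]
  rw [hg]
  exact (Commute.mul_left (h1 _ _) (hr _)).eq

end Model

/-- The relators. -/
def rels (m n t r : ℕ) : Set (FreeGroup Bool) :=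
  {FreeGroup.of true ^ m, (FreeGroup.of false) ^ n * (FreeGroup.of true ^ t)⁻¹,
    FreeGroup.of false * FreeGroup.of true * (FreeGroup.of false)⁻¹ * (FreeGroup.of true ^ r)⁻¹}

section Presented

variable (m n t r : ℕ)

/-- The first generator. -/
def genA : PresentedGroup (rels m n t r) := PresentedGroup.of true

/-- The second generator. -/
def genB : PresentedGroup (rels m n t r) := PresentedGroup.of false

lemma genA_pow : genA m n t r ^ m = 1 :=
  (map_pow (PresentedGroup.mk (rels m n t r)) (FreeGroup.of true) m).symm.trans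
    (PresentedGroup.one_of_mem (Set.mem_insert _ _))

lemma genB_pow : genB m n t r ^ n = genA m n t r ^ t := by
  have h := PresentedGroup.one_of_mem (rels := rels m n t r)
    (Set.mem_insert_of_mem _ (Set.mem_insert _ _))
  simp only [map_mul, map_inv, map_pow] at h
  exact mul_inv_eq_one.1 h

lemma genB_conj : genB m n t r * genA m n t r * (genB m n t r)⁻¹ = genA m n t r ^ r := by
  have h := PresentedGroup.one_of_mem (rels := rels m n t r)
    (Set.mem_insert_of_mem _ (Set.mem_insert_of_mem _ rfl))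
  simp only [map_mul, map_inv, map_pow] at h
  exact mul_inv_eq_one.1 h

lemma closure_gen : Subgroup.closure {genB m n t r, genA m n t r} = ⊤ := by
  rw [← PresentedGroup.closure_range_of (rels m n t r)]
  congr 1
  ext x
  constructor
  · rintro (rfl | rfl)
    · exact ⟨false, rfl⟩
    · exact ⟨true, rfl⟩
  · rintro ⟨b, rfl⟩
    cases b
    · exact Or.inl rfl
    · exact Or.inr rfl

lemma finite_presented (hm : 0 < m) (hn : 0 < n) : Finite (PresentedGroup (rels m n t r)) := by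
  set A := genA m n t r with hAdef
  set B := genB m n t r with hBdef
  have hA : A ^ m = 1 := genA_pow m n t r
  haveI hfA : Finite (Subgroup.zpowers A) := Nat.finite_of_card_ne_zero (by
    rw [Nat.card_zpowers, orderOf_ne_zero_iff]
    exact isOfFinOrder_iff_pow_eq_one.2 ⟨m, hm, hA⟩)
  have hnorm : (Subgroup.zpowers A).Normal := by
    rw [← Subgroup.normalizer_eq_top_iff, eq_top_iff, ← closure_gen m n t r, Subgroup.closure_le]
    rintro y (rfl | rfl)
    · show B ∈ Subgroup.normalizer (Subgroup.zpowers A : Set (PresentedGroup (rels m n t r)))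
      have hmap : (Subgroup.zpowers A).map (MulAut.conj B).toMonoidHom = Subgroup.zpowers A := by
        rw [MonoidHom.map_zpowers]
        refine Subgroup.eq_of_le_of_card_ge (Subgroup.zpowers_le.2 ?_) (le_of_eq ?_)
        · show B * A * B⁻¹ ∈ _
          rw [genB_conj]
          exact Subgroup.npow_mem_zpowers _ _
        · rw [Nat.card_zpowers, Nat.card_zpowers]
          exact (orderOf_injective (MulAut.conj B).toMonoidHom (MulAut.conj B).injective A).symm
      rw [Subgroup.mem_normalizer_iff]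
      intro x
      show x ∈ Subgroup.zpowers A ↔ B * x * B⁻¹ ∈ Subgroup.zpowers A
      conv_rhs => rw [← hmap]
      rw [Subgroup.mem_map_equiv]
      simp [MulAut.conj_symm_apply, mul_assoc]
    · exact Subgroup.le_normalizer (Subgroup.mem_zpowers A)
  let q := QuotientGroup.mk' (Subgroup.zpowers A)
  have hqA : q A = 1 := (QuotientGroup.eq_one_iff _).2 (Subgroup.mem_zpowers A)
  have htop : Subgroup.zpowers (q B) = ⊤ := by
    rw [eq_top_iff, ← Subgroup.map_top_of_surjective q (QuotientGroup.mk'_surjective _),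
      ← closure_gen m n t r, MonoidHom.map_closure, Subgroup.closure_le, Set.image_pair]
    rintro y (rfl | rfl)
    · exact Subgroup.mem_zpowers _
    · show q A ∈ _
      rw [hqA]; exact Subgroup.one_mem _
  haveI : Finite (PresentedGroup (rels m n t r) ⧸ Subgroup.zpowers A) := by
    haveI : Finite (Subgroup.zpowers (q B)) := Nat.finite_of_card_ne_zero (by
      rw [Nat.card_zpowers, orderOf_ne_zero_iff]
      exact isOfFinOrder_iff_pow_eq_one.2 ⟨n, hn, by
        rw [← map_pow, genB_pow, map_pow, hqA, one_pow]⟩)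
    exact Finite.of_equiv (⊤ : Subgroup (PresentedGroup (rels m n t r) ⧸ Subgroup.zpowers A))
      Subgroup.topEquiv.toEquiv (h := htop ▸ inferInstance)
  exact Finite.of_equiv _ (Subgroup.groupEquivQuotientProdSubgroup (s := Subgroup.zpowers A)).symm

end Presented

set_option maxHeartbeats 400000 in
/-- The multiplier of the metacyclic group, with the arithmetic already done. -/
theorem multiplier (m n t s q k : ℕ) (hm : 0 < m) (hn : 0 < n) (hk : 0 < k) (hqm : q * k ∣ m)
    (hqt : q * k ∣ t) (hqS : q * k ∣ ∑ i ∈ Finset.range n, (s + 1) ^ i)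
    (hord : ∀ j : ℕ, m ∣ s * j ↔ q ∣ j)
    (hgcd : ∀ j : ℕ, j ∣ m → j ∣ t → j ∣ (∑ i ∈ Finset.range n, (s + 1) ^ i) → j ∣ q * k) :
    Cfsg.HasCyclicSchurMultiplier (PresentedGroup (rels m n t (s + 1))) k := by
  set K := q * k with hKdef
  set r := s + 1 with hrdef
  haveI := finite_presented m n t r hm hn
  haveI : NeZero k := ⟨hk.ne'⟩
  have hq : 0 < q := Nat.pos_of_ne_zero fun h => by
    rw [h, zero_mul] at hKdef
    rw [hKdef, zero_dvd_iff] at hqm
    omega
  have hmS : m ∣ s * K := (hord K).2 (dvd_mul_right _ _)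
  -- `r` is a unit modulo `K`
  have hsK : (r : ZMod K) ^ n = 1 := by
    have h1 := geom_sum_mul (r : ZMod K) n
    have h2 : (∑ i ∈ Finset.range n, (r : ZMod K) ^ i) = 0 := by
      have := (ZMod.natCast_eq_zero_iff _ K).2 hqS
      simpa using this
    rw [h2, zero_mul] at h1
    exact sub_eq_zero.1 h1.symm
  obtain ⟨ρ, hρ⟩ : ∃ ρ : (ZMod K)ˣ, (ρ : ZMod K) = r :=
    ⟨(IsUnit.of_pow_eq_one hsK hn.ne').unit, rfl⟩
  have hS0 : (∑ i ∈ Finset.range n, (ρ : ZMod K) ^ i) = 0 := by
    have := (ZMod.natCast_eq_zero_iff _ K).2 hqS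
    rw [hρ]
    simpa using this
  have hm0 : (m : ZMod K) = 0 := (ZMod.natCast_eq_zero_iff _ K).2 hqm
  have ht0 : (t : ZMod K) = 0 := (ZMod.natCast_eq_zero_iff _ K).2 hqt
  -- three central elements of the model
  set z1 := el K ρ m 0 with hz1
  set z2 := el K ρ (-t) 0 * gen K ρ ^ n with hz2
  set z3 := el K ρ (-s) 1 with hz3
  have habel : ∀ (x x' : ℤ) (y y' : ZMod K), el K ρ x y * el K ρ x' y' = el K ρ x' y' * el K ρ x y :=
    fun x x' y y' => by rw [el_mul, el_mul, add_comm x, add_comm y]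
  have hcomm_gen : ∀ (x : ℤ) (y : ZMod K), (x : ZMod K) + ρ * y = y → gen K ρ * el K ρ x y = el K ρ x y * gen K ρ :=
    fun x y h => by
      have h2 := gen_conj K ρ x y
      rw [h] at h2
      rw [← mul_inv_eq_iff_eq_mul]
      exact h2
  have hn_conj : ∀ (x : ℤ) (y : ZMod K), gen K ρ ^ n * el K ρ x y = el K ρ x y * gen K ρ ^ n := by
    intro x y
    rw [← mul_inv_eq_iff_eq_mul, gen_pow]
    unfold el
    rw [← map_inv, ← SemidirectProduct.inl_aut]
    congr 1
    rw [zpowersHom_apply, toAdd_ofAdd, zpow_natCast, shear_pow_apply, hS0, hρ, hsK]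
    simp
  have hz1c : z1 ∈ Subgroup.center (Model K ρ) :=
    mem_center_iff' K ρ _ (fun x y => habel _ _ _ _) (hcomm_gen _ _ (by simp [hm0]))
  have hz3c : z3 ∈ Subgroup.center (Model K ρ) :=
    mem_center_iff' K ρ _ (fun x y => habel _ _ _ _) (hcomm_gen _ _ (by simp [hρ, hrdef]))
  have hz2c : z2 ∈ Subgroup.center (Model K ρ) := by
    refine mem_center_iff' K ρ _ (fun x y => ?_) ?_
    · rw [hz2, mul_assoc, hn_conj, ← mul_assoc, ← mul_assoc, habel]
    · rw [hz2, ← mul_assoc, hcomm_gen _ _ (by simp [ht0]), mul_assoc, mul_assoc, ← pow_succ,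
        ← pow_succ']
  set Z := Subgroup.zpowers z1 ⊔ Subgroup.zpowers z2 ⊔ Subgroup.zpowers z3 with hZdef
  have hZc : Z ≤ Subgroup.center (Model K ρ) :=
    sup_le (sup_le (Subgroup.zpowers_le.2 hz1c) (Subgroup.zpowers_le.2 hz2c))
      (Subgroup.zpowers_le.2 hz3c)
  haveI : Z.Normal := normal_of_le_center hZc
  let p := QuotientGroup.mk' Z
  have hpZ : ∀ z ∈ Z, p z = 1 := fun z hz => (QuotientGroup.eq_one_iff z).2 hz
  have hz1Z : z1 ∈ Z :=
    (le_sup_left.trans le_sup_left : Subgroup.zpowers z1 ≤ Z) (Subgroup.mem_zpowers _)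
  have hz2Z : z2 ∈ Z :=
    (le_sup_right.trans le_sup_left : Subgroup.zpowers z2 ≤ Z) (Subgroup.mem_zpowers _)
  have hz3Z : z3 ∈ Z := (le_sup_right : Subgroup.zpowers z3 ≤ Z) (Subgroup.mem_zpowers _)
  -- the map from the presented group
  obtain ⟨ψ, hψA, hψB⟩ : ∃ ψ : PresentedGroup (rels m n t r) →* Model K ρ ⧸ Z,
      ψ (genA m n t r) = p (el K ρ 1 0) ∧ ψ (genB m n t r) = p (gen K ρ) := by
    refine ⟨PresentedGroup.toGroup (f := fun b => cond b (p (el K ρ 1 0)) (p (gen K ρ))) ?_,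
      PresentedGroup.toGroup.of .., PresentedGroup.toGroup.of ..⟩
    intro x hx
    rcases hx with rfl | rfl | hx
    · rw [map_pow, FreeGroup.lift_apply_of, cond_true, ← map_pow, el_pow]
      exact hpZ _ (by simpa [hz1] using hz1Z)
    · rw [map_mul, map_inv, map_pow, map_pow, FreeGroup.lift_apply_of, FreeGroup.lift_apply_of,
        cond_true, cond_false, ← map_pow, ← map_pow, mul_inv_eq_one, el_pow]
      have h := hpZ _ hz2Z
      rw [hz2, map_mul, ← eq_inv_iff_mul_eq_one] at h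
      rw [← inv_inj, ← h, ← map_inv]
      congr 1
      symm
      apply inv_eq_of_mul_eq_one_right
      rw [el_mul]
      simp [el_zero]
    · rw [Set.mem_singleton_iff] at hx
      subst hx
      rw [map_mul, map_mul, map_mul, map_inv, map_inv, map_pow, FreeGroup.lift_apply_of,
        FreeGroup.lift_apply_of, cond_true, cond_false, ← map_pow, ← map_inv p, ← map_inv p,
        ← map_mul, ← map_mul, ← map_mul, el_pow, gen_conj]
      apply hpZ
      have h : el K ρ 1 ((1 : ℤ) + ρ * 0) * (el K ρ (r * 1) (r * 0))⁻¹ = z3 := by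
        rw [mul_inv_eq_iff_eq_mul, hz3, el_mul]
        simp [hrdef]
      exact h ▸ hz3Z
  -- the first generator has order `m`
  have horder : ∀ i : ℕ, genA m n t r ^ i = 1 → m ∣ i := by
    intro i hi
    have h : el K ρ 1 0 ^ i ∈ Z := by
      rw [← QuotientGroup.eq_one_iff]
      show p (el K ρ 1 0 ^ i) = 1
      rw [map_pow, ← hψA, ← map_pow, hi, map_one]
    haveI : (Subgroup.zpowers z2).Normal := normal_of_le_center (Subgroup.zpowers_le.2 hz2c)
    haveI : (Subgroup.zpowers z3).Normal := normal_of_le_center (Subgroup.zpowers_le.2 hz3c)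
    obtain ⟨u12, h12, u3, ⟨γ, rfl⟩, hu⟩ := Subgroup.mem_sup_of_normal_right.1 h
    obtain ⟨u1, ⟨α, rfl⟩, u2, ⟨β, rfl⟩, rfl⟩ := Subgroup.mem_sup_of_normal_right.1 h12
    have hr2 : SemidirectProduct.rightHom (z1 ^ α * z2 ^ β * z3 ^ γ) =
        SemidirectProduct.rightHom (el K ρ 1 0 ^ i) := congrArg _ hu
    simp only [hz1, hz2, hz3, el, gen_pow, map_mul, map_zpow, map_pow,
      SemidirectProduct.rightHom_inl, SemidirectProduct.rightHom_inr, one_zpow, one_pow, one_mul,
      mul_one] at hr2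
    have hβ : β = 0 := by
      have := congrArg Multiplicative.toAdd hr2
      simpa [hn.ne'] using this
    subst hβ
    simp only [hz1, hz3, zpow_zero, mul_one, el_zpow, el_mul, el_pow] at hu
    obtain ⟨h1, h2⟩ := el_injective K ρ hu
    simp only [mul_zero, zero_add, mul_one] at h2
    obtain ⟨γ', rfl⟩ := (ZMod.intCast_zmod_eq_zero_iff_dvd γ K).1 h2
    obtain ⟨μ, hμ⟩ := hmS
    have hμ' : (s : ℤ) * K = m * μ := by exact_mod_cast hμ
    have : (m : ℤ) ∣ i := ⟨α - μ * γ', by linear_combination (-1 : ℤ) * h1 - γ' * hμ'⟩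
    exact_mod_cast this
  -- the lower bound
  have hlow : k ∣ Nat.card (Multiplier (PresentedGroup (rels m n t r))) := by
    let ga : pullback ψ p := ⟨(genA m n t r, el K ρ 1 0), hψA⟩
    let gb : pullback ψ p := ⟨(genB m n t r, gen K ρ), hψB⟩
    have hs := pbFst_surjective ψ p (QuotientGroup.mk'_surjective Z)
    have hc : (pbFst ψ p).ker ≤ Subgroup.center (pullback ψ p) :=
      ker_pbFst_le_center ψ p ((QuotientGroup.ker_mk' Z).le.trans hZc)
    have h1 : pbFst ψ p (⁅gb, ga⁆ ^ q) = 1 := by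
      rw [map_pow, map_commutatorElement, show pbFst ψ p gb = genB m n t r from rfl,
        show pbFst ψ p ga = genA m n t r from rfl, commutatorElement_def, genB_conj, hrdef,
        pow_succ, mul_inv_cancel_right, ← pow_mul]
      obtain ⟨μ, hμ⟩ := (hord q).2 dvd_rfl
      rw [hμ, pow_mul, genA_pow, one_pow]
    have h2 : ⁅gb, ga⁆ ^ q ∈ (pbFst ψ p).ker ⊓ commutator (pullback ψ p) :=
      ⟨h1, Subgroup.pow_mem _ (Subgroup.commutator_mem_commutator (Subgroup.mem_top _)
        (Subgroup.mem_top _)) q⟩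
    have h3 : k ∣ orderOf (⁅gb, ga⁆ ^ q) := by
      refine Dvd.dvd.trans ?_ (orderOf_map_dvd (pbSnd ψ p) _)
      rw [map_pow, map_commutatorElement, show pbSnd ψ p gb = gen K ρ from rfl,
        show pbSnd ψ p ga = el K ρ 1 0 from rfl, commutatorElement_def, gen_conj]
      have he : el K ρ 1 ((1 : ℤ) + ρ * 0) * (el K ρ 1 0)⁻¹ = el K ρ 0 1 := by
        rw [mul_inv_eq_iff_eq_mul, el_mul]
        simp
      rw [he, el_pow]
      have h4 := pow_orderOf_eq_one (el K ρ ((q : ℤ) * 0) ((q : ZMod K) * 1))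
      rw [el_pow, ← el_zero K ρ] at h4
      have h5 := (el_injective K ρ h4).2
      nth_rewrite 2 [mul_one] at h5
      rw [← Nat.cast_mul, ZMod.natCast_eq_zero_iff] at h5
      exact Nat.dvd_of_mul_dvd_mul_right hq (by rw [mul_comm k q]; exact h5)
    refine Dvd.dvd.trans ?_ (card_dvd_card_multiplier (pbFst ψ p) hs hc)
    refine Dvd.dvd.trans h3 ?_
    rw [← Nat.card_zpowers]
    exact Subgroup.card_dvd_of_le (Subgroup.zpowers_le.2 h2)
  -- the upper bound
  have hcen := stdHom_ker_le_center (PresentedGroup (rels m n t r))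
  obtain ⟨a, ha⟩ := stdHom_surjective _ (genA m n t r)
  obtain ⟨b, hb⟩ := stdHom_surjective _ (genB m n t r)
  obtain ⟨hξc, hcm, hct, hcS, hle⟩ := upper (stdHom (PresentedGroup (rels m n t r))) hcen a b hm
    (n := n) (s := s) (t := t) (by rw [ha, hb]; exact closure_gen m n t r)
    (by rw [ha]; exact genA_pow m n t r) (by rw [ha, hb]; exact genB_pow m n t r)
    (by rw [ha, hb]; exact genB_conj m n t r)
  have hcK : (⁅b, a⁆ ^ q) ^ k = 1 := by
    rw [← pow_mul, ← hKdef]
    exact orderOf_dvd_iff_pow_eq_one.1 (hgcd _ (orderOf_dvd_iff_pow_eq_one.2 hcm)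
      (orderOf_dvd_iff_pow_eq_one.2 hct) (orderOf_dvd_iff_pow_eq_one.2 hcS))
  have hfo : IsOfFinOrder ⁅b, a⁆ := isOfFinOrder_iff_pow_eq_one.2 ⟨m, hm, hcm⟩
  have hM : Multiplier (PresentedGroup (rels m n t r)) ≤ Subgroup.zpowers (⁅b, a⁆ ^ q) := by
    rintro x ⟨hx1, hx2⟩
    obtain ⟨j, rfl⟩ := hfo.mem_powers_iff_mem_zpowers.2 (hle hx2)
    have h0 : stdHom (PresentedGroup (rels m n t r)) (⁅b, a⁆ ^ j) = 1 := hx1
    rw [map_pow, hξc, ha, ← pow_mul] at h0
    obtain ⟨i, rfl⟩ := (hord j).1 (horder _ h0)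
    show ⁅b, a⁆ ^ (q * i) ∈ _
    rw [pow_mul]
    exact Subgroup.npow_mem_zpowers _ _
  rw [hasCyclicSchurMultiplier_iff]
  refine ⟨Subgroup.isCyclic_of_le hM, le_antisymm ?_ (Nat.le_of_dvd Nat.card_pos hlow)⟩
  haveI : Finite (Subgroup.zpowers (⁅b, a⁆ ^ q)) := Nat.finite_of_card_ne_zero (by
    rw [Nat.card_zpowers, orderOf_ne_zero_iff]
    exact hfo.pow)
  refine (Subgroup.card_le_of_le hM).trans ?_
  rw [Nat.card_zpowers]
  exact orderOf_le_of_pow_eq_one hk hcK

/-- The multiplier of the metacyclic group in the arithmetic form of Schur's theorem. -/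
theorem main (m n r l : ℕ) (hm : 0 < m) (hn : 0 < n) (hr : 0 < r) (hrn : r ^ n ≡ 1 [MOD m]) :
    Cfsg.HasCyclicSchurMultiplier (PresentedGroup (rels m n (m * l / Nat.gcd m (r - 1)) r))
      (Nat.gcd l (Nat.gcd m (r - 1) * Nat.gcd m (∑ i ∈ Finset.range n, r ^ i) / m)) := by
  obtain ⟨s, rfl⟩ : ∃ s, r = s + 1 := ⟨r - 1, by omega⟩
  rw [Nat.add_sub_cancel]
  set S := ∑ i ∈ Finset.range n, (s + 1) ^ i with hS
  obtain ⟨q, s', hcop, hmq, hsd⟩ := Nat.exists_coprime m s
  set d := Nat.gcd m s with hd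
  have hd0 : 0 < d := Nat.gcd_pos_of_pos_left s hm
  have hq0 : 0 < q := Nat.pos_of_ne_zero fun h => by rw [h, zero_mul] at hmq; omega
  have hord : ∀ j : ℕ, m ∣ s * j ↔ q ∣ j := by
    intro j
    have e : s * j = s' * j * d := by rw [hsd]; ring
    rw [hmq, e, Nat.mul_dvd_mul_iff_right hd0]
    exact ⟨fun h => hcop.dvd_of_dvd_mul_left h, fun h => h.mul_left s'⟩
  have hqS : q ∣ S := by
    rw [← hord, ← ZMod.natCast_eq_zero_iff]
    have h1 : (((s + 1) ^ n : ℕ) : ZMod m) = ((1 : ℕ) : ZMod m) :=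
      (ZMod.natCast_eq_natCast_iff _ _ m).2 hrn
    push_cast at h1
    have h2 := geom_sum_mul ((s : ZMod m) + 1) n
    rw [h1, sub_self, add_sub_cancel_right] at h2
    rw [hS]
    push_cast
    rw [mul_comm]
    exact h2
  obtain ⟨S', hS'⟩ := hqS
  have ht : m * l / d = q * l := by
    rw [hmq, mul_right_comm, Nat.mul_div_cancel _ hd0]
  have hh : d * Nat.gcd m S / m = Nat.gcd d S' := by
    rw [hmq, hS', Nat.gcd_mul_left, ← mul_assoc, mul_comm d q, Nat.mul_div_cancel_left _
      (Nat.mul_pos hq0 hd0)]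
  rw [ht, hh]
  refine multiplier m n (q * l) s q (Nat.gcd l (Nat.gcd d S')) hm hn ?_ ?_ ?_ ?_ hord ?_
  · exact Nat.gcd_pos_of_pos_right _ (Nat.gcd_pos_of_pos_left _ hd0)
  · rw [hmq]
    exact Nat.mul_dvd_mul_left _ ((Nat.gcd_dvd_right _ _).trans (Nat.gcd_dvd_left _ _))
  · exact Nat.mul_dvd_mul_left _ (Nat.gcd_dvd_left _ _)
  · rw [← hS, hS']
    exact Nat.mul_dvd_mul_left _ ((Nat.gcd_dvd_right _ _).trans (Nat.gcd_dvd_right _ _))
  · intro j hjm hjt hjS
    rw [← hS, hS'] at hjS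
    rw [hmq] at hjm
    rw [← Nat.gcd_mul_left, ← Nat.gcd_mul_left]
    exact Nat.dvd_gcd hjt (Nat.dvd_gcd hjm hjS)

end Cfsg.Agent.Schur.Metacyclic
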