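import Cfsg.Agent.Lib.Schur.Extra

/-!
Restriction and transfer between the multiplier of a finite group and that of a subgroup.
-/

set_option autoImplicit false
set_option linter.style.haveILetI false

namespace Cfsg.Agent.Schur

open scoped commutatorElement

universe u v

variable {F : Type u} [Group F] {G : Type v} [Group G] (π : F →* G) (U : Subgroup G)

/-- The presentation of `U` induced by a presentation of `G`. -/
def subPres : U.comap π →* U :=
  (π.comp (U.comap π).subtype).codRestrict U (fun s => s.2)

lemma subPres_surjective (hπ : Function.Surjective π) : Function.Surjective (subPres π U) :=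
  fun u => by
    obtain ⟨f, hf⟩ := hπ u
    exact ⟨⟨f, show π f ∈ U by rw [hf]; exact u.2⟩, Subtype.ext hf⟩

/-- The map of covers induced by inclusion. -/
def coverIncl : Cover (subPres π U) →* Cover π :=
  QuotientGroup.map _ (rel π) (U.comap π).subtype (by
    rw [← Subgroup.map_le_iff_le_comap, Subgroup.map_commutator]
    refine Subgroup.commutator_mono ?_ le_top
    rintro _ ⟨r, hr, rfl⟩
    exact congrArg Subtype.val hr)

/-- `t⁻¹ * w * t` for `w` in the kernel. -/
def conjRel (t : F) (w : π.ker) : U.comap π :=
  ⟨t⁻¹ * w * t, show π (t⁻¹ * w * t) ∈ U by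
    rw [map_mul, map_mul, (MonoidHom.mem_ker.1 w.2), map_inv, mul_one, inv_mul_cancel]
    exact U.one_mem⟩

instance commGroupCoverKer : CommGroup (coverHom (subPres π U)).ker :=
  { (inferInstance : Group (coverHom (subPres π U)).ker) with
    mul_comm := fun a b => Subtype.ext
      (Subgroup.mem_center_iff.1 (ker_coverHom_le_center _ b.2) a) }

/-- Conjugation of relators, into the central kernel of the cover of `U`. -/
def conjRelHom (t : F) : π.ker →* (coverHom (subPres π U)).ker where
  toFun w := ⟨QuotientGroup.mk (conjRel π U t w), by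
    show subPres π U (conjRel π U t w) = 1
    apply Subtype.ext
    show π (t⁻¹ * w * t) = 1
    rw [map_mul, map_mul, (MonoidHom.mem_ker.1 w.2), map_inv, mul_one, inv_mul_cancel]⟩
  map_one' := Subtype.ext (by
    show (QuotientGroup.mk (conjRel π U t 1) : Cover (subPres π U)) = QuotientGroup.mk 1
    exact congrArg _ (Subtype.ext (by simp [conjRel])))
  map_mul' a b := Subtype.ext (by
    show (QuotientGroup.mk (conjRel π U t (a * b)) : Cover (subPres π U)) =
      QuotientGroup.mk (conjRel π U t a * conjRel π U t b)
    exact congrArg _ (Subtype.ext (by simp only [conjRel, Subgroup.coe_mul]; group)))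

lemma conjRelHom_coset (t t' : F) (h : (t : F ⧸ U.comap π) = (t' : F ⧸ U.comap π)) :
    conjRelHom π U t = conjRelHom π U t' := by
  refine MonoidHom.ext fun w => ?_
  let s : U.comap π := ⟨t⁻¹ * t', QuotientGroup.eq.1 h⟩
  have hc := Subgroup.mem_center_iff.1 (ker_coverHom_le_center _ (conjRelHom π U t w).2)
    (QuotientGroup.mk s⁻¹)
  have e : conjRel π U t' w = s⁻¹ * conjRel π U t w * s :=
    Subtype.ext (by simp only [conjRel, Subgroup.coe_mul, Subgroup.coe_inv, s]; group)
  apply Subtype.ext
  show (QuotientGroup.mk (conjRel π U t w) : Cover (subPres π U)) =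
    QuotientGroup.mk (conjRel π U t' w)
  rw [e, QuotientGroup.mk_mul, QuotientGroup.mk_mul]
  refine Eq.trans ?_ (congrArg (· * _) hc.symm)
  show _ = QuotientGroup.mk (conjRel π U t w) * QuotientGroup.mk s⁻¹ * QuotientGroup.mk s
  rw [mul_assoc, ← QuotientGroup.mk_mul, inv_mul_cancel, QuotientGroup.mk_one, mul_one]

variable [(U.comap π).FiniteIndex]

/-- Transfer on relators. -/
noncomputable def relTransfer : π.ker →* (coverHom (subPres π U)).ker :=
  letI := Subgroup.fintypeQuotientOfFiniteIndex (H := U.comap π)
  ∏ q : F ⧸ U.comap π, conjRelHom π U q.out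

lemma relTransfer_conj (f : F) (w : π.ker) :
    relTransfer π U ⟨f * w * f⁻¹, (inferInstance : π.ker.Normal).conj_mem _ w.2 f⟩ =
      relTransfer π U w := by
  letI := Subgroup.fintypeQuotientOfFiniteIndex (H := U.comap π)
  simp only [relTransfer, MonoidHom.finsetProd_apply]
  refine Fintype.prod_equiv (MulAction.toPerm f⁻¹) _ _ fun q => ?_
  have h1 : conjRelHom π U q.out ⟨f * w * f⁻¹, (inferInstance : π.ker.Normal).conj_mem _ w.2 f⟩ =
      conjRelHom π U (f⁻¹ * q.out) w := by
    apply Subtype.ext
    show (QuotientGroup.mk _ : Cover (subPres π U)) = QuotientGroup.mk _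
    exact congrArg _ (Subtype.ext (by simp only [conjRel]; group))
  rw [h1]
  refine DFunLike.congr_fun (conjRelHom_coset π U _ _ ?_) w
  simp only [MulAction.toPerm_apply, QuotientGroup.out_eq']
  exact congrArg (f⁻¹ • ·) (QuotientGroup.out_eq' q)

/-- The transfer from the central kernel of the cover of `G` to that of the cover of `U`. -/
noncomputable def coverTransfer : (coverHom π).ker →* (coverHom (subPres π U)).ker :=
  ((QuotientGroup.mk' (rel π)).comp π.ker.subtype).codRestrict (coverHom π).ker
      (fun w => (MonoidHom.mem_ker.1 w.2 : π w = 1)) |>.liftOfSurjective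
    (fun z => by
      obtain ⟨x, hx⟩ := QuotientGroup.mk'_surjective (rel π) z
      exact ⟨⟨x, by
        have h := z.2
        rw [← hx] at h
        exact h⟩, Subtype.ext hx⟩)
    ⟨relTransfer π U, fun w hw => by
      have hw' : (w : F) ∈ rel π := (QuotientGroup.eq_one_iff (w : F)).1 (congrArg Subtype.val hw)
      have key : rel π ≤ (relTransfer π U).ker.map π.ker.subtype := by
        rw [Subgroup.commutator_le]
        intro r hr f _
        refine ⟨⟨r, hr⟩ * (⟨f * r * f⁻¹, (inferInstance : π.ker.Normal).conj_mem _ hr f⟩)⁻¹,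
          ?_, ?_⟩
        · show relTransfer π U (_ * _⁻¹) = 1
          rw [map_mul, map_inv, relTransfer_conj π U f ⟨r, hr⟩, mul_inv_cancel]
        · simp [commutatorElement_def, mul_assoc]
      obtain ⟨w', hw'', hww⟩ := key hw'
      rwa [show w = w' from Subtype.ext hww.symm]⟩

lemma coverTransfer_mk (w : π.ker) :
    coverTransfer π U ⟨QuotientGroup.mk (w : F), (MonoidHom.mem_ker.1 w.2 : π w = 1)⟩ =
      relTransfer π U w :=
  MonoidHom.liftOfRightInverse_comp_apply _ _ _ _ w

lemma exists_rel_rep (z : (coverHom π).ker) :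
    ∃ w : π.ker, (z : Cover π) = QuotientGroup.mk (w : F) := by
  obtain ⟨x, hx⟩ := QuotientGroup.mk'_surjective (rel π) z
  exact ⟨⟨x, by have h := z.2; rw [← hx] at h; exact h⟩, hx.symm⟩

lemma coverIncl_coverTransfer (z : (coverHom π).ker) :
    coverIncl π U (coverTransfer π U z) = (z : Cover π) ^ (U.comap π).index := by
  obtain ⟨w, hw⟩ := exists_rel_rep π z
  rw [show z = ⟨QuotientGroup.mk (w : F), (MonoidHom.mem_ker.1 w.2 : π w = 1)⟩ from Subtype.ext hw,
    coverTransfer_mk]
  letI := Subgroup.fintypeQuotientOfFiniteIndex (H := U.comap π)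
  let g : (coverHom (subPres π U)).ker →* Cover π := (coverIncl π U).comp (Subgroup.subtype _)
  have hg : ∀ q : F ⧸ U.comap π, g (conjRelHom π U q.out w) = QuotientGroup.mk (w : F) := by
    intro q
    show QuotientGroup.mk (q.out⁻¹ * (w : F) * q.out) = (QuotientGroup.mk (w : F) : Cover π)
    rw [QuotientGroup.mk_mul, QuotientGroup.mk_mul, mul_assoc, ← Subgroup.mem_center_iff.1
      (ker_coverHom_le_center π (show (QuotientGroup.mk (w : F) : Cover π) ∈ _ from
        (MonoidHom.mem_ker.1 w.2 : π w = 1))) (QuotientGroup.mk q.out), ← mul_assoc,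
      ← QuotientGroup.mk_mul, inv_mul_cancel, QuotientGroup.mk_one, one_mul]
  show g _ = _
  letI : CommGroup g.range :=
    { (inferInstance : Group g.range) with
      mul_comm := by
        rintro ⟨_, a, rfl⟩ ⟨_, b, rfl⟩
        exact Subtype.ext (by simp only [Subgroup.coe_mul, ← map_mul, mul_comm]) }
  show ((g.rangeRestrict (relTransfer π U w) : g.range) : Cover π) = _
  simp only [relTransfer, MonoidHom.finsetProd_apply, map_prod]
  rw [Finset.prod_congr rfl (g := fun _ => g.rangeRestrict (conjRelHom π U (1 : F) w))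
    (fun q _ => Subtype.ext ((hg q).trans (by
      show _ = coverIncl π U (conjRelHom π U (1 : F) w)
      show _ = (QuotientGroup.mk ((1 : F)⁻¹ * (w : F) * 1) : Cover π)
      simp)))]
  rw [Finset.prod_const, Finset.card_univ, ← Nat.card_eq_fintype_card]
  show (coverIncl π U (conjRelHom π U (1 : F) w)) ^ _ = _
  show ((QuotientGroup.mk ((1 : F)⁻¹ * (w : F) * 1)) : Cover π) ^ _ = _
  simp [Subgroup.index]

lemma coverTransfer_mult (m : mult π) :
    (coverTransfer π U ⟨m, mult_le_ker π m.2⟩ : Cover (subPres π U)) ∈ mult (subPres π U) := by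
  refine ⟨(coverTransfer π U _).2, ?_⟩
  obtain ⟨w, hw⟩ := exists_rel_rep π ⟨m, mult_le_ker π m.2⟩
  rw [show (⟨m, mult_le_ker π m.2⟩ : (coverHom π).ker) =
    ⟨QuotientGroup.mk (w : F), (MonoidHom.mem_ker.1 w.2 : π w = 1)⟩ from Subtype.ext hw,
    coverTransfer_mk, ← Abelianization.ker_of]
  show Abelianization.of _ = 1
  have hwF : (w : F) ∈ commutator F := by
    have h1 : (commutator (Cover π)) ≤ (commutator F).map (QuotientGroup.mk' (rel π)) := by
      rw [commutator_def F, Subgroup.map_commutator,
        Subgroup.map_top_of_surjective _ (QuotientGroup.mk'_surjective _), commutator_def]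
    obtain ⟨x, hx, hxw⟩ := h1 m.2.2
    have hxw' : (x : Cover π) = QuotientGroup.mk (w : F) := hxw.trans hw
    have h2 : x⁻¹ * (w : F) ∈ commutator F :=
      Subgroup.commutator_mono le_top le_top (QuotientGroup.eq.1 hxw')
    have := Subgroup.mul_mem _ hx h2
    rwa [mul_inv_cancel_left] at this
  let ψ : U.comap π →* Abelianization (Cover (subPres π U)) :=
    Abelianization.of.comp (QuotientGroup.mk' _)
  have h0 : ψ.transfer (w : F) = 1 := Abelianization.commutator_subset_ker ψ.transfer hwF
  rw [MonoidHom.transfer_def ψ default] at h0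
  refine Eq.trans ?_ h0
  letI := Subgroup.fintypeQuotientOfFiniteIndex (H := U.comap π)
  let h : (coverHom (subPres π U)).ker →* Abelianization (Cover (subPres π U)) :=
    Abelianization.of.comp (Subgroup.subtype _)
  show h (relTransfer π U w) = _
  simp only [relTransfer, MonoidHom.finsetProd_apply, map_prod, Subgroup.leftTransversals.diff]
  refine Fintype.prod_equiv (Equiv.refl _) _ _ fun q => ?_
  simp only [Equiv.refl_apply]
  set t : F := ((default : (U.comap π).LeftTransversal).2.leftQuotientEquiv q : F) with ht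
  have hq : (t : F ⧸ U.comap π) = q :=
    Subgroup.IsComplement.quotientGroupMk_leftQuotientEquiv
      (default : (U.comap π).LeftTransversal).2 q
  rw [conjRelHom_coset π U q.out t ((QuotientGroup.out_eq' q).trans hq.symm)]
  have hfix : ((w : F)⁻¹ • q : F ⧸ U.comap π) = q := by
    rw [← hq]
    show (QuotientGroup.mk ((w : F)⁻¹ * t) : F ⧸ U.comap π) = QuotientGroup.mk t
    rw [QuotientGroup.eq]
    show π (((w : F)⁻¹ * t)⁻¹ * t) ∈ U
    simp [MonoidHom.mem_ker.1 w.2]
  show Abelianization.of (QuotientGroup.mk (conjRel π U t w)) =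
    Abelianization.of (QuotientGroup.mk _)
  refine congrArg (fun x => Abelianization.of (QuotientGroup.mk x)) (Subtype.ext ?_)
  show t⁻¹ * (w : F) * t = t⁻¹ * _
  rw [Subgroup.smul_apply_eq_smul_apply_inv_smul, hfix, mul_assoc]
  rfl

end Cfsg.Agent.Schur

namespace Cfsg.Agent.Schur

open scoped commutatorElement

universe u v

/-- Any presentation by a free group computes the multiplier. -/
lemma multEquiv_multiplier {F : Type u} [Group F] [IsFreeGroup F] {Q : Type v} [Group Q] [Finite Q]
    (π : F →* Q) (hπ : Function.Surjective π) : Nonempty (mult π ≃* Multiplier Q) := by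
  obtain ⟨f, hf⟩ := exists_surj_of_central π hπ (stdHom Q) (stdHom_surjective Q)
    (stdHom_ker_le_center Q)
  obtain ⟨g, hg⟩ := exists_surj_of_central (stdPres Q) (stdPres_surjective Q) (coverHom π)
    (coverHom_surjective π hπ) (ker_coverHom_le_center π)
  exact mulEquiv_of_mutual_surjections f hf g hg

section Maps

variable {F : Type u} [Group F] {G : Type v} [Group G] (π : F →* G) (U : Subgroup G)

/-- Restriction-inclusion on multipliers. -/
def multIncl : mult (subPres π U) →* mult π :=
  ((coverIncl π U).comp (mult (subPres π U)).subtype).codRestrict _ (fun m => ⟨by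
    obtain ⟨x, hx⟩ := QuotientGroup.mk'_surjective (rel (subPres π U)) m
    have h := m.2.1
    show coverHom π (coverIncl π U m) = 1
    rw [← hx] at h ⊢
    exact congrArg Subtype.val h, by
    have h3 : (commutator (Cover (subPres π U))).map (coverIncl π U) ≤ commutator (Cover π) := by
      rw [commutator_def, Subgroup.map_commutator]
      exact Subgroup.commutator_mono le_top le_top
    exact h3 ⟨m, m.2.2, rfl⟩⟩)

variable [(U.comap π).FiniteIndex]

/-- Transfer on multipliers. -/
noncomputable def multTransfer : mult π →* mult (subPres π U) :=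
  ((Subgroup.subtype _).comp ((coverTransfer π U).comp
    (Subgroup.inclusion (mult_le_ker π)))).codRestrict _ (coverTransfer_mult π U)

lemma multIncl_multTransfer (hπ : Function.Surjective π) (m : mult π) :
    multIncl π U (multTransfer π U m) = m ^ U.index := by
  apply Subtype.ext
  show coverIncl π U (coverTransfer π U _) = _
  rw [coverIncl_coverTransfer, Subgroup.index_comap_of_surjective U hπ]
  rfl

end Maps

/-- The exponent of the multiplier divides the group order. -/
lemma pow_card_eq_one {Q : Type v} [Group Q] [Finite Q] (m : Multiplier Q) :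
    m ^ Nat.card Q = 1 := by
  haveI : ((⊥ : Subgroup Q).comap (stdPres Q)).FiniteIndex := ⟨by
    rw [Subgroup.index_comap_of_surjective _ (stdPres_surjective Q)]
    simpa using Nat.card_pos.ne'⟩
  rw [← Subgroup.index_bot, ← multIncl_multTransfer (stdPres Q) ⊥ (stdPres_surjective Q)]
  have hbot : mult (subPres (stdPres Q) (⊥ : Subgroup Q)) = ⊥ := by
    rw [eq_bot_iff]
    refine le_trans inf_le_right ?_
    have hsub : ∀ x : (⊥ : Subgroup Q), x = 1 := fun x => Subtype.ext (Subgroup.mem_bot.1 x.2)
    rw [commutator_def, Subgroup.commutator_le]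
    intro x _ y _
    have hx : x ∈ (coverHom (subPres (stdPres Q) (⊥ : Subgroup Q))).ker := hsub _
    rw [Subgroup.mem_bot, commutatorElement_eq_one_iff_mul_comm]
    exact (Subgroup.mem_center_iff.1 (ker_coverHom_le_center _ hx) y).symm
  have h : multTransfer (stdPres Q) (⊥ : Subgroup Q) m = 1 := by
    have h2 := (multTransfer (stdPres Q) (⊥ : Subgroup Q) m).2
    generalize multTransfer (stdPres Q) (⊥ : Subgroup Q) m = z at h2 ⊢
    apply Subtype.ext
    exact Subgroup.mem_bot.1 (hbot ▸ h2)
  rw [h, map_one]

/-- A quotient of a finite commutative group embeds into it. -/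
lemma exists_injective_of_surjective {A : Type u} {B : Type v} [CommGroup A] [CommGroup B]
    [Finite A] [Finite B] (f : A →* B) (hf : Function.Surjective f) :
    ∃ g : B →* A, Function.Injective g := by
  obtain ⟨eA⟩ := CommGroup.monoidHom_mulEquiv_of_hasEnoughRootsOfUnity A ℂ
  obtain ⟨eB⟩ := CommGroup.monoidHom_mulEquiv_of_hasEnoughRootsOfUnity B ℂ
  let d : (B →* ℂˣ) →* (A →* ℂˣ) := MonoidHom.compHom' f
  have hd : Function.Injective d := fun a b h => MonoidHom.ext fun x => by
    obtain ⟨y, rfl⟩ := hf x
    exact DFunLike.congr_fun h y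
  exact ⟨eA.toMonoidHom.comp (d.comp eB.symm.toMonoidHom),
    eA.injective.comp (hd.comp eB.symm.injective)⟩

end Cfsg.Agent.Schur
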